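import Groth.Agent.Lib.Semiab15.Finite
import Groth.Agent.Lib.Semiab15.Descent
import Groth.Agent.Lib.Semiab15.Apps
import Groth.Agent.Lib.SemiNhd19.Ext
import Groth.Agent.Lib.GrpGen20.CommBound
import Groth.Agent.Lib.TorPts21.FieldDescent
import Mathlib.Algebra.Ring.GeomSum
import Mathlib.GroupTheory.OrderOfElement

/-!
# Automorphisms of finite order of semiabelian groups congruent to one
-/

set_option autoImplicit false
set_option linter.unusedSectionVars false
set_option linter.style.haveILetI false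
set_option backward.isDefEq.respectTransparency.types false
set_option maxHeartbeats 1000000

universe u

open CategoryTheory CategoryTheory.Limits AlgebraicGeometry MonObj MonoidalCategory CartesianMonoidalCategory Polynomial

noncomputable section

namespace Groth.Agent.LMSimple8.SerreLemma

open Groth.Agent.AbelGrp20 (und ofHom)
open Groth.Agent.Semiab15 (IsSA NoTor)

/-- Powers of `1 + nX` modulo `n²`. -/
theorem one_add_pow_mod (n : ℕ) : ∀ i : ℕ, ∃ P : ℤ[X],
    (1 + (n : ℤ[X]) * X) ^ i = 1 + ((i * n : ℕ) : ℤ[X]) * X + (n : ℤ[X]) ^ 2 * P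
  | 0 => ⟨0, by simp⟩
  | i + 1 => by
    obtain ⟨P, hP⟩ := one_add_pow_mod n i
    refine ⟨P + (i : ℤ[X]) * X ^ 2 + (n : ℤ[X]) * X * P, ?_⟩
    rw [pow_succ, hP]
    push_cast
    ring

/-- The sum of the powers modulo `n²`. -/
theorem geom_mod (n : ℕ) : ∀ q : ℕ, ∃ P : ℤ[X], ∑ i ∈ Finset.range q, (1 + (n : ℤ[X]) * X) ^ i =
    (q : ℤ[X]) + ((∑ i ∈ Finset.range q, i : ℕ) : ℤ[X]) * (n : ℤ[X]) * X + (n : ℤ[X]) ^ 2 * P
  | 0 => ⟨0, by simp⟩
  | q + 1 => by
    obtain ⟨P, hP⟩ := geom_mod n q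
    obtain ⟨Q, hQ⟩ := one_add_pow_mod n q
    refine ⟨P + Q, ?_⟩
    rw [Finset.sum_range_succ, hP, hQ, Finset.sum_range_succ]
    push_cast
    ring

/-- In a torsion free ring the relation `Φ_q(u) d = 0`, `u ≡ 1` modulo `n ≥ 3`, gives an `r`-unit killing `d`. -/
theorem exists_factor {n q : ℕ} (hn : 3 ≤ n) (hq : q.Prime) :
    ∃ (r : ℕ) (z c : ℤ[X]) (a : ℕ), r.Prime ∧ 0 < a ∧
      c * ∑ i ∈ Finset.range q, (1 + (n : ℤ[X]) * X) ^ i = (a : ℤ[X]) * (1 + (r : ℤ[X]) * z) := by
  obtain ⟨P, hP⟩ := geom_mod n q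
  by_cases h : ∃ r, r.Prime ∧ r ∣ n ∧ r ≠ q
  · obtain ⟨r, hr, ⟨m, rfl⟩, hrq⟩ := h
    have hcop : IsCoprime (q : ℤ) (r : ℤ) := Nat.isCoprime_iff_coprime.2 ((Nat.coprime_primes hq hr).2 hrq.symm)
    obtain ⟨s, t, hst⟩ := hcop
    refine ⟨r, -(t : ℤ[X]) + (s : ℤ[X]) * ((∑ i ∈ Finset.range q, i : ℕ) : ℤ[X]) * (m : ℤ[X]) * X +
      (s : ℤ[X]) * (r : ℤ[X]) * (m : ℤ[X]) ^ 2 * P, (s : ℤ[X]), 1, hr, one_pos, ?_⟩
    have h1 : (s : ℤ[X]) * (q : ℤ[X]) + (t : ℤ[X]) * (r : ℤ[X]) = 1 := by exact_mod_cast congrArg (Int.cast (R := ℤ[X])) hst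
    rw [hP]
    push_cast
    linear_combination h1
  · push Not at h
    obtain ⟨r, hr, hrn⟩ := Nat.exists_prime_and_dvd (show n ≠ 1 by omega)
    obtain rfl : r = q := h r hr hrn
    obtain ⟨m, rfl⟩ := hrn
    have hS : (∑ i ∈ Finset.range r, i) * 2 = r * (r - 1) := Finset.sum_range_id_mul_two r
    rcases hr.eq_two_or_odd' with h2 | hodd
    · subst h2
      obtain ⟨m', rfl⟩ : 2 ∣ m := by
        by_contra hm
        obtain ⟨p, hp, hpm⟩ := Nat.exists_prime_and_dvd (show m ≠ 1 by omega)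
        exact hm (h p hp (hpm.mul_left 2) ▸ hpm)
      refine ⟨2, (m' : ℤ[X]) * X + 4 * (m' : ℤ[X]) ^ 2 * P, 1, 2, Nat.prime_two, two_pos, ?_⟩
      rw [hP]
      norm_num [Finset.sum_range_succ]
      ring
    · obtain ⟨e, he⟩ := hodd
      have hS' : (∑ i ∈ Finset.range r, i) = r * e := by
        rw [show r - 1 = e * 2 by omega, ← _root_.mul_assoc] at hS
        exact Nat.eq_of_mul_eq_mul_right two_pos hS
      refine ⟨r, (e : ℤ[X]) * (m : ℤ[X]) * X + (m : ℤ[X]) ^ 2 * P, 1, r, hr, hr.pos, ?_⟩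
      rw [hP, hS']
      push_cast
      ring

variable {k : Type u} [Field k]

/-- A semiabelian group without torsion of a prime order is trivial. -/
theorem trivial_of_noTor_closed [IsAlgClosed k] {S : Over (Spec (CommRingCat.of k))} [GrpObj S]
    [LocallyOfFiniteType S.hom] [QuasiCompact S.hom] (hS : IsSA S) {r : ℕ} (hr : r.Prime) (h : NoTor r S) :
    𝟙 S = 1 := by
  obtain ⟨T, _, i, A, _, q, hi, hic, hT, hq, hqs, hqf, hk, hAp, hAs, hAc⟩ := hS
  haveI := hi; haveI := hic; haveI := hq; haveI := hqs; haveI := hqf; haveI := hAp; haveI := hAs; haveI := hAc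
  haveI : Mono i := Over.mono_of_mono_left i
  haveI : QuasiCompact q.left := Semiab15.qc_left q
  haveI := MTExt29.epi_of_cover q
  have hi1 : i = 1 := by rw [← Category.id_comp i, Semiab15.trivial_torus hr hT (Semiab15.noTor_sub h i), MonObj.one_comp]
  obtain ⟨e, he, hqe⟩ := CharTorus15.desc_hom i q hk (𝟙 S) (by rw [Category.comp_id, hi1])
  haveI := he
  have heq : e ≫ q = 𝟙 A := by rw [← cancel_epi q, ← Category.assoc, hqe, Category.id_comp, Category.comp_id]
  haveI : Mono e := ⟨fun x y hxy => by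
    have := congrArg (fun w => w ≫ q) hxy
    simpa only [Category.assoc, heq, Category.comp_id] using this⟩
  rw [← hqe, ← Category.id_comp e, Semiab15.trivial_av hr (Semiab15.noTor_sub h e), MonObj.one_comp,
    MonObj.comp_one]

/-- The same over any field. -/
theorem trivial_of_noTor {S : Over (Spec (CommRingCat.of k))} [GrpObj S] [IsCommMonObj S]
    [LocallyOfFiniteType S.hom] [QuasiCompact S.hom] (hS : IsSA S) {r : ℕ} (hr : r.Prime) (h : NoTor r S) :
    𝟙 S = 1 := by
  let φ := Spec.map (CommRingCat.ofHom (algebraMap k (AlgebraicClosure k)))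
  haveI := Semiab15.isIso_pow h
  haveI : LocallyOfFiniteType (Red.bc φ S).hom := inferInstanceAs (LocallyOfFiniteType (pullback.snd S.hom φ))
  haveI : QuasiCompact (Red.bc φ S).hom := inferInstanceAs (QuasiCompact (pullback.snd S.hom φ))
  haveI : IsIso (𝟙 (Red.bc φ S) ^ r) := by
    have h1 : IsIso ((Over.pullback φ).map (𝟙 S ^ r)) := inferInstance
    rw [Semiab15.map_pow_bc, CategoryTheory.Functor.map_id] at h1
    exact h1
  haveI : IsMonHom (𝟙 (Red.bc φ S) ^ r) := Semiab15.isMonHom_pow _ r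
  have hK := trivial_of_noTor_closed (SemiNhd19.isSA_bc φ hS) hr fun Y y hy => by
    rw [← cancel_mono (𝟙 (Red.bc φ S) ^ r), MonObj.one_comp, MonObj.comp_pow, Category.comp_id, hy]
  refine TorPts21.eq_of_bc (φ := φ) _ _ ?_
  rw [CategoryTheory.Functor.map_id, Functor.map_one]
  exact hK

section Ring

variable {G : Over (Spec (CommRingCat.of k))} [GrpObj G] [IsCommMonObj G] [LocallyOfFiniteType G.hom]
  [QuasiCompact G.hom]

local notation "EG" => CategoryTheory.End (CommGrp.mk G)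

theorem und_mul (f g : EG) : und (f * g) = und g ≫ und f := rfl

theorem und_one : und (1 : EG) = 𝟙 G := rfl

theorem und_add (f g : EG) : und (f + g) = und f * und g := rfl

theorem und_zero : und (0 : EG) = 1 := rfl

theorem und_nsmul : ∀ (m : ℕ) (f : EG), und (m • f) = und f ^ m
  | 0, f => by rw [zero_nsmul, pow_zero]; rfl
  | m + 1, f => by rw [succ_nsmul, pow_succ, und_add, und_nsmul m f]

theorem und_natCast (m : ℕ) : und (m : EG) = 𝟙 G ^ m := by
  rw [← nsmul_one m, und_nsmul, und_one]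

theorem und_natCast_mul (m : ℕ) (f : EG) : und ((m : EG) * f) = und f ^ m := by
  rw [← nsmul_eq_mul, und_nsmul]

variable (hG : IsSA G)
include hG

theorem eq_zero_of_natCast_mul {m : ℕ} (hm : 0 < m) (f : EG) (h : (m : EG) * f = 0) : f = 0 := by
  obtain ⟨h1, h2⟩ := Semiab15.flat_surjective_pow hG hm
  haveI := h1; haveI := h2
  haveI : QuasiCompact (𝟙 G ^ m).left := Semiab15.qc_left _
  haveI := MTExt29.epi_of_cover (𝟙 G ^ m)
  refine CommGrp.hom_ext _ _ ?_
  show und f = und (0 : EG)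
  rw [und_zero, ← cancel_epi (𝟙 G ^ m), MonObj.comp_one, Isogeny14.hom_pow_comp (und f) (𝟙 G),
    Category.id_comp, ← und_natCast_mul, h]
  rfl

/-- A prime-order element congruent to one modulo `n ≥ 3` is one. -/
theorem eq_one_of_prime {n q : ℕ} (hn : 3 ≤ n) (hq : q.Prime) (v : EG)
    (hv : (1 + (n : EG) * v) ^ q = 1) : (n : EG) * v = 0 := by
  classical
  obtain ⟨r, z, c, a, hr, ha, hfac⟩ := exists_factor hn hq
  let f := aeval v (R := ℤ) (A := EG)
  have hX : f X = v := aeval_X v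
  let d : EG := f ((n : ℤ[X]) * X)
  have hd : d = (n : EG) * v := by simp [d, hX]
  have h0 : f (((1 + (n : ℤ[X]) * X) ^ q - 1) * c) = 0 := by
    rw [map_mul, map_sub, map_pow, map_add, map_mul, map_one, map_natCast, hX, hv, sub_self, zero_mul]
  have h1 : (a : EG) * f ((1 + (r : ℤ[X]) * z) * ((n : ℤ[X]) * X)) = 0 := by
    rw [← map_natCast f, ← map_mul, ← h0]
    congr 1
    rw [← geom_sum_mul]
    linear_combination -((n : ℤ[X]) * X) * hfac
  have h2 := eq_zero_of_natCast_mul hG ha _ h1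
  rw [map_mul, map_add, map_one, map_mul, map_natCast] at h2
  set w := f z
  change (1 + (r : EG) * w) * d = 0 at h2
  obtain ⟨I, _, m, p, hm, hmc, hp, hps, hpm, hI⟩ := Semiab15.isSA_image hG (und d)
  haveI := hm; haveI := hmc; haveI := hp; haveI := hps
  haveI : Mono m := Over.mono_of_mono_left m
  haveI := AbelGrp20.isCommMonObj_of_mono m
  haveI : LocallyOfFiniteType I.hom := by rw [← Over.w m]; infer_instance
  haveI : QuasiCompact I.hom := by rw [← Over.w m]; infer_instance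
  obtain ⟨hIs, -⟩ := Semiab15.isSA_smooth_connected hI
  haveI := hIs
  haveI : IsReduced I.left := OrbitTop19.isReduced_of_smooth I.hom
  haveI : IsSeparated G.hom := AbRigid.isSeparated_of_grpObj G
  haveI : IsSeparated I.hom := AbRigid.isSeparated_of_grpObj I
  haveI : Flat p.left := AbRigid.flat_of_surjective_of_isReduced G I p
  haveI : QuasiCompact p.left := Semiab15.qc_left p
  haveI := MTExt29.epi_of_cover p
  have h3 : m ≫ und (1 + (r : EG) * w) = 1 := by
    rw [← cancel_epi p, MonObj.comp_one, ← Category.assoc, hpm, ← und_mul, h2]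
    rfl
  have hI1 : 𝟙 I = 1 := trivial_of_noTor hI hr fun Y y hy => by
    rw [← cancel_mono m, MonObj.one_comp]
    have h4 : (y ≫ m) ≫ und (1 + (r : EG) * w) = 1 := by rw [Category.assoc, h3, MonObj.comp_one]
    rw [und_add, MonObj.comp_mul, und_one, Category.comp_id, und_natCast_mul] at h4
    have h5 : (y ≫ m) ≫ (und w ^ r) = 1 := by
      rw [MonObj.comp_pow, ← Isogeny14.hom_pow_comp (und w), ← Isogeny14.hom_pow_comp m, hy, MonObj.one_comp,
        MonObj.one_comp]
    rw [h5, _root_.mul_one] at h4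
    exact h4
  rw [← hd]
  refine CommGrp.hom_ext _ _ ?_
  show und d = und (0 : EG)
  rw [und_zero, ← hpm, ← Category.comp_id p, hI1, MonObj.comp_one, MonObj.one_comp]

/-- Congruences survive powers. -/
theorem exists_pow_congr {R : Type*} [Ring R] (n : ℕ) (v : R) (e : ℕ) : ∃ v' : R, (1 + (n : R) * v) ^ e = 1 + (n : R) * v' := by
  induction e with
  | zero => exact ⟨0, by simp⟩
  | succ e ih =>
    obtain ⟨w, hw⟩ := ih
    refine ⟨w + v + (n : R) * w * v, ?_⟩
    rw [pow_succ, hw]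
    have hc : w * (n : R) = (n : R) * w := (Nat.cast_commute n w).symm.eq
    calc (1 + (n : R) * w) * (1 + (n : R) * v)
        = 1 + (n : R) * w + (n : R) * v + (n : R) * (w * (n : R)) * v := by noncomm_ring
      _ = _ := by rw [hc]; noncomm_ring

/-- A finite-order element congruent to one modulo `n ≥ 3` is one. -/
theorem eq_one_of_congr {n N : ℕ} (hn : 3 ≤ n) (hN : 0 < N) (v : EG) (hv : (1 + (n : EG) * v) ^ N = 1) :
    1 + (n : EG) * v = 1 := by
  by_contra hne
  have ho : IsOfFinOrder (1 + (n : EG) * v) := isOfFinOrder_iff_pow_eq_one.2 ⟨N, hN, hv⟩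
  have h1 : orderOf (1 + (n : EG) * v) ≠ 1 := fun h => hne (orderOf_eq_one_iff.1 h)
  obtain ⟨q, hq, e, he⟩ := Nat.exists_prime_and_dvd h1
  obtain ⟨v', hv'⟩ := exists_pow_congr hG n v e
  have h2 := eq_one_of_prime hG hn hq v' (by rw [← hv', ← pow_mul, mul_comm, ← he, pow_orderOf_eq_one])
  rw [h2, add_zero] at hv'
  have h3 : q * e ∣ e := he ▸ orderOf_dvd_of_pow_eq_one hv'
  have hep : 0 < e := by
    rcases Nat.eq_zero_or_pos e with rfl | h
    · rw [mul_zero] at he; exact absurd he ho.orderOf_pos.ne'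
    · exact h
  have := Nat.le_of_dvd hep h3
  nlinarith [hq.two_le]

/-- An endomorphism trivial on the `n`-torsion is a multiple of `n`. -/
theorem exists_div {n : ℕ} (hn : 0 < n) (f : EG)
    (hf : ∀ (T : Over (Spec (CommRingCat.of k))) (x : T ⟶ G), x ^ n = 1 → x ≫ und f = 1) :
    ∃ v : EG, f = (n : EG) * v := by
  obtain ⟨h1, h2⟩ := Semiab15.flat_surjective_pow hG hn
  haveI := h1; haveI := h2
  haveI : QuasiCompact (𝟙 G ^ n).left := Semiab15.qc_left _
  haveI := Semiab15.isMonHom_pow (𝟙 G) n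
  obtain ⟨K, _, ν, hν, -, hk⟩ := CharTorus15.exists_kernel (𝟙 G ^ n)
  have hνn : ν ^ n = 1 := by
    have := CharTorus15.comp_eq_one hk
    rwa [MonObj.comp_pow, Category.comp_id] at this
  obtain ⟨e, he, hne⟩ := CharTorus15.desc_hom ν (𝟙 G ^ n) hk (und f) (hf K ν hνn)
  haveI := he
  refine ⟨ofHom e, CommGrp.hom_ext _ _ ?_⟩
  show und f = und ((n : EG) * ofHom e)
  rw [und_natCast_mul, ← hne, Isogeny14.hom_pow_comp e (𝟙 G), Category.id_comp]
  rfl

end Ring

end Groth.Agent.LMSimple8.SerreLemma
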