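import Mathlib.LinearAlgebra.Matrix.Determinant.Basic
import Mathlib.LinearAlgebra.Dimension.Localization
import Mathlib.LinearAlgebra.FreeModule.PID
import Mathlib.RingTheory.Localization.FractionRing
import Mathlib.RingTheory.Localization.Module
import Mathlib.RingTheory.SimpleModule.Basic
import Mathlib.RingTheory.DiscreteValuationRing.Basic
import Mathlib.LinearAlgebra.Basis.VectorSpace
import Mathlib.LinearAlgebra.Dual.Lemmas
import Mathlib.LinearAlgebra.Matrix.NonsingularInverse
import Mathlib.LinearAlgebra.FiniteDimensional.Lemmas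

/-!
# Lattices, kernels and images, and a determinant of colength one
-/

set_option autoImplicit false
set_option linter.style.haveILetI false

open Module Matrix

universe u v

namespace Groth.Agent.LMSimple8

/-- A subspace of coordinates is projected isomorphically by some coordinates. -/
theorem exists_proj {K : Type u} [Field K] {ι : Type v} [Fintype ι] (W : Submodule K (ι → K)) :
    ∃ σ : Fin (finrank K W) → ι, Function.Bijective fun w : W => fun j => (w : ι → K) (σ j) := by
  classical
  let f : ι → Module.Dual K W := fun i => (LinearMap.proj i).comp W.subtype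
  have hf : Submodule.span K (Set.range f) = ⊤ := by
    rw [← Subspace.dualAnnihilator_inj, Submodule.dualAnnihilator_top, eq_bot_iff]
    intro Φ hΦ
    obtain ⟨w, rfl⟩ := (Module.evalEquiv K W).surjective Φ
    have : w = 0 := Subtype.ext (funext fun i =>
      (Submodule.mem_dualAnnihilator _).1 hΦ (f i) (Submodule.subset_span ⟨i, rfl⟩))
    rw [this, map_zero]
    exact Submodule.zero_mem _
  obtain ⟨t, ht, hspan, hli⟩ := exists_linearIndependent K (Set.range f)
  rw [hf] at hspan
  haveI : Fintype t := ((Set.finite_range f).subset ht).fintype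
  let b : Basis t K (Module.Dual K W) := Basis.mk hli (by rw [Subtype.range_coe_subtype, Set.setOf_mem_eq, hspan])
  have hc : Fintype.card t = finrank K W := by rw [← Module.finrank_eq_card_basis b, Subspace.dual_finrank_eq]
  let eqv := (Fintype.equivFinOfCardEq hc).symm
  choose σ hσ using fun j : Fin (finrank K W) => ht (eqv j).2
  let g : W →ₗ[K] (Fin (finrank K W) → K) := LinearMap.pi fun j => f (σ j)
  have hinj : Function.Injective g := by
    rw [injective_iff_map_eq_zero]
    intro w hw
    refine (Module.forall_dual_apply_eq_zero_iff K w).1 fun φ => ?_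
    have h0 : Module.Dual.eval K W w = 0 := b.ext fun s => by
      rw [Basis.mk_apply]
      have := congrFun hw (eqv.symm s)
      simp only [g, LinearMap.pi_apply, hσ, Equiv.apply_symm_apply, Pi.zero_apply] at this
      exact this
    exact LinearMap.congr_fun h0 φ
  have hd : finrank K W = finrank K (Fin (finrank K W) → K) := (Module.finrank_fin_fun K).symm
  exact ⟨σ, hinj, (LinearMap.injective_iff_surjective_of_finrank_eq_finrank hd).1 hinj⟩

/-- Kernel and image bases of an endomorphism of a lattice. -/
theorem exists_adapted {R : Type u} [CommRing R] [IsDomain R] [IsPrincipalIdealRing R] {K : Type u} [Field K]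
    [Algebra R K] [IsFractionRing R K] {Λ V : Type u} [AddCommGroup Λ] [Module R Λ] [AddCommGroup V]
    [Module K V] [Module R V] [IsScalarTower R K V] [FiniteDimensional K V]
    {ι : Type v} [Fintype ι] (b₀ : Basis ι R Λ) (hι : Fintype.card ι = finrank K V)
    (σ : Λ →ₗ[R] V) (hσ : Function.Injective σ) (φ : V →ₗ[K] V) (φΛ : Λ →ₗ[R] Λ) (hc : ∀ u, σ (φΛ u) = φ (σ u)) :
    ∃ b : Basis (Fin (finrank K (LinearMap.ker φ)) ⊕ Fin (finrank K (LinearMap.range φ))) R Λ,
      (∀ i, φΛ (b (Sum.inl i)) = 0) ∧
      LinearIndependent K (fun i => σ (b (Sum.inl i))) ∧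
      LinearIndependent K (fun i => σ (φΛ (b (Sum.inr i)))) := by
  classical
  obtain ⟨m, bK⟩ := Submodule.basisOfPid b₀ (LinearMap.ker φΛ)
  obtain ⟨l, bI⟩ := Submodule.basisOfPid b₀ (LinearMap.range φΛ)
  choose c hcI using fun i => LinearMap.mem_range.1 (bI i).2
  let fam : Fin m ⊕ Fin l → Λ := Sum.elim (fun i => (bK i : Λ)) c
  have hφc : ∀ (a : Fin l → R), φΛ (∑ i, a i • c i) = ∑ i, a i • (bI i : Λ) := fun a => by
    simp only [map_sum, map_smul, hcI]
  have hK0 : ∀ (a : Fin m → R), φΛ (∑ i, a i • (bK i : Λ)) = 0 := fun a => by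
    simp only [map_sum, map_smul, LinearMap.mem_ker.1 (bK _).2, smul_zero, Finset.sum_const_zero]
  have hli : LinearIndependent R fam := by
    refine Fintype.linearIndependent_iff.2 fun a ha => ?_
    rw [Fintype.sum_sum_type] at ha
    simp only [fam, Sum.elim_inl, Sum.elim_inr] at ha
    have h1 := congrArg φΛ ha
    rw [map_add, hK0, hφc, zero_add, map_zero] at h1
    have hr : ∀ i, a (Sum.inr i) = 0 := Fintype.linearIndependent_iff.1 bI.linearIndependent _
      (Subtype.ext (by simpa [Submodule.coe_sum] using h1))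
    simp only [hr, zero_smul, Finset.sum_const_zero, add_zero] at ha
    have hl : ∀ i, a (Sum.inl i) = 0 := Fintype.linearIndependent_iff.1 bK.linearIndependent _
      (Subtype.ext (by simpa [Submodule.coe_sum] using ha))
    rintro (i | i) <;> simp [hl, hr]
  have hsp : ⊤ ≤ Submodule.span R (Set.range fam) := fun u _ => by
    let y : LinearMap.range φΛ := ⟨φΛ u, u, rfl⟩
    have hy : φΛ u = ∑ i, bI.repr y i • (bI i : Λ) := by
      conv_lhs => rw [show φΛ u = (y : Λ) from rfl, ← bI.sum_repr y]
      simp only [Submodule.coe_sum, Submodule.coe_smul]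
    have hk : u - ∑ i, bI.repr y i • c i ∈ LinearMap.ker φΛ := by
      rw [LinearMap.mem_ker, map_sub, hφc, ← hy, sub_self]
    have hz := congrArg Subtype.val (bK.sum_repr ⟨_, hk⟩)
    simp only [Submodule.coe_sum, Submodule.coe_smul] at hz
    rw [show u = (∑ i, bK.repr ⟨_, hk⟩ i • (bK i : Λ)) + ∑ i, bI.repr y i • c i by rw [hz, sub_add_cancel]]
    exact add_mem (Submodule.sum_mem _ fun i _ => Submodule.smul_mem _ _ (Submodule.subset_span ⟨Sum.inl i, rfl⟩))
      (Submodule.sum_mem _ fun i _ => Submodule.smul_mem _ _ (Submodule.subset_span ⟨Sum.inr i, rfl⟩))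
  let b : Basis (Fin m ⊕ Fin l) R Λ := Basis.mk hli hsp
  have hK : LinearIndependent K fun i => σ (bK i : Λ) :=
    (LinearIndependent.iff_fractionRing R K).1 ((bK.linearIndependent.map' _ (Submodule.ker_subtype _)).map' σ
      (LinearMap.ker_eq_bot.2 hσ))
  have hI : LinearIndependent K fun i => σ (bI i : Λ) :=
    (LinearIndependent.iff_fractionRing R K).1 ((bI.linearIndependent.map' _ (Submodule.ker_subtype _)).map' σ
      (LinearMap.ker_eq_bot.2 hσ))
  have hm : m ≤ finrank K (LinearMap.ker φ) := by
    have h : LinearIndependent K fun i => (⟨σ (bK i : Λ), by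
        rw [LinearMap.mem_ker, ← hc, LinearMap.mem_ker.1 (bK i).2, map_zero]⟩ : LinearMap.ker φ) :=
      LinearIndependent.of_comp (LinearMap.ker φ).subtype hK
    simpa using h.fintype_card_le_finrank
  have hl : l ≤ finrank K (LinearMap.range φ) := by
    have h : LinearIndependent K fun i => (⟨σ (bI i : Λ), σ (c i), by rw [← hc, hcI]⟩ : LinearMap.range φ) :=
      LinearIndependent.of_comp (LinearMap.range φ).subtype hI
    simpa using h.fintype_card_le_finrank
  have htot : m + l = finrank K V := by
    rw [← hι, ← Fintype.card_congr (b.indexEquiv b₀)]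
    simp
  have hr := φ.finrank_range_add_finrank_ker
  obtain rfl : m = finrank K (LinearMap.ker φ) := by omega
  obtain rfl : l = finrank K (LinearMap.range φ) := by omega
  have hbl : ∀ i, b (Sum.inl i) = bK i := fun i => Basis.mk_apply hli hsp _
  have hbr : ∀ i, φΛ (b (Sum.inr i)) = bI i := fun i => by rw [Basis.mk_apply hli hsp]; exact hcI i
  exact ⟨b, fun i => by rw [hbl]; exact LinearMap.mem_ker.1 (bK i).2, by simpa [hbl] using hK,
    by simpa [hbr] using hI⟩

/-- A square matrix whose columns span the kernel of a surjection to a simple module has prime determinant. -/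
theorem associated_det_of_simple_coker {R : Type u} [CommRing R] [IsDomain R] [IsDiscreteValuationRing R]
    {ι : Type v} [Fintype ι] [DecidableEq ι] {Q : Type u} [AddCommGroup Q] [Module R Q] [IsSimpleModule R Q]
    {ϖ : R} (hϖ : Irreducible ϖ) (ρ : (ι → R) →ₗ[R] Q) (hρ : Function.Surjective ρ) (B : Matrix ι ι R)
    (hB : LinearMap.range B.mulVecLin = LinearMap.ker ρ) : Associated B.det ϖ := by
  classical
  haveI : Nontrivial Q := IsSimpleModule.nontrivial R Q
  obtain ⟨i₀, hi₀⟩ : ∃ i, ρ (Pi.single i 1) ≠ 0 := by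
    by_contra hall
    push Not at hall
    have h0 : ρ = 0 := LinearMap.pi_ext' fun i => LinearMap.ext_ring (by simpa using hall i)
    obtain ⟨q, hq⟩ := exists_ne (0 : Q)
    obtain ⟨a, ha⟩ := hρ q
    exact hq (by rw [← ha, h0, LinearMap.zero_apply])
  let q := ρ (Pi.single i₀ 1)
  have hgen : ∀ z : Q, ∃ r : R, r • q = z := fun z => by
    have h := (eq_bot_or_eq_top (Submodule.span R {q})).resolve_left fun h => hi₀ (by simpa using h)
    exact Submodule.mem_span_singleton.1 (h.ge (Submodule.mem_top (x := z)))
  have hϖ0 : ∀ z : Q, ϖ • z = 0 := fun z => by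
    rcases eq_bot_or_eq_top (LinearMap.range (LinearMap.lsmul R Q ϖ)) with h | h
    · exact (Submodule.eq_bot_iff _).1 h _ ⟨z, rfl⟩
    · exfalso
      obtain ⟨w, hw⟩ := h.ge (Submodule.mem_top (x := q))
      obtain ⟨r, rfl⟩ := hgen w
      have h1 : (ϖ * r - 1) • q = 0 := by
        rw [sub_smul, one_smul, mul_smul]
        exact sub_eq_zero.2 hw
      refine hi₀ ?_
      have hu : IsUnit (ϖ * r - 1) := by
        have hn : ¬ IsUnit (ϖ * r) := fun hu => hϖ.not_isUnit (isUnit_of_mul_isUnit_left hu)
        have h2 := IsLocalRing.isUnit_one_sub_self_of_mem_nonunits _ hn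
        simpa using h2.neg
      exact hu.smul_eq_zero.1 h1
  choose a ha using fun j => hgen (ρ (Pi.single j 1))
  let r : ι → R := fun j => if j = i₀ then ϖ else - a j
  let M : Matrix ι ι R := (1 : Matrix ι ι R).updateRow i₀ r
  have hdetM : M.det = ϖ := by
    have h := Matrix.det_updateRow_sum (1 : Matrix ι ι R) i₀ r
    have hr : (∑ k, r k • (1 : Matrix ι ι R) k) = r := funext fun j => by
      rw [Finset.sum_apply]
      simp [Matrix.one_apply]
    rw [hr, det_one, smul_eq_mul, mul_one] at h
    rw [h]
    exact if_pos rfl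
  have hsum : ∀ v : ι → R, ρ v = ∑ i, v i • ρ (Pi.single i 1) := fun v => by
    conv_lhs => rw [← Finset.univ_sum_single v]
    rw [map_sum]
    refine Finset.sum_congr rfl fun i _ => ?_
    rw [← map_smul]
    congr 1
    ext j
    simp [Pi.single_apply]
  have hcol : ∀ j, ρ (M.col j) = 0 := fun j => by
    rw [hsum, ← Finset.add_sum_erase _ _ (Finset.mem_univ i₀)]
    have hrest : ∀ i ∈ Finset.univ.erase i₀, M.col j i • ρ (Pi.single i 1) =
        if j = i then ρ (Pi.single i 1) else 0 := fun i hi => by
      simp only [M, Matrix.col_apply, Matrix.updateRow_ne (Finset.ne_of_mem_erase hi), Matrix.one_apply]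
      by_cases h : i = j
      · subst h; simp
      · rw [if_neg h, if_neg (Ne.symm h), zero_smul]
    rw [Finset.sum_congr rfl hrest, show M.col j i₀ = r j from by
      simp [M, Matrix.col_apply, Matrix.updateRow_self]]
    by_cases h : j = i₀
    · subst h
      simp [r, hϖ0]
    · rw [Finset.sum_ite_eq, if_pos (Finset.mem_erase.2 ⟨h, Finset.mem_univ _⟩)]
      simp [r, h, ha j, q]
  have hdvd : B.det ∣ ϖ := by
    choose U hU using fun j => LinearMap.mem_range.1 (hB.ge (LinearMap.mem_ker.2 (hcol j)))
    refine ⟨(Matrix.of fun i j => U j i).det, ?_⟩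
    rw [← hdetM, ← det_mul]
    congr 1
    ext i j
    have := congrFun (hU j) i
    simp only [Matrix.mulVecLin_apply, Matrix.mulVec, dotProduct, Matrix.col_apply] at this
    simp only [Matrix.mul_apply, Matrix.of_apply]
    exact this.symm
  have hnu : ¬ IsUnit B.det := fun hu => by
    have : Function.Surjective B.mulVecLin := fun v => ⟨B⁻¹ *ᵥ v, by
      rw [Matrix.mulVecLin_apply, Matrix.mulVec_mulVec, Matrix.mul_nonsing_inv _ hu, Matrix.one_mulVec]⟩
    obtain ⟨w, hw⟩ := this (Pi.single i₀ 1)
    exact hi₀ (LinearMap.mem_ker.1 (hB.le ⟨w, hw⟩))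
  exact ((hϖ.dvd_iff.1 hdvd).resolve_left hnu).symm

end Groth.Agent.LMSimple8
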