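import Groth.Agent.Lib.LMSimple8.Castelnuovo
import Groth.Agent.Lib.NormBlow32.Apply
import Groth.Agent.Lib.PointBlowUp32.Embed
import Groth.Agent.Lib.BlowUpFib6.Basic
import Groth.Agent.Lib.Fibration13.Basic
import Groth.Agent.Lib.RootExt25.Point
import Groth.Prelude.Def_CurvBase

/-!
# Blowing up the maximal ideal of a rational surface singularity gives a normal scheme
-/

set_option autoImplicit false
set_option linter.style.haveILetI false
set_option linter.unusedSectionVars false
set_option backward.isDefEq.respectTransparency false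
set_option backward.isDefEq.respectTransparency.types false
set_option maxHeartbeats 2000000

universe u

open CategoryTheory CategoryTheory.Limits AlgebraicGeometry TopologicalSpace Opposite

noncomputable section

namespace Groth.Agent.LMSimple8.BlowNormal

open Groth.Agent.LMSimple8.Castelnuovo (rs)
open Groth.Agent.BlowUpExist Groth.Agent.BlowUpExist.ChartIdx
open Groth.Agent.PointBlowUp (gsec cidx fres fsec)

theorem res_rs {X : Scheme.{u}} {W V : X.Opens} (hle : W ≤ V) (z : Γ(X, (⊤ : X.Opens))) :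
    X.presheaf.map (homOfLE hle).op (rs V z) = rs W z := by
  show X.presheaf.map _ (X.presheaf.map _ z) = _
  rw [← CategoryTheory.comp_apply, ← Functor.map_comp]
  rfl

theorem germ_rs {X : Scheme.{u}} {V : X.Opens} {x : X} (hx : x ∈ V) (z : Γ(X, (⊤ : X.Opens))) :
    X.presheaf.germ V x hx (rs V z) = X.presheaf.germ ⊤ x trivial z :=
  TopCat.Presheaf.germ_res_apply _ _ _ _ _

theorem app_rs {X Y : Scheme.{u}} (ν : X ⟶ Y) (U : Y.Opens) (z : Γ(Y, (⊤ : Y.Opens))) :
    ν.app U (rs U z) = rs (ν ⁻¹ᵁ U) (ν.appTop z) :=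
  ConcreteCategory.congr_hom (ν.naturality (homOfLE (le_top : U ≤ ⊤)).op) z

theorem isNormalScheme_blowUp (A : Type u) [CommRing A] [IsDomain A] [IsLocalRing A] [IsNoetherianRing A]
    [IsIntegrallyClosed A] (hN : CAlg.IsNagata A) (hdim : ringKrullDim A = 2) (hA : Curv2.IsRationalSing A)
    (X : Scheme.{u}) (b : X ⟶ Spec (CommRingCat.of A))
    (hb : BlowUp.IsBlowUp b (Curv2.idealSheaf A (IsLocalRing.maximalIdeal A))) :
    Pi1.IsNormalScheme X := by
  classical
  let S := Spec (CommRingCat.of A)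
  let C := Curv2.idealSheaf A (IsLocalRing.maximalIdeal A)
  let em : A →+* Γ(S, (⊤ : S.Opens)) := (Scheme.ΓSpecIso (CommRingCat.of A)).inv.hom
  have hCm : C.ideal ⟨⊤, isAffineOpen_top S⟩ = (IsLocalRing.maximalIdeal A).map em := by
    simp [C, S, em, Curv2.idealSheaf, Scheme.IdealSheafData.ofIdealTop_ideal]
  obtain ⟨n, a, ha⟩ : ∃ (n : ℕ) (a : Fin (n + 1) → A), Ideal.span (Set.range a) = IsLocalRing.maximalIdeal A := by
    obtain ⟨n, s, hs⟩ := Submodule.fg_iff_exists_fin_generating_family.1 (IsNoetherian.noetherian (IsLocalRing.maximalIdeal A))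
    refine ⟨n, Fin.cons 0 s, ?_⟩
    rw [Fin.range_cons, Ideal.span_insert_zero]
    exact hs
  have hC : C.ideal ⟨⊤, isAffineOpen_top _⟩ = Ideal.span (Set.range (gsec a)) := by
    rw [hCm, ← ha, Ideal.map_span, ← Set.range_comp]
    rfl
  haveI : IsProper b := BlowUpExist.isProper_of_affine
    ⟨Finset.univ.image (gsec a), by rw [hC, Finset.coe_image, Finset.coe_univ, Set.image_univ]⟩ hb
  -- the generic point of the base is outside the centre
  have hm : IsLocalRing.maximalIdeal A ≠ ⊥ := fun h => by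
    have h0 := ringKrullDim_eq_zero_of_isField ((IsLocalRing.isField_iff_maximalIdeal_eq).2 h)
    rw [hdim] at h0
    exact absurd h0 (by norm_num)
  obtain ⟨k₀, hk₀⟩ : ∃ k, a k ≠ 0 := by
    by_contra hne
    push Not at hne
    refine hm ?_
    rw [← ha, Ideal.span_eq_bot]
    rintro _ ⟨k, rfl⟩
    exact hne k
  have hgen0 : genericPoint S ∉ C.support := fun hs => by
    have h1 := (Scheme.IdealSheafData.mem_support_iff_of_mem (U := ⟨⊤, isAffineOpen_top S⟩) trivial).1 hs
    rw [Scheme.mem_zeroLocus_iff] at h1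
    refine h1 (gsec a k₀) (hC ▸ Ideal.subset_span ⟨k₀, rfl⟩) ?_
    have hne : S.basicOpen (gsec a k₀) ≠ ⊥ := fun h => hk₀ (by
      have := (basicOpen_eq_bot_iff _).1 h
      exact (ConcreteCategory.bijective_of_isIso (Scheme.ΓSpecIso (CommRingCat.of A)).inv).1
        (this.trans (map_zero em).symm))
    exact CurveBlowUp.generic_mem (Set.nonempty_iff_ne_empty.2 fun h => hne (Opens.ext h))
  let U₁ : S.Opens := EffCartier.cmpl C
  haveI := EffCartier.isIso_blowUp_restrict hb
  have hηU₁ : genericPoint S ∈ U₁ := hgen0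
  haveI : IsIso (b ∣_ U₁) := inferInstanceAs (IsIso (b ∣_ EffCartier.cmpl C))
  haveI : Nonempty X := by
    obtain ⟨w, -⟩ := (b ∣_ U₁).surjective ⟨_, hηU₁⟩
    exact ⟨(b ⁻¹ᵁ U₁).ι w⟩
  obtain ⟨hXint, -, -⟩ := BlowUpFib6.isIntegral_of_isBlowUp hb
  haveI := hXint
  haveI : IsLocallyNoetherian X := LocallyOfFiniteType.isLocallyNoetherian b
  haveI : CompactSpace X := QuasiCompact.compactSpace_of_compactSpace b
  haveI : IsNoetherian X := {}
  have hNS : ∀ U : S.affineOpens, CAlg.IsNagata Γ(S, U.1) := fun U => by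
    haveI : IsAffine S := inferInstance
    have htop : CAlg.IsNagata Γ(S, (⊤ : S.Opens)) := CAlgLow.isNagata_of_surjective hN em
      (ConcreteCategory.bijective_of_isIso (Scheme.ΓSpecIso (CommRingCat.of A)).inv).2
    exact Groth.Agent.S9833.result S (ι := PUnit.{u+1}) (fun _ => ⊤) (by simp)
      (fun _ => isAffineOpen_top S) (fun _ => htop) U.1 U.2
  have hNX := NormBlow.isNagata_of_lft hNS b
  haveI : QuasiCompact (X.fromSpecStalk (genericPoint X)) := inferInstance
  haveI : QuasiSeparated (X.fromSpecStalk (genericPoint X)) := inferInstance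
  obtain ⟨hνfin, hX', hX'n, W₀, hW₀, hW₀i⟩ := NormBlow.normalization_props X hNX
  let X' := Curv2.normalization X
  let ν : X' ⟶ X := Curv2.normalizationι X
  haveI : IsFinite ν := hνfin
  haveI : IsIntegral X' := hX'
  haveI : IsIso (ν ∣_ W₀) := hW₀i
  let f : X' ⟶ S := ν ≫ b
  haveI : IsProper f := inferInstanceAs (IsProper (ν ≫ b))
  -- an open of the base over which `f` is an isomorphism
  let U₀ : S.Opens := U₁ ⊓ ⟨(b '' (W₀ : Set X)ᶜ)ᶜ, (b.isClosedMap _ W₀.isOpen.isClosed_compl).isOpen_compl⟩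
  have hU₀ : (U₀ : Set S).Nonempty := ⟨genericPoint S, hηU₁, fun ⟨w, hw, hwg⟩ => hw (by
    rw [NormBlow.eq_generic b (V := U₁) ⟨_, hηU₁⟩ hwg]
    exact CurveBlowUp.generic_mem hW₀)⟩
  have hpre : b ⁻¹ᵁ U₀ ≤ W₀ := fun w hw => by
    by_contra hwW
    exact hw.2 ⟨w, hwW, rfl⟩
  haveI : IsIso (ν ∣_ (b ⁻¹ᵁ U₀)) := CurveBlowUp.isIso_restrict_of_le ν hpre
  haveI : IsIso (b ∣_ U₀) := CurveBlowUp.isIso_restrict_of_le b inf_le_left
  haveI hf₀ : IsIso (f ∣_ U₀) := by
    show IsIso ((ν ≫ b) ∣_ U₀)
    rw [morphismRestrict_comp]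
    infer_instance
  have hO := hA X' f inferInstance inferInstance hX'n ⟨U₀, hU₀, hf₀⟩
  have h2 := fun (G : X'.Modules) (hG : Coh.IsQCoh G) =>
    RegRat.subsingleton_HH_two_le A hdim.le X' f ⟨U₀, hU₀, hf₀⟩ G hG 2 le_rfl
  haveI : CompactSpace X' := QuasiCompact.compactSpace_of_compactSpace f
  haveI : QuasiSeparatedSpace X' := by
    haveI : IsLocallyNoetherian X' := LocallyOfFiniteType.isLocallyNoetherian f
    infer_instance
  letI : X'.Over (Spec (CommRingCat.of A)) := ⟨f⟩
  -- functions on the normalization are elements of `A`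
  have hY := RootExt25.isNormalScheme_spec A
  have hfg := NormBlow.map_generic f hU₀
  have hfiso : IsIso (f.stalkMap (genericPoint X')) := NormBlow.isIso_stalkMap_generic f hU₀
  have hspec : f.base (genericPoint X') ⤳ genericPoint S := specializes_of_eq hfg
  have hfbij : Function.Bijective (f.app ⊤) := by
    refine Fibration13.bijective_app_of_birational f hY hspec ?_ ⊤
    rw [CohIII.stalkToFunctionField, RingHom.coe_comp]
    haveI : IsIso (S.presheaf.stalkSpecializes hspec) :=
      (S.presheaf.stalkCongr (.of_eq hfg.symm)).isIso_hom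
    exact (ConcreteCategory.bijective_of_isIso (f.stalkMap (genericPoint X'))).comp
      (ConcreteCategory.bijective_of_isIso (S.presheaf.stalkSpecializes hspec))
  let φ : A →+* Γ(X', (⊤ : X'.Opens)) := f.appTop.hom.comp em
  have hφ : Function.Bijective φ :=
    hfbij.comp (ConcreteCategory.bijective_of_isIso (Scheme.ΓSpecIso (CommRingCat.of A)).inv)
  have hsurjf : Function.Surjective f := fun y =>
    (genericPoint_specializes y).mem_closed f.isClosedMap.isClosed_range ⟨genericPoint X', hfg⟩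
  -- charts
  let L : Fin (n + 1) → X.Opens := fun k => (cidx a hC k).locus b
  have hL : ∀ k, IsAffineOpen (L k) := fun k => isAffineOpen_locus hb _
  let V : Fin (n + 1) → X'.Opens := fun k => ν ⁻¹ᵁ L k
  have hV : ∀ k, IsAffineOpen (V k) := fun k => (hL k).preimage ν
  have hcovX : ∀ x : X, ∃ k, x ∈ L k := PointBlowUp.exists_mem_locus a hC hb
  have hcov : ∀ x : X', ∃ k, x ∈ V k := fun x => hcovX (ν x)
  let h : Fin (n + 1) → Γ(X', (⊤ : X'.Opens)) := fun i => φ (a i)
  have hνh : ∀ (U : X.Opens) i, ν.app U (fres a b U i) = rs (ν ⁻¹ᵁ U) (h i) := fun U i => by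
    refine (app_rs ν U (fsec a b i)).trans ?_
    rfl
  have hfdiv : ∀ k i, ∃ c, fres a b (L k) i = c * fres a b (L k) k := fun k i => by
    have h1 : fres a b (L k) i ∈ Ideal.span {fres a b (L k) k} := by
      rw [← PointBlowUp.ideal_locus a hC hb k, PointBlowUp.ideal_eq a hC]
      exact Ideal.subset_span ⟨i, rfl⟩
    obtain ⟨c, hc⟩ := Ideal.mem_span_singleton'.1 h1
    exact ⟨c, hc.symm⟩
  choose c hc using hfdiv
  let c' : ∀ k, Fin (n + 1) → Γ(X', V k) := fun k i => ν.app (L k) (c k i)
  have hc' : ∀ k i, rs (V k) (h i) = c' k i * rs (V k) (h k) := fun k i => by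
    rw [← hνh, ← hνh, ← map_mul, ← hc]
  have hνgen : ν (genericPoint X') = genericPoint X := NormBlow.map_generic ν hW₀
  have hνinj : ∀ U : X.Opens, Function.Injective (ν.app U) := fun U => by
    intro p q hpq
    by_cases hUe : (U : Set X).Nonempty
    swap
    · exact TopCat.Presheaf.section_ext X.sheaf U p q fun x hx => absurd ⟨x, hx⟩ hUe
    have hmem : ν (genericPoint X') ∈ U := hνgen ▸ CurveBlowUp.generic_mem hUe
    haveI := NormBlow.isIso_stalkMap_generic ν hW₀
    have h1 := congrArg (X'.presheaf.germ (ν ⁻¹ᵁ U) (genericPoint X') hmem) hpq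
    rw [← Scheme.Hom.germ_stalkMap_apply, ← Scheme.Hom.germ_stalkMap_apply] at h1
    have h2 := (ConcreteCategory.bijective_of_isIso (ν.stalkMap (genericPoint X'))).1 h1
    exact germ_injective_of_isIntegral X (ν (genericPoint X')) hmem h2
  have hne : ∀ k, ∀ hη : genericPoint X' ∈ V k,
      X'.presheaf.germ (V k) (genericPoint X') hη (rs (V k) (h k)) ≠ 0 := fun k hη h0 => by
    haveI : Nonempty (L k) := ⟨⟨_, hη⟩⟩
    have h1 : rs (V k) (h k) = 0 :=
      germ_injective_of_isIntegral X' (genericPoint X') hη (h0.trans (map_zero _).symm)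
    rw [← hνh] at h1
    exact nonZeroDivisors.ne_zero (PointBlowUp.fres_mem_nzd a hC hb k)
      (hνinj _ (h1.trans (map_zero _).symm))
  -- sections of powers are powers of the maximal ideal
  have hφm : ∀ i, h i ∈ (IsLocalRing.maximalIdeal A).map φ := fun i =>
    Ideal.mem_map_of_mem φ (ha ▸ Ideal.subset_span ⟨i, rfl⟩)
  have claim : ∀ (m : ℕ) (t : Γ(X', (⊤ : X'.Opens))),
      (∀ k, ∃ u, rs (V k) t = rs (V k) (h k) ^ (m + 1) * u) →
      t ∈ ((IsLocalRing.maximalIdeal A) ^ (m + 1)).map φ := by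
    intro m
    induction m with
    | zero =>
      intro t ht
      obtain ⟨a₀, rfl⟩ := hφ.2 t
      rw [zero_add, pow_one]
      refine Ideal.mem_map_of_mem φ ?_
      by_contra hunit
      have hu : IsUnit a₀ := by simpa [IsLocalRing.mem_maximalIdeal] using hunit
      obtain ⟨x, hx⟩ := hsurjf (IsLocalRing.closedPoint A : S)
      obtain ⟨k, hk⟩ := hcov x
      obtain ⟨w, hw⟩ := ht k
      have h1 := congrArg (X'.presheaf.germ (V k) x hk) hw
      rw [map_mul, map_pow, zero_add, pow_one, germ_rs hk, germ_rs hk] at h1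
      have hu' : IsUnit (X'.presheaf.germ ⊤ x trivial (φ a₀)) := (hu.map φ).map _
      rw [h1] at hu'
      have hu'' : IsUnit (X'.presheaf.germ ⊤ x trivial (h k)) := isUnit_of_mul_isUnit_left hu'
      have h3 : X'.presheaf.germ ⊤ x trivial (h k) = f.stalkMap x (S.presheaf.germ ⊤ (f x) trivial (em (a k))) :=
        (Scheme.Hom.germ_stalkMap_apply f ⊤ x trivial _).symm
      rw [h3] at hu''
      have h4 : f x ∈ S.basicOpen (em (a k)) :=
        (Scheme.mem_basicOpen _ _ _ (show f x ∈ (⊤ : S.Opens) from trivial)).2 (hu''.of_map (f.stalkMap x).hom _)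
      rw [hx] at h4
      have h5 : (IsLocalRing.closedPoint A : S) ∈ PrimeSpectrum.basicOpen (a k) := by
        have e1 : S.basicOpen (em (a k)) = PrimeSpectrum.basicOpen (a k) :=
          basicOpen_eq_of_affine (R := CommRingCat.of A) (a k)
        rwa [← e1]
      exact h5 (show a k ∈ IsLocalRing.maximalIdeal A from ha.le (Ideal.subset_span ⟨k, rfl⟩))
    | succ m ih =>
      intro t ht
      obtain ⟨b', hsum, hb'⟩ := Castelnuovo.exists_combination A hO h2 h V hV hcov
        (fun k i => ⟨c' k i, hc' k i⟩) hne m t ht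
      rw [hsum, pow_succ, Ideal.map_mul]
      exact Ideal.sum_mem _ fun i _ => Ideal.mul_mem_mul (ih (b' i) (hb' i)) (hφm i)
  -- functions on a chart of the normalization come from the blow up
  have hsurj : ∀ k, Function.Surjective (ν.app (L k)) := by
    intro k s
    by_cases hkn : (V k : Set X').Nonempty
    swap
    · exact ⟨0, TopCat.Presheaf.section_ext X'.sheaf (V k) _ _ fun x hx => absurd ⟨x, hx⟩ hkn⟩
    have hηk : genericPoint X' ∈ V k := CurveBlowUp.generic_mem hkn
    haveI : Nonempty (V k) := ⟨⟨_, hηk⟩⟩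
    have hDle : ∀ j, X'.basicOpen (c' j k) ≤ V k := fun j => by
      have hEqn := isEqn_locus hb (cidx a hC j)
      have hM : (cidx a hC k).Mem ((X.basicOpen (c j k)).ι ≫ b) :=
        mem_basicOpen_ι (cidx a hC k) hb.1 (V := ⟨L j, hL j⟩) (fun _ _ => trivial) hEqn (c j k)
          ((hc j k).trans (mul_comm _ _))
      have h1 : X.basicOpen (c j k) ≤ L k := le_locus hM
      intro x hx
      rw [show X'.basicOpen (c' j k) = ν ⁻¹ᵁ X.basicOpen (c j k) from (Scheme.preimage_basicOpen ν (c j k)).symm] at hx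
      exact h1 hx
    have hloc : ∀ j, ∃ (M : ℕ) (w : Γ(X', V j)),
        X'.presheaf.map (homOfLE (hDle j)).op s * X'.presheaf.map (homOfLE (X'.basicOpen_le (c' j k))).op (c' j k) ^ M =
          X'.presheaf.map (homOfLE (X'.basicOpen_le (c' j k))).op w := fun j => by
      haveI := (hV j).isLocalization_basicOpen (c' j k)
      obtain ⟨⟨w, ⟨_, M, rfl⟩⟩, hw⟩ := IsLocalization.surj (Submonoid.powers (c' j k))
        (X'.presheaf.map (homOfLE (hDle j)).op s)
      refine ⟨M, w, ?_⟩
      rw [← map_pow]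
      exact hw
    choose M w hw using hloc
    let N := (∑ j, M j) + 1
    have hMN : ∀ j, M j ≤ N := fun j =>
      (Finset.single_le_sum (fun i _ => Nat.zero_le (M i)) (Finset.mem_univ j)).trans (Nat.le_succ _)
    let τ : X'.functionField := X'.presheaf.germ (V k) (genericPoint X') hηk (rs (V k) (h k) ^ N * s)
    let tj : ∀ j, Γ(X', V j) := fun j => rs (V j) (h j) ^ N * (c' j k ^ (N - M j) * w j)
    have htj : ∀ j, ∀ hj : genericPoint X' ∈ V j, X'.presheaf.germ (V j) (genericPoint X') hj (tj j) = τ := by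
      intro j hj
      have hcu : genericPoint X' ∈ X'.basicOpen (c' j k) := by
        refine (Scheme.mem_basicOpen _ _ _ hj).2 ?_
        have e1 := congrArg (X'.presheaf.germ (V j) (genericPoint X') hj) (hc' j k)
        rw [map_mul] at e1
        have hk0 : X'.presheaf.germ (V j) (genericPoint X') hj (rs (V j) (h k)) ≠ 0 := by
          have e2 := hne k hηk
          rw [germ_rs] at e2 ⊢
          exact e2
        refine isUnit_iff_ne_zero.2 fun h0 => hk0 ?_
        rw [e1, h0, zero_mul]
      have e3 := congrArg (X'.presheaf.germ (X'.basicOpen (c' j k)) (genericPoint X') hcu) (hw j)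
      simp only [map_mul, map_pow, TopCat.Presheaf.germ_res_apply] at e3
      have e4 := congrArg (X'.presheaf.germ (V j) (genericPoint X') hj) (hc' j k)
      rw [map_mul, germ_rs, germ_rs] at e4
      simp only [τ, tj, map_mul, map_pow, germ_rs, e4]
      rw [← e3]
      have hp : X'.presheaf.germ (V j) (genericPoint X') hj (c' j k) ^ N =
          X'.presheaf.germ (V j) (genericPoint X') hj (c' j k) ^ (N - M j) *
            X'.presheaf.germ (V j) (genericPoint X') hj (c' j k) ^ M j := by
        rw [← pow_add, Nat.sub_add_cancel (hMN j)]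
      rw [mul_pow, hp]
      ring
    obtain ⟨t, ht⟩ := Fibration13.exists_section (X := X') (W := ⊤) trivial τ fun z _ => by
      obtain ⟨j, hj⟩ := hcov z
      have hjη : genericPoint X' ∈ V j := (genericPoint_specializes z).mem_open (V j).2 hj
      exact ⟨X'.presheaf.germ (V j) z hj (tj j), by
        rw [TopCat.Presheaf.germ_stalkSpecializes_apply]; exact htj j hjη⟩
    obtain ⟨m, hm⟩ : ∃ m, N = m + 1 := ⟨_, rfl⟩
    have ht' : t ∈ ((IsLocalRing.maximalIdeal A) ^ N).map φ := by
      rw [hm]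
      refine claim m t fun j => ?_
      rw [← hm]
      by_cases hjn : (V j : Set X').Nonempty
      swap
      · exact ⟨0, TopCat.Presheaf.section_ext X'.sheaf (V j) _ _ fun x hx => absurd ⟨x, hx⟩ hjn⟩
      have hjη : genericPoint X' ∈ V j := CurveBlowUp.generic_mem hjn
      refine ⟨c' j k ^ (N - M j) * w j, germ_injective_of_isIntegral X' (genericPoint X') hjη ?_⟩
      rw [germ_rs, ht]
      exact (htj j hjη).symm
    obtain ⟨a₀, ha₀, hta⟩ := (Ideal.mem_map_iff_of_surjective φ hφ.2).1 ht'
    let ψ : A →+* Γ(X, L k) := (rs (L k)).comp (b.appTop.hom.comp em)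
    have hψa : ψ ∘ a = fres a b (L k) := funext fun i => rfl
    have h1 : ψ a₀ ∈ Ideal.span {fres a b (L k) k ^ N} := by
      have h1 := Ideal.mem_map_of_mem ψ ha₀
      rw [← ha, Ideal.map_pow, Ideal.map_span, ← Set.range_comp, hψa,
        ← PointBlowUp.ideal_eq a hC ⟨L k, hL k⟩, PointBlowUp.ideal_locus a hC hb k,
        Ideal.span_singleton_pow] at h1
      exact h1
    obtain ⟨d, hd⟩ := Ideal.mem_span_singleton'.1 h1
    refine ⟨d, germ_injective_of_isIntegral X' (genericPoint X') hηk ?_⟩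
    have hν₀ : ν.app (L k) (ψ a₀) = rs (V k) t := by
      rw [← hta]
      exact (app_rs ν (L k) _).trans rfl
    rw [← hd, map_mul, map_pow, hνh] at hν₀
    have e5 := congrArg (X'.presheaf.germ (V k) (genericPoint X') hηk) hν₀
    rw [germ_rs (z := t), ht] at e5
    simp only [τ, map_mul, map_pow] at e5
    exact mul_right_cancel₀ (pow_ne_zero N (hne k hηk)) (e5.trans (mul_comm _ _))
  haveI : IsIso ν := by
    have : MorphismProperty.isomorphisms Scheme ν := by
      refine HasAffineProperty.of_iSup_eq_top (P := MorphismProperty.isomorphisms Scheme)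
        (fun k : Fin (n + 1) => (⟨L k, hL k⟩ : X.affineOpens))
        (top_le_iff.1 fun x _ => Opens.mem_iSup.2 (hcovX x)) fun k => ⟨hV k, ?_⟩
      rw [morphismRestrict_appTop]
      haveI : IsIso (ν.app ((L k).ι ''ᵁ ⊤)) :=
        (ConcreteCategory.isIso_iff_bijective _).2 (by rw [Scheme.Opens.ι_image_top]; exact ⟨hνinj _, hsurj k⟩)
      infer_instance
    exact this
  intro x
  obtain ⟨x', rfl⟩ := ν.surjective x
  haveI := (hX'n x').1
  haveI := (hX'n x').2
  let E : X.presheaf.stalk (ν x') ≃+* X'.presheaf.stalk x' := (asIso (ν.stalkMap x')).commRingCatIsoToRingEquiv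
  exact ⟨E.toMulEquiv.isDomain _, IsIntegrallyClosed.of_equiv E.symm⟩

end Groth.Agent.LMSimple8.BlowNormal
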