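import Groth.Agent.Lib.LMSimple8.ExtReal
import Groth.Agent.Lib.NumConn10.Stalk

/-!
# Sections of twisted ideals
-/

set_option autoImplicit false
set_option linter.style.haveILetI false
set_option linter.unusedSectionVars false
set_option backward.isDefEq.respectTransparency false
set_option backward.isDefEq.respectTransparency.types false
set_option maxHeartbeats 1600000

universe u

open CategoryTheory CategoryTheory.Limits AlgebraicGeometry TopologicalSpace Opposite
open scoped TensorProduct

noncomputable section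

namespace Groth.Agent.LMSimple8

open Groth.Agent.CurveCoh17 (stalkLin)
open Groth.Agent.NumConn10 (oneAt exists_smul_one)

variable {X : Scheme.{u}}

/-- `N → O/J ⊗ N`. -/
def twπ (J : X.IdealSheafData) (N : X.Modules) : N ⟶ NumConn10.tw J N :=
  (M2.tensorLUnit N).inv ≫ M2.tensorMap (ClSub.toSubscheme J) (𝟙 N)

/-- The local coefficient of a section and its behaviour modulo every ideal. -/
theorem exists_coeff {N : X.Modules} (hN : PicF.IsInvertible N) (σ : Coh.structureModule X ⟶ N) (x : X) :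
    ∃ a : X.presheaf.stalk x, (x ∈ CohB1.genLocus N σ ↔ IsUnit a) ∧
      (∀ J : X.IdealSheafData, (stalkLin (σ ≫ twπ J N) x (oneAt x) = 0 ↔
        stalkLin (ClSub.toSubscheme J) x (a • oneAt x) = 0)) ∧
      ∀ ε : N.presheaf.stalk x ≃ₗ[X.presheaf.stalk x] X.presheaf.stalk x,
        ∃ u, IsUnit u ∧ ε (stalkLin σ x (oneAt x)) = u * a := by
  obtain ⟨e⟩ := CurveCoh17.nonempty_stalk_equiv ((M2.isInvertible_iff_isFinLocFreeOfRank_one N).1 hN) x
  let ε : N.presheaf.stalk x ≃ₗ[X.presheaf.stalk x] X.presheaf.stalk x := e ≪≫ₗ LinearEquiv.funUnique (Fin 1) _ _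
  set g := ε.symm 1 with hgdef
  have hg : ∀ q, q = ε q • g := fun q => ε.injective (by
    rw [map_smul, hgdef, LinearEquiv.apply_symm_apply, smul_eq_mul, mul_one])
  have hbijl : Function.Bijective (stalkLin (M2.tensorLUnit N).inv x) :=
    ⟨(M1.mono_iff_stalk _).1 inferInstance x, (M1.epi_iff_stalk _).1 inferInstance x⟩
  let l : N.presheaf.stalk x ≃ₗ[X.presheaf.stalk x]
      ((Coh.structureModule X).presheaf.stalk x ⊗[X.presheaf.stalk x] N.presheaf.stalk x) :=
    (LinearEquiv.ofBijective (stalkLin (M2.tensorLUnit N).inv x) hbijl) ≪≫ₗ M2.stalkEquiv _ N x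
  have hsurj : ∀ z : (Coh.structureModule X).presheaf.stalk x ⊗[X.presheaf.stalk x] N.presheaf.stalk x,
      ∃ a : X.presheaf.stalk x, z = (a • oneAt x) ⊗ₜ g := fun z => by
    induction z using TensorProduct.induction_on with
    | zero => exact ⟨0, by rw [zero_smul, TensorProduct.zero_tmul]⟩
    | add z w hz hw =>
      obtain ⟨a, rfl⟩ := hz
      obtain ⟨b, rfl⟩ := hw
      exact ⟨a + b, by rw [add_smul, TensorProduct.add_tmul]⟩
    | tmul p q =>
      obtain ⟨c, rfl⟩ := exists_smul_one x p
      exact ⟨ε q * c, by conv_lhs => rw [hg q]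
                         rw [TensorProduct.tmul_smul, TensorProduct.smul_tmul', smul_smul]⟩
  have hg' : Function.Bijective fun r : X.presheaf.stalk x => r • l.symm (oneAt x ⊗ₜ g) := by
    let g' := l.symm (oneAt x ⊗ₜ g)
    have hs : Function.Surjective (LinearMap.toSpanSingleton (X.presheaf.stalk x) (N.presheaf.stalk x) g') := fun q => by
      obtain ⟨a, ha⟩ := hsurj (l q)
      refine ⟨a, l.injective ?_⟩
      rw [LinearMap.toSpanSingleton_apply, map_smul, l.apply_symm_apply, ha, TensorProduct.smul_tmul']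
    have hi := OrzechProperty.injective_of_surjective_endomorphism
      (ε.toLinearMap.comp (LinearMap.toSpanSingleton (X.presheaf.stalk x) (N.presheaf.stalk x) g')) (ε.surjective.comp hs)
    exact ⟨Function.Injective.of_comp (f := ε) hi, hs⟩
  obtain ⟨a, ha⟩ := hsurj (l (stalkLin σ x (oneAt x)))
  have hσ : stalkLin σ x (oneAt x) = a • l.symm (oneAt x ⊗ₜ g) := l.injective (by
    rw [ha, map_smul, l.apply_symm_apply, TensorProduct.smul_tmul'])
  refine ⟨a, ?_, fun J => ?_, fun ε' => ⟨ε' (l.symm (oneAt x ⊗ₜ g)), ?_, ?_⟩⟩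
  · rw [Amp.mem_genLocus_iff hN]
    have hgm : Amp.gm N x (U := ⊤) trivial (Amp.gval σ) = a • l.symm (oneAt x ⊗ₜ g) :=
      ((M1.germ_naturality σ ⊤ x trivial (M1.one ⊤)).symm).trans hσ
    rw [hgm]
    refine ⟨fun h => ?_, fun h => ?_⟩
    · obtain ⟨c, hc⟩ := h.2 (l.symm (oneAt x ⊗ₜ g))
      simp only [smul_smul] at hc
      exact IsUnit.of_mul_eq_one_right c (hg'.1 (hc.trans (one_smul (X.presheaf.stalk x) _).symm))
    · show Function.Bijective fun r : X.presheaf.stalk x => r • a • l.symm (oneAt x ⊗ₜ g)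
      simp only [smul_smul]
      exact hg'.comp (IsUnit.isUnit_iff_mulRight_bijective.1 h)
  · have h1 : M2.stalkEquiv (ClSub.quotMod J) N x (stalkLin (σ ≫ twπ J N) x (oneAt x)) =
        stalkLin (ClSub.toSubscheme J) x (a • oneAt x) ⊗ₜ g := by
      rw [NumConn10.stalkLin_comp, twπ, NumConn10.stalkLin_comp, CurveCoh17.stalkEquiv_natural]
      show LinearMap.rTensor _ _ (l (stalkLin σ x (oneAt x))) = _
      rw [ha, LinearMap.rTensor_tmul]
    refine ⟨fun h => ?_, fun h => (M2.stalkEquiv (ClSub.quotMod J) N x).injective (by rw [h1, h, TensorProduct.zero_tmul, map_zero])⟩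
    rw [h, map_zero] at h1
    have h2 := congrArg ((TensorProduct.rid (X.presheaf.stalk x) _).toLinearMap.comp
      (LinearMap.lTensor ((ClSub.quotMod J).presheaf.stalk x) ε.toLinearMap)) h1
    rw [map_zero] at h2
    simp [hgdef] at h2
    simpa using h2.symm
  · obtain ⟨r, hr⟩ := hg'.2 (ε'.symm 1)
    refine IsUnit.of_mul_eq_one_right r ?_
    rw [← smul_eq_mul, ← map_smul]
    exact (congrArg ε' hr).trans (ε'.apply_symm_apply 1)
  · rw [hσ, map_smul, smul_eq_mul, mul_comm]

/-- The stalk criterion in any trivialisation. -/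
theorem stalk_twπ_eq_zero_iff {N : X.Modules} (hN : PicF.IsInvertible N) (σ : Coh.structureModule X ⟶ N) (x : X)
    (ε : N.presheaf.stalk x ≃ₗ[X.presheaf.stalk x] X.presheaf.stalk x) (J : X.IdealSheafData) :
    stalkLin (σ ≫ twπ J N) x (oneAt x) = 0 ↔
      stalkLin (ClSub.toSubscheme J) x (ε (stalkLin σ x (oneAt x)) • oneAt x) = 0 := by
  obtain ⟨a, -, hJ, hε⟩ := exists_coeff hN σ x
  obtain ⟨u, hu, he⟩ := hε ε
  rw [hJ J, he, mul_smul, map_smul (stalkLin (ClSub.toSubscheme J) x) u, hu.smul_eq_zero]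

/-- A section lies in the twisted ideal if it does so at every point. -/
theorem comp_twπ_eq_zero {N : X.Modules} (hN : PicF.IsInvertible N) (σ : Coh.structureModule X ⟶ N) (J : X.IdealSheafData)
    (h : ∀ x, stalkLin (σ ≫ twπ J N) x (oneAt x) = 0) : σ ≫ twπ J N = 0 := by
  refine RankTwo11.hom_eq_zero_of_stalk _ fun x b => ?_
  obtain ⟨c, rfl⟩ := exists_smul_one x b
  show stalkLin (σ ≫ twπ J N) x (c • oneAt x) = 0
  rw [map_smul, h x, smul_zero]

/-- For reduced finite subschemes: lying in the twisted ideal is vanishing at the points. -/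
theorem comp_twπ_vanishing_iff {N : X.Modules} (hN : PicF.IsInvertible N) (σ : Coh.structureModule X ⟶ N)
    {Z : Closeds X} (hfin : (Z : Set X).Finite) (hcl : ∀ z ∈ (Z : Set X), IsClosed ({z} : Set X)) :
    σ ≫ twπ (Scheme.IdealSheafData.vanishingIdeal Z) N = 0 ↔ ∀ z ∈ (Z : Set X), z ∉ CohB1.genLocus N σ := by
  classical
  set J := Scheme.IdealSheafData.vanishingIdeal Z with hJ
  have hsupp : (J.support : Set X) = (Z : Set X) := by rw [hJ, Scheme.IdealSheafData.coe_support_vanishingIdeal]
  have hmax : ∀ z ∈ (Z : Set X), ∀ a ∈ IsLocalRing.maximalIdeal (X.presheaf.stalk z),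
      stalkLin (ClSub.toSubscheme J) z (a • oneAt z) = 0 := by
    intro z hz a ha
    obtain ⟨U, hU, hzU, -⟩ := exists_isAffineOpen_mem_and_subset (x := z) (U := (⊤ : X.Opens)) trivial
    letI := X.presheaf.algebra_section_stalk (U := U) ⟨z, hzU⟩
    haveI := hU.isLocalization_stalk ⟨z, hzU⟩
    let p := hU.primeIdealOf ⟨z, hzU⟩
    obtain ⟨r, t, rfl⟩ := IsLocalization.exists_mk'_eq p.asIdeal.primeCompl a
    have hr : r ∈ p.asIdeal := (IsLocalization.AtPrime.mk'_mem_maximal_iff (X.presheaf.stalk z) p.asIdeal r t).1 ha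
    have hS : (hU.fromSpec ⁻¹' (Z : Set X)).Finite := hfin.preimage hU.fromSpec.isOpenEmbedding.injective.injOn
    have hu : ∀ q ∈ hS.toFinset.erase p, ∃ v ∈ q.asIdeal, v ∉ p.asIdeal := fun q hq => by
      obtain ⟨hne, hqS⟩ := Finset.mem_erase.1 hq
      rw [Set.Finite.mem_toFinset] at hqS
      have hqm : q.asIdeal.IsMaximal := by
        rw [← PrimeSpectrum.isClosed_singleton_iff_isMaximal]
        have h : ({q} : Set (PrimeSpectrum Γ(X, U))) = hU.fromSpec ⁻¹' {hU.fromSpec q} :=
          (hU.fromSpec.isOpenEmbedding.injective.preimage_image ({q} : Set _)).symm.trans (by rw [Set.image_singleton])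
        rw [h]
        exact (hcl _ hqS).preimage hU.fromSpec.continuous
      exact Set.not_subset.1 fun hsub => hne (PrimeSpectrum.ext (hqm.eq_of_le p.isPrime.ne_top hsub))
    choose v hv hvp using hu
    let u := ∏ q ∈ (hS.toFinset.erase p).attach, v q.1 q.2
    have hup : u ∉ p.asIdeal := fun h => by
      obtain ⟨q, -, hq⟩ := p.isPrime.prod_mem_iff.1 h
      exact hvp q.1 q.2 hq
    have hmem : r * u ∈ J.ideal ⟨U, hU⟩ := by
      rw [hJ, Scheme.IdealSheafData.vanishingIdeal_ideal]
      refine (PrimeSpectrum.mem_vanishingIdeal _ _).2 fun q hq => ?_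
      by_cases hqp : q = p
      · subst hqp; exact Ideal.mul_mem_right _ _ hr
      · refine Ideal.mul_mem_left _ _ ?_
        have hqe : q ∈ hS.toFinset.erase p := Finset.mem_erase.2 ⟨hqp, hS.mem_toFinset.2 hq⟩
        exact Ideal.mem_of_dvd _ (Finset.dvd_prod_of_mem _ (Finset.mem_attach _ ⟨q, hqe⟩)) (hv q hqe)
    obtain ⟨w, hw⟩ := (M2.range_idealIncl J ⟨U, hU⟩).ge hmem
    have h0 : stalkLin (ClSub.toSubscheme J) z (X.presheaf.germ U z hzU (r * u) • oneAt z) = 0 := by
      have h1 : (ClSub.toSubscheme J).app U ((r * u) • M1.one U) = 0 := by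
        have h3 : ((r * u) • M1.one U : Γ(Coh.structureModule X, U)) = (ClSub.idealModι J).app U w := by
          exact Eq.trans (mul_one (r * u : Γ(X, U))) hw.symm
        rw [h3]
        show (ClSub.idealModι J ≫ ClSub.toSubscheme J).app U w = 0
        rw [show ClSub.idealModι J ≫ ClSub.toSubscheme J = 0 from kernel.condition _]
        rfl
      have h2 : (Coh.structureModule X).presheaf.germ U z hzU ((r * u) • M1.one U) =
          X.presheaf.germ U z hzU (r * u) • oneAt z := by
        rw [M1.germ_smul]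
        congr 1
        rw [← M1.mres_one (le_top : U ≤ ⊤)]
        exact M1.germ_mres (Coh.structureModule X) (le_top : U ≤ ⊤) hzU (M1.one ⊤)
      rw [← h2, CurveCoh17.stalkLin_apply, M1.germ_naturality, h1, map_zero]
    have hunit : IsUnit (X.presheaf.germ U z hzU (↑t * u)) := by
      show IsUnit (algebraMap Γ(X, U) (X.presheaf.stalk z) (↑t * u))
      exact IsLocalization.map_units (X.presheaf.stalk z) (⟨↑t * u, fun h => (p.isPrime.mem_or_mem h).elim (fun h' => t.2 h') hup⟩ : p.asIdeal.primeCompl)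
    refine hunit.smul_eq_zero.1 ?_
    rw [← map_smul, smul_smul]
    convert h0 using 3
    show algebraMap Γ(X, U) (X.presheaf.stalk z) (↑t * u) * _ = algebraMap Γ(X, U) (X.presheaf.stalk z) (r * u)
    rw [map_mul, map_mul, mul_right_comm, IsLocalization.mk'_spec']
  constructor
  · intro h z hz hgen
    obtain ⟨a, hua, hJa, -⟩ := exists_coeff hN σ z
    have h0 : stalkLin (σ ≫ twπ J N) z (oneAt z) = 0 := by
      rw [h]
      show (M1.stalkAb z).map (0 : Coh.structureModule X ⟶ NumConn10.tw J N) _ = 0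
      rw [Functor.map_zero]; rfl
    have h1 : stalkLin (ClSub.toSubscheme J) z (oneAt z) = 0 := by
      have := (hJa J).1 h0
      rwa [map_smul, (hua.1 hgen).smul_eq_zero] at this
    haveI : Nontrivial ((ClSub.quotMod J).presheaf.stalk z) := by
      have hz' : z ∈ CohB1.support (ClSub.quotMod J) := by rw [NumPoly18.support_quotMod, hsupp]; exact hz
      exact not_subsingleton_iff_nontrivial.1 hz'
    obtain ⟨y, hy⟩ := exists_ne (0 : (ClSub.quotMod J).presheaf.stalk z)
    obtain ⟨b, rfl⟩ := NumConn10.surjective_toSubscheme J z y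
    obtain ⟨c, rfl⟩ := exists_smul_one z b
    exact hy (by rw [map_smul, h1, smul_zero])
  · intro h
    refine comp_twπ_eq_zero hN σ J fun x => ?_
    obtain ⟨a, hua, hJa, -⟩ := exists_coeff hN σ x
    refine (hJa J).2 ?_
    by_cases hx : x ∈ (Z : Set X)
    · exact hmax x hx a ((IsLocalRing.mem_maximalIdeal _).2 fun hu => h x hx (hua.2 hu))
    · haveI : Subsingleton ((ClSub.quotMod J).presheaf.stalk x) := by
        refine not_not.1 fun h' => hx ?_
        rw [← hsupp, ← NumPoly18.support_quotMod J]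
        exact h'
      exact Subsingleton.elim _ _

end Groth.Agent.LMSimple8
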