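import Groth.Agent.Lib.LMSimple8.CB
import Groth.Agent.Lib.CurveCoh17.Skyscraper
import Groth.Agent.Lib.MeroLib.ZeroScheme
import Groth.Agent.Lib.Goren.SopHull27
import Groth.Agent.S0342
import Mathlib.LinearAlgebra.Dimension.FreeAndStrongRankCondition
import Mathlib.RingTheory.HopkinsLevitzki

/-!
# Evaluation on a finite subscheme with the Cayley–Bacharach property
-/

set_option autoImplicit false
set_option linter.style.haveILetI false
set_option linter.unusedSectionVars false
set_option backward.isDefEq.respectTransparency false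
set_option backward.isDefEq.respectTransparency.types false
set_option maxHeartbeats 1600000

universe u

open CategoryTheory CategoryTheory.Limits AlgebraicGeometry TopologicalSpace Opposite IsLocalRing
open scoped TensorProduct

noncomputable section

namespace Groth.Agent.LMSimple8

open Groth.Agent.CurveCoh17 (stalkLin)
open Groth.Agent.NumConn10 (oneAt exists_smul_one)

/-- A two-generated ideal with Artinian quotient in a regular local ring of dimension two has simple socle. -/
theorem exists_socle_two (R : Type u) [CommRing R] [IsRegularLocalRing R] (hd : ringKrullDim R = 2)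
    (a b : R) (hne : Ideal.span {a, b} ≠ ⊤) [IsArtinianRing (R ⧸ Ideal.span ({a, b} : Set R))] :
    ∃ s : R, s ∉ Ideal.span {a, b} ∧ (∀ m ∈ maximalIdeal R, m * s ∈ Ideal.span {a, b}) ∧
      ∀ t ∉ Ideal.span {a, b}, ∃ r : R, r * t - s ∈ Ideal.span {a, b} := by
  have hl : Ideal.ofList [a, b] = Ideal.span {a, b} := congrArg Ideal.span (by ext; simp)
  have hm : ∀ y ∈ [a, b], y ∈ maximalIdeal R := fun y hy =>
    le_maximalIdeal hne (Ideal.subset_span (by simpa using hy))
  haveI : Nontrivial (R ⧸ Ideal.span ({a, b} : Set R)) := Ideal.Quotient.nontrivial_iff.2 hne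
  haveI hG : LocCoh.IsGorensteinLocalRing R := S0342.result R
  haveI := GorenLib.isCohenMacaulayLocalRing_of_gorenstein (S := R)
  haveI : Ring.KrullDimLE 0 (R ⧸ Ideal.span ({a, b} : Set R)) := inferInstance
  have h0 : ringKrullDim (R ⧸ Ideal.span ({a, b} : Set R)) = (0 : ℕ) :=
    le_antisymm (Ring.krullDimLE_iff.1 inferInstance) ringKrullDim_nonneg_of_nontrivial
  have hw : RingTheory.Sequence.IsWeaklyRegular R [a, b] := EmbDef.isWeaklyRegular_of_dim _ hm (by
    rw [ringKrullDim_eq_of_ringEquiv (Ideal.quotEquivOfEq hl), h0, hd]; rfl)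
  have hGq := GorenLib.gorenstein_quotient_ofList 2 R [a, b] rfl hw hm
  haveI hGI : LocCoh.IsGorensteinLocalRing (R ⧸ Ideal.span ({a, b} : Set R)) :=
    Goren15.isGorensteinLocalRing_of_ringEquiv (h := hGq) (Ideal.quotEquivOfEq hl)
  obtain ⟨e, he0, hem, hegen⟩ := GorenLib.exists_socle_artinian _ h0
  obtain ⟨s, rfl⟩ := Ideal.Quotient.mk_surjective e
  haveI : IsLocalHom (Ideal.Quotient.mk (Ideal.span ({a, b} : Set R))) :=
    IsLocalHom.of_surjective _ Ideal.Quotient.mk_surjective
  refine ⟨s, fun h => he0 (Ideal.Quotient.eq_zero_iff_mem.2 h), fun m hm' => ?_, fun t ht => ?_⟩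
  · rw [← Ideal.Quotient.eq_zero_iff_mem, map_mul]
    exact hem _ (map_mem_nonunits_iff (Ideal.Quotient.mk _) m |>.2 hm')
  · obtain ⟨N, hN⟩ := (isArtinianRing_iff_isNilpotent_maximalIdeal (R ⧸ Ideal.span ({a, b} : Set R))).1 inferInstance
    obtain ⟨r, hr, hr0⟩ := InjHullLib.exists_smul_mem_torsion (M := R ⧸ Ideal.span ({a, b} : Set R))
      (J := maximalIdeal (R ⧸ Ideal.span ({a, b} : Set R))) (fun y => ⟨N, fun c hc => by
        rw [hN] at hc; rw [show c = 0 from hc, zero_smul]⟩)
      (x := Ideal.Quotient.mk _ t) (fun h => ht (Ideal.Quotient.eq_zero_iff_mem.1 h))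
    obtain ⟨c, hc⟩ := hegen _ (fun m hm' => InjHullLib.mem_torsion_iff.1 hr m hm')
    have hcu : IsUnit c := by
      by_contra hcu
      exact hr0 (hc.trans (hem c hcu))
    obtain ⟨c', hc'⟩ := hcu.exists_left_inv
    obtain ⟨v, hv⟩ := Ideal.Quotient.mk_surjective (c' * r)
    refine ⟨v, ?_⟩
    rw [← Ideal.Quotient.eq_zero_iff_mem, map_sub, map_mul, hv, mul_assoc]
    rw [show r * Ideal.Quotient.mk _ t = c * Ideal.Quotient.mk _ s from hc, ← mul_assoc, hc', one_mul, sub_self]

variable {X : Scheme.{u}}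

/-- The stalk of the quotient map as a map from the local ring. -/
def qAt (J : X.IdealSheafData) (x : X) : X.presheaf.stalk x →ₗ[X.presheaf.stalk x] (ClSub.quotMod J).presheaf.stalk x :=
  (stalkLin (ClSub.toSubscheme J) x).comp (LinearMap.toSpanSingleton (X.presheaf.stalk x) _ (oneAt x))

theorem qAt_apply (J : X.IdealSheafData) (x : X) (r : X.presheaf.stalk x) :
    qAt J x r = stalkLin (ClSub.toSubscheme J) x (r • oneAt x) := rfl

theorem surjective_qAt (J : X.IdealSheafData) (x : X) : Function.Surjective (qAt J x) := fun y => by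
  obtain ⟨b, rfl⟩ := NumConn10.surjective_toSubscheme J x y
  obtain ⟨c, rfl⟩ := exists_smul_one x b
  exact ⟨c, rfl⟩

/-- Membership in an ideal sheaf through the stalks. -/
theorem mem_ideal_iff (J : X.IdealSheafData) (U : X.affineOpens) (r : Γ(X, U.1)) :
    r ∈ J.ideal U ↔ ∀ (x : X) (hx : x ∈ U.1), qAt J x (X.presheaf.germ U.1 x hx r) = 0 := by
  have h1 : ∀ (x : X) (hx : x ∈ U.1), qAt J x (X.presheaf.germ U.1 x hx r) =
      (ClSub.quotMod J).presheaf.germ U.1 x hx ((ClSub.toSubscheme J).app U.1 (r • M1.one U.1)) := fun x hx => by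
    have h2 : (Coh.structureModule X).presheaf.germ U.1 x hx (r • M1.one U.1) =
        X.presheaf.germ U.1 x hx r • oneAt x := by
      rw [M1.germ_smul]
      congr 1
      rw [← M1.mres_one (le_top : U.1 ≤ ⊤)]
      exact M1.germ_mres (Coh.structureModule X) (le_top : U.1 ≤ ⊤) hx (M1.one ⊤)
    rw [qAt_apply, ← h2, CurveCoh17.stalkLin_apply, M1.germ_naturality]
  have h3 : (ClSub.toSubscheme J).app U.1 (r • M1.one U.1) = 0 ↔ r ∈ J.ideal U := by
    have h4 : (r • M1.one U.1 : Γ(Coh.structureModule X, U.1)) = (show Γ(Coh.structureModule X, U.1) from r) :=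
      mul_one (r : Γ(X, U.1))
    have h5 : J.ideal U = RingHom.ker (J.subschemeι.app U.1).hom := by
      conv_lhs => rw [← J.ker_subschemeι]
      exact Scheme.Hom.ker_apply _ U
    rw [h4, h5, RingHom.mem_ker]
    rfl
  rw [← h3]
  refine ⟨fun h x hx => by rw [h1, h, map_zero], fun h => M1.section_ext _ _ fun x hx => ?_⟩
  rw [map_zero, ← h1]
  exact h x hx

theorem stalk_eq_germ_gval {L : X.Modules} (σ : Coh.structureModule X ⟶ L) (x : X) :
    stalkLin σ x (oneAt x) = L.presheaf.germ ⊤ x trivial (Amp.gval σ) :=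
  M1.germ_naturality σ ⊤ x trivial (M1.one ⊤)

/-- Elements of the ideal of a zero scheme are locally multiples of the coefficient. -/
theorem exists_germ_eq_mul_of_mem {L : X.Modules} (hL : PicF.IsInvertible L) (σ : Coh.structureModule X ⟶ L)
    {x : X} (ε : L.presheaf.stalk x ≃ₗ[X.presheaf.stalk x] X.presheaf.stalk x) {U : X.affineOpens} {r : Γ(X, U.1)}
    (hr : r ∈ (PicF2.zeroScheme L σ).ideal U) (hx : x ∈ U.1) :
    ∃ v, X.presheaf.germ U.1 x hx r = v * ε (stalkLin σ x (oneAt x)) := by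
  rw [MeroLib.zeroScheme_ideal L σ hL U] at hr
  haveI : Coh.IsQCoh L := (CubeField.isCoh_of_isInvertible hL).1
  obtain ⟨u, m, hu, hum⟩ := M1.exists_germ_smul_eq L U.2 hx (ε.symm 1)
  obtain ⟨b, hb⟩ := (MeroLib.mem_zI L σ).1 hr m
  have hsv : L.presheaf.germ U.1 x hx (MeroLib.sval L σ U.1) = stalkLin σ x (oneAt x) := by
    rw [stalk_eq_germ_gval, show MeroLib.sval L σ U.1 = M1.mres L (le_top : U.1 ≤ ⊤) (Amp.gval σ) from
      (Amp.res_gval σ U.1).symm]
    exact M1.germ_mres L (le_top : U.1 ≤ ⊤) hx (Amp.gval σ)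
  have h2 := congrArg (fun z => ε (L.presheaf.germ U.1 x hx z)) hb
  rw [M1.germ_smul, M1.germ_smul, ← hum, hsv, map_smul, map_smul, map_smul, LinearEquiv.apply_symm_apply,
    smul_eq_mul, smul_eq_mul, smul_eq_mul, mul_one, mul_comm (X.presheaf.germ U.1 x hx r)] at h2
  obtain ⟨w, hw⟩ := hu.exists_left_inv
  exact ⟨w * X.presheaf.germ U.1 x hx b, by rw [mul_assoc, ← h2, ← mul_assoc, hw, one_mul]⟩

/-- Containing the zero scheme, through the coefficients of the section. -/
theorem zeroScheme_le_iff {L : X.Modules} (hL : PicF.IsInvertible L) (σ : Coh.structureModule X ⟶ L)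
    (ε : ∀ x : X, L.presheaf.stalk x ≃ₗ[X.presheaf.stalk x] X.presheaf.stalk x) (J : X.IdealSheafData) :
    PicF2.zeroScheme L σ ≤ J ↔ ∀ x, qAt J x (ε x (stalkLin σ x (oneAt x))) = 0 := by
  constructor
  · intro h x
    obtain ⟨U, e, a, hxU, -, hU, he, ha, -⟩ := Amp.exists_local hL σ (V := ⊤) (x := x) trivial
    have hc : MeroLib.sval L σ U = a • e := (Amp.res_gval σ U).symm.trans ha.symm
    have hb : Function.Bijective fun r : Γ(X, U) => r • e := by
      have := he U le_rfl
      simpa only [M2.res_self] using this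
    have hmem : a ∈ (PicF2.zeroScheme L σ).ideal ⟨U, hU⟩ := by
      rw [MeroLib.zeroScheme_ideal L σ hL ⟨U, hU⟩, MeroLib.zI_eq_span L σ e hb a hc]
      exact Ideal.subset_span rfl
    have h0 := (mem_ideal_iff J ⟨U, hU⟩ a).1 (h _ hmem) x hxU
    have h1 : stalkLin σ x (oneAt x) = X.presheaf.germ U x hxU a • L.presheaf.germ U x hxU e := by
      rw [stalk_eq_germ_gval, ← M1.germ_smul, ha]
      exact (M1.germ_mres L (le_top : U ≤ ⊤) hxU (Amp.gval σ)).symm
    rw [h1, map_smul, smul_eq_mul, mul_comm, ← smul_eq_mul, map_smul, h0, smul_zero]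
  · intro h U r hr
    refine (mem_ideal_iff J U r).2 fun x hx => ?_
    obtain ⟨v, hv⟩ := exists_germ_eq_mul_of_mem hL σ (ε x) hr hx
    rw [hv, ← smul_eq_mul, map_smul, h x, smul_zero]

end Groth.Agent.LMSimple8
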