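import Groth.Agent.Lib.LMSimple8.NonFree

/-!
# Extension classes and their realisations; ideals containing a reduced finite one
-/

set_option autoImplicit false
set_option linter.style.haveILetI false
set_option linter.unusedSectionVars false
set_option backward.isDefEq.respectTransparency false
set_option backward.isDefEq.respectTransparency.types false
set_option maxHeartbeats 1600000

universe u v w w'

open CategoryTheory CategoryTheory.Limits AlgebraicGeometry TopologicalSpace

noncomputable section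

namespace Groth.Agent.LMSimple8

variable {C : Type v} [Category.{w} C] [Abelian C] [HasExt.{w'} C] [EnoughInjectives C]

/-- Every class is the class of an extension. -/
theorem exists_realisation {I M : C} (e : Abelian.Ext I M 1) :
    ∃ (F : C) (a : M ⟶ F) (b : F ⟶ I) (w : a ≫ b = 0) (hS : (ShortComplex.mk a b w).ShortExact), hS.extClass = e := by
  let P : InjectivePresentation M := Classical.arbitrary _
  have hSI : P.shortComplex.ShortExact := P.shortExact_shortComplex
  haveI : Injective P.shortComplex.X₂ := P.injective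
  obtain ⟨g, hg⟩ := Abelian.Ext.covariant_sequence_exact₁ I hSI e
    ((Abelian.Ext.subsingleton_of_injective I P.shortComplex.X₂ 0).elim _ _) (show 0 + 1 = 1 from rfl)
  obtain ⟨g, rfl⟩ := (Abelian.Ext.mk₀_bijective _ _).2 g
  obtain ⟨w, hV⟩ := shortExact_pullback P.shortComplex.f P.shortComplex.g P.shortComplex.zero hSI g
  refine ⟨_, pullback.lift P.shortComplex.f 0 (by rw [P.shortComplex.zero, zero_comp]), pullback.snd _ _, w, hV, ?_⟩
  have h := ShortComplex.ShortExact.extClass_naturality hV hSI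
    (ShortComplex.homMk (𝟙 M) (pullback.fst P.shortComplex.g g) g
      (show 𝟙 M ≫ P.shortComplex.f = _ ≫ _ from (Category.id_comp _).trans (pullback.lift_fst _ _ _).symm)
      (show pullback.fst _ _ ≫ P.shortComplex.g = _ ≫ g from pullback.condition))
  rw [ShortComplex.homMk_τ₁, ShortComplex.homMk_τ₃, Abelian.Ext.comp_mk₀_id] at h
  exact h.trans hg

/-- An extension whose class comes from a larger module maps to an extension of it. -/
theorem exists_lift_of_class {M F I I' : C} {a : M ⟶ F} {b : F ⟶ I} {w : a ≫ b = 0}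
    (hS : (ShortComplex.mk a b w).ShortExact) (φ : I ⟶ I') (e : Abelian.Ext I' M 1)
    (he : (Abelian.Ext.mk₀ φ).comp e (zero_add 1) = hS.extClass) :
    ∃ (F' : C) (a' : M ⟶ F') (b' : F' ⟶ I') (w' : a' ≫ b' = 0) (g : F ⟶ F'),
      (ShortComplex.mk a' b' w').ShortExact ∧ a ≫ g = a' ∧ g ≫ b' = b ≫ φ := by
  haveI : Mono a := hS.mono_f
  haveI : Epi b := hS.epi_g
  let P : InjectivePresentation M := Classical.arbitrary _
  have hSI : P.shortComplex.ShortExact := P.shortExact_shortComplex
  haveI : Injective P.shortComplex.X₂ := P.injective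
  obtain ⟨g, hg⟩ := Abelian.Ext.covariant_sequence_exact₁ I' hSI e
    ((Abelian.Ext.subsingleton_of_injective I' P.shortComplex.X₂ 0).elim _ _) (show 0 + 1 = 1 from rfl)
  obtain ⟨g, rfl⟩ := (Abelian.Ext.mk₀_bijective _ _).2 g
  obtain ⟨w', hV⟩ := shortExact_pullback P.shortComplex.f P.shortComplex.g P.shortComplex.zero hSI g
  let f₀ : F ⟶ P.shortComplex.X₂ := Injective.factorThru P.shortComplex.f a
  have hf₀ : a ≫ f₀ = P.shortComplex.f := Injective.comp_factorThru _ _
  haveI : Epi (ShortComplex.mk a b w).g := hS.epi_g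
  let h : I ⟶ P.shortComplex.X₃ := hS.exact.desc (f₀ ≫ P.shortComplex.g)
    (show a ≫ f₀ ≫ P.shortComplex.g = 0 by rw [reassoc_of% hf₀, P.shortComplex.zero])
  have hh : b ≫ h = f₀ ≫ P.shortComplex.g := hS.exact.g_desc _ _
  have hn := ShortComplex.ShortExact.extClass_naturality hS hSI
    (ShortComplex.homMk (𝟙 M) f₀ h (show 𝟙 M ≫ P.shortComplex.f = _ ≫ _ from (Category.id_comp _).trans hf₀.symm) hh.symm)
  rw [ShortComplex.homMk_τ₁, ShortComplex.homMk_τ₃, Abelian.Ext.comp_mk₀_id, ← he, ← hg,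
    Abelian.Ext.mk₀_comp_mk₀_assoc] at hn
  have h0 : (Abelian.Ext.mk₀ (h - φ ≫ g)).comp hSI.extClass (zero_add 1) = 0 := by
    rw [sub_eq_add_neg, Abelian.Ext.mk₀_add, Abelian.Ext.mk₀_neg, Abelian.Ext.add_comp, Abelian.Ext.neg_comp, ← hn, add_neg_cancel]
  obtain ⟨t, ht⟩ := Abelian.Ext.covariant_sequence_exact₃ I hSI (Abelian.Ext.mk₀ (h - φ ≫ g)) (zero_add 1) h0
  obtain ⟨t, rfl⟩ := (Abelian.Ext.mk₀_bijective _ _).2 t
  rw [Abelian.Ext.mk₀_comp_mk₀] at ht
  have ht' : t ≫ P.shortComplex.g = h - φ ≫ g := (Abelian.Ext.mk₀_bijective _ _).1 ht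
  have hcond : (f₀ - b ≫ t) ≫ P.shortComplex.g = (b ≫ φ) ≫ g := by
    rw [Preadditive.sub_comp, Category.assoc, ht', Preadditive.comp_sub, hh, sub_sub_cancel, Category.assoc]
  refine ⟨_, _, _, w', pullback.lift (f₀ - b ≫ t) (b ≫ φ) hcond, hV, pullback.hom_ext ?_ ?_, pullback.lift_snd _ _ _⟩
  · rw [Category.assoc, pullback.lift_fst, pullback.lift_fst, Preadditive.comp_sub, hf₀, reassoc_of% w, zero_comp, sub_zero]
  · rw [Category.assoc, pullback.lift_snd, pullback.lift_snd, reassoc_of% w, zero_comp]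

omit [Category.{w} C] [Abelian C] [HasExt.{w'} C] [EnoughInjectives C] in
/-- An ideal containing a finite intersection of maximal ideals is radical. -/
theorem radical_eq_of_iInf_maximal_le {R : Type u} [CommRing R] {J : Ideal R} (T : Finset (Ideal R))
    (hT : ∀ m ∈ T, m.IsMaximal) (hJ : (⨅ m ∈ T, m) ≤ J) : J.radical = J := by
  classical
  refine le_antisymm ?_ J.le_radical
  let T₁ := T.filter fun m => J ≤ m
  let T₂ := T.filter fun m => ¬ J ≤ m
  have h1 : J.radical ≤ ⨅ m ∈ T₁, m := le_iInf₂ fun m hm => by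
    obtain ⟨hmT, hJm⟩ := Finset.mem_filter.1 hm
    exact (hT m hmT).isPrime.radical_le_iff.2 hJm
  have h2 : J ⊔ (⨅ m ∈ T₂, m) = ⊤ := Ideal.sup_iInf_eq_top fun m hm => by
    obtain ⟨hmT, hJm⟩ := Finset.mem_filter.1 hm
    exact (hT m hmT).out.2 _ (lt_of_le_not_ge le_sup_right fun h => hJm (le_sup_left.trans h))
  have h3 : (⨅ m ∈ T₁, m) * (⨅ m ∈ T₂, m) ≤ J := by
    refine le_trans Ideal.mul_le_inf (le_trans ?_ hJ)
    refine le_iInf₂ fun m hm => ?_
    by_cases h : J ≤ m
    · exact inf_le_left.trans (iInf₂_le m (Finset.mem_filter.2 ⟨hm, h⟩))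
    · exact inf_le_right.trans (iInf₂_le m (Finset.mem_filter.2 ⟨hm, h⟩))
  calc J.radical ≤ ⨅ m ∈ T₁, m := h1
    _ = (⨅ m ∈ T₁, m) * (J ⊔ ⨅ m ∈ T₂, m) := by rw [h2, Ideal.mul_top]
    _ ≤ J := by
      rw [Ideal.mul_sup]
      exact sup_le Ideal.mul_le_right h3

omit [Category.{w} C] [Abelian C] [HasExt.{w'} C] [EnoughInjectives C] in
/-- An ideal sheaf containing that of finitely many closed points is the ideal of its support. -/
theorem eq_vanishingIdeal_of_finite_le {X : Scheme.{u}} {Z : Closeds X} (hfin : (Z : Set X).Finite)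
    (hcl : ∀ z ∈ (Z : Set X), IsClosed ({z} : Set X)) {J : X.IdealSheafData}
    (hJ : Scheme.IdealSheafData.vanishingIdeal Z ≤ J) : J = Scheme.IdealSheafData.vanishingIdeal J.support := by
  rw [Scheme.IdealSheafData.vanishingIdeal_support]
  ext U : 2
  rw [Scheme.IdealSheafData.radical_ideal]
  have hS : (U.2.fromSpec ⁻¹' (Z : Set X)).Finite := hfin.preimage U.2.fromSpec.isOpenEmbedding.injective.injOn
  classical
  refine (radical_eq_of_iInf_maximal_le (hS.toFinset.image PrimeSpectrum.asIdeal) (fun m hm => ?_) ?_).symm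
  · obtain ⟨p, hp, rfl⟩ := Finset.mem_image.1 hm
    rw [Set.Finite.mem_toFinset] at hp
    rw [← PrimeSpectrum.isClosed_singleton_iff_isMaximal]
    have h : ({p} : Set (PrimeSpectrum Γ(X, U.1))) = U.2.fromSpec ⁻¹' {U.2.fromSpec p} :=
      (U.2.fromSpec.isOpenEmbedding.injective.preimage_image ({p} : Set _)).symm.trans (by rw [Set.image_singleton])
    rw [h]
    exact (hcl _ hp).preimage U.2.fromSpec.continuous
  · refine le_trans ?_ (hJ U)
    rw [Scheme.IdealSheafData.vanishingIdeal_ideal]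
    intro r hr
    refine (PrimeSpectrum.mem_vanishingIdeal _ _).2 fun p hp => ?_
    simp only [Submodule.mem_iInf] at hr
    exact hr _ (Finset.mem_image.2 ⟨p, hS.mem_toFinset.2 hp, rfl⟩)

omit [Category.{w} C] [Abelian C] [HasExt.{w'} C] [EnoughInjectives C] in
/-- The map of ideal modules of an inclusion of ideals. -/
theorem exists_idealMap {X : Scheme.{u}} {I J : X.IdealSheafData} (h : I ≤ J) :
    ∃ φ : ClSub.idealMod I ⟶ ClSub.idealMod J, φ ≫ ClSub.idealModι J = ClSub.idealModι I := by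
  have h0 : ClSub.idealModι I ≫ ClSub.toSubscheme J = 0 := by
    refine (Scheme.Modules.hom_ext _ _ fun U => ?_)
    ext a
    choose V hV hxV hVU using fun x : U => exists_isAffineOpen_mem_and_subset (U := U) x.2
    refine M1.modules_eq_of_locally_eq _ U V hVU (fun x hx => Opens.mem_iSup.mpr ⟨⟨x, hx⟩, hxV ⟨x, hx⟩⟩) _ _
      fun x => ?_
    refine ((M1.map_app_eq (ClSub.idealModι I ≫ ClSub.toSubscheme J) (hVU x) a).symm.trans ?_).trans (map_zero _).symm
    change J.subschemeι.app (V x) ((ClSub.idealModι I).app (V x) _) = 0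
    have hm : (show Γ(X, V x) from (ClSub.idealModι I).app (V x) (M1.mres (ClSub.idealMod I) (hVU x) a)) ∈ J.ideal ⟨V x, hV x⟩ :=
      h ⟨V x, hV x⟩ ((M2.range_idealIncl I ⟨V x, hV x⟩).le ⟨_, rfl⟩)
    rw [← J.ker_subschemeι, Scheme.Hom.ker_apply] at hm
    exact RingHom.mem_ker.mp hm
  exact ⟨kernel.lift _ _ h0, kernel.lift_ι _ _ _⟩

omit [Category.{w} C] [Abelian C] [HasExt.{w'} C] [EnoughInjectives C] in
theorem eqToHom_idealι {X : Scheme.{u}} {I J : X.IdealSheafData} (h : I = J) :
    eqToHom (congrArg ClSub.idealMod h) ≫ ClSub.idealModι J = ClSub.idealModι I := by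
  subst h
  rw [eqToHom_refl, Category.id_comp]

end Groth.Agent.LMSimple8
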