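import Groth.Agent.Lib.LMSimple8.CBEval
import Groth.Agent.Lib.LMSimple8.ExtReal
import Groth.Agent.Lib.CurveCoh17.LES
import Groth.Agent.Lib.CohFound.ProperFinite
import Mathlib.LinearAlgebra.Dual.Lemmas

/-!
# The Cayley–Bacharach inequality
-/

set_option autoImplicit false
set_option linter.style.haveILetI false
set_option linter.unusedSectionVars false
set_option backward.isDefEq.respectTransparency false
set_option backward.isDefEq.respectTransparency.types false
set_option maxHeartbeats 1600000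

universe u

open CategoryTheory CategoryTheory.Limits AlgebraicGeometry TopologicalSpace Opposite IsLocalRing
open scoped TensorProduct

noncomputable section

namespace Groth.Agent.LMSimple8

open Groth.Agent.CurveCoh17 (stalkLin stalkMod stalkRingMap)
open Groth.Agent.NumConn10 (oneAt)

variable {X : Scheme.{u}}

/-- Enlarging the ideal enlarges the kernels on stalks. -/
theorem qAt_eq_zero_of_le {I K : X.IdealSheafData} (h : I ≤ K) (x : X) {r : X.presheaf.stalk x} (hr : qAt I x r = 0) :
    qAt K x r = 0 := by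
  obtain ⟨φ, hφ⟩ := exists_idealMap h
  obtain ⟨w, hw⟩ := ((Cyc26.stalkLin_exact (M2.shortExact_idealMod I) x).2.1 (r • oneAt x)).1 hr
  change CurveCoh17.stalkLin (ClSub.idealModι I) x w = r • oneAt x at hw
  rw [qAt_apply, ← hw, ← hφ, CurveCoh17.stalkLin_comp]
  exact ((Cyc26.stalkLin_exact (M2.shortExact_idealMod K) x).2.1 _).2 ⟨_, rfl⟩

variable {k : Type u} [Field k] [X.Over (Spec (CommRingCat.of k))]

attribute [local instance] CurveCoh17.stalkMod

/-- The evaluation of sections at a point of a finite subscheme. -/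
def evAt (IZ : X.IdealSheafData) {L : X.Modules} (x : X)
    (ε : L.presheaf.stalk x ≃ₗ[X.presheaf.stalk x] X.presheaf.stalk x) :
    Coh.HH X L 0 →ₗ[k] (ClSub.quotMod IZ).presheaf.stalk x where
  toFun y := qAt IZ x (ε (CurveCoh17.h0germ k L x y))
  map_add' y z := by rw [map_add, map_add, map_add]
  map_smul' c y := by
    rw [map_smul]
    show qAt IZ x (ε (stalkRingMap k x c • CurveCoh17.h0germ k L x y)) = stalkRingMap k x c • _
    rw [map_smul, map_smul]

/-- The evaluation of sections on a finite subscheme. -/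
def ev (IZ : X.IdealSheafData) {L : X.Modules}
    (ε : ∀ x : X, L.presheaf.stalk x ≃ₗ[X.presheaf.stalk x] X.presheaf.stalk x) (S : Finset X) :
    Coh.HH X L 0 →ₗ[k] ∀ x : S, (ClSub.quotMod IZ).presheaf.stalk (x : X) :=
  LinearMap.pi fun x => evAt IZ (x : X) (ε x)

theorem germ_hh0_eq {L : X.Modules} (y : Coh.HH X L 0) (x : X) :
    CurveCoh17.h0germ k L x y = stalkLin (M1.secHom (CurveCoh17.hh0 L y)) x (oneAt x) := by
  rw [stalk_eq_germ_gval, Amp.gval_secHom]
  rfl

variable [IsProper (X ↘ Spec (CommRingCat.of k))]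

/-- The rank of the evaluation. -/
theorem finrank_range_ev (IZ : X.IdealSheafData) {L : X.Modules} (hL : PicF.IsInvertible L)
    (ε : ∀ x : X, L.presheaf.stalk x ≃ₗ[X.presheaf.stalk x] X.presheaf.stalk x) (S : Finset X)
    (hS : CurveCoh17.SuppIn (ClSub.quotMod IZ) S) :
    Module.finrank k (LinearMap.range (ev (k := k) IZ ε S)) +
        Module.finrank k (Coh.HH X (CohB1.tensorMod L (ClSub.idealMod IZ)) 0) =
      Module.finrank k (Coh.HH X L 0) := by
  haveI := CohFound.finite_HH_of_isProper (A := k) L (Snapper.isCoh_of_isInvertible hL) 0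
  let F := M2.tensorR L
  haveI : F.IsEquivalence := VB17.isEquivalence_tensorR hL
  haveI : PreservesFiniteLimits F := inferInstance
  haveI : PreservesFiniteColimits F := inferInstance
  let f' : F.obj (ClSub.idealMod IZ) ⟶ L := F.map (ClSub.idealModι IZ) ≫ (M2.tensorLUnit L).hom
  have hw : f' ≫ twπ IZ L = 0 := by
    show (F.map (ClSub.idealModι IZ) ≫ (M2.tensorLUnit L).hom) ≫ (M2.tensorLUnit L).inv ≫ F.map (ClSub.toSubscheme IZ) = 0
    rw [Category.assoc, Iso.hom_inv_id_assoc, ← F.map_comp,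
      show ClSub.idealModι IZ ≫ ClSub.toSubscheme IZ = 0 from kernel.condition _, F.map_zero]
  have hT : (ShortComplex.mk f' (twπ IZ L) hw).ShortExact :=
    ShortComplex.shortExact_of_iso (ShortComplex.isoMk
      (S₁ := (ShortComplex.mk (ClSub.idealModι IZ) (ClSub.toSubscheme IZ) (kernel.condition _)).map F)
      (S₂ := ShortComplex.mk f' (twπ IZ L) hw) (Iso.refl _) (M2.tensorLUnit L) (Iso.refl _)
      (Category.id_comp _)
      (show (M2.tensorLUnit L).hom ≫ twπ IZ L = F.map (ClSub.toSubscheme IZ) ≫ 𝟙 _ by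
        show (M2.tensorLUnit L).hom ≫ (M2.tensorLUnit L).inv ≫ F.map (ClSub.toSubscheme IZ) = _
        rw [Iso.hom_inv_id_assoc, Category.comp_id]))
      ((M2.shortExact_idealMod IZ).map_of_exact F)
  have hker : LinearMap.ker (ev (k := k) IZ ε S) = LinearMap.range (CurveCoh17.hmap k f' 0) := by
    rw [← LinearMap.exact_iff.1 (CurveCoh17.exact_hmap_hmap k hT 0)]
    ext y
    rw [LinearMap.mem_ker, LinearMap.mem_ker]
    have h1 : CurveCoh17.hmap k (twπ IZ L) 0 y = 0 ↔ M1.secHom (CurveCoh17.hh0 L y) ≫ twπ IZ L = 0 := by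
      rw [← (CurveCoh17.hh0 (NumConn10.tw IZ L)).map_eq_zero_iff, CurveCoh17.hh0_hmap]
      refine ⟨fun h => M1.unit_hom_ext ?_, fun h => ?_⟩
      · show (twπ IZ L).app ⊤ ((M1.secHom (CurveCoh17.hh0 L y)).app ⊤ (M1.one ⊤)) = _
        rw [M1.secHom_app_one, h]
        rfl
      · rw [← M1.secHom_app_one (CurveCoh17.hh0 L y)]
        show (M1.secHom (CurveCoh17.hh0 L y) ≫ twπ IZ L).app ⊤ (M1.one ⊤) = 0
        rw [h]
        rfl
    rw [h1]
    constructor
    · intro h
      refine comp_twπ_eq_zero hL _ _ fun x => (stalk_twπ_eq_zero_iff hL _ x (ε x) IZ).2 ?_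
      by_cases hx : x ∈ S
      · have := congrFun h ⟨x, hx⟩
        rw [← germ_hh0_eq (k := k)]
        exact this
      · exact hS.zero x hx _
    · intro h
      funext x
      show qAt IZ (x : X) (ε x (CurveCoh17.h0germ k L (x : X) y)) = 0
      rw [germ_hh0_eq (k := k)]
      refine (stalk_twπ_eq_zero_iff hL _ (x : X) (ε x) IZ).1 ?_
      rw [h]
      show (M1.stalkAb (x : X)).map (0 : Coh.structureModule X ⟶ NumConn10.tw IZ L) _ = 0
      rw [Functor.map_zero]; rfl
  have h := (ev (k := k) IZ ε S).finrank_range_add_finrank_ker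
  rw [hker, LinearMap.finrank_range_of_inj (CurveCoh17.hmap_f_injective k hT)] at h
  rw [← h, (CurveCoh17.hequiv k (M2.tensorComm L (ClSub.idealMod IZ)) 0).finrank_eq]
  rfl

/-- The Cayley–Bacharach inequality. -/
theorem rank_add_rank_le [IsAlgClosed k] (IZ : X.IdealSheafData) (hfin : (IZ.support : Set X).Finite)
    (hcl : ∀ x ∈ (IZ.support : Set X), IsClosed ({x} : Set X))
    (hsoc : ∀ x ∈ (IZ.support : Set X), ∃ s, qAt IZ x s ≠ 0 ∧ (∀ m ∈ maximalIdeal (X.presheaf.stalk x), qAt IZ x (m * s) = 0) ∧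
      ∀ t, qAt IZ x t ≠ 0 → ∃ r, qAt IZ x (r * t) = qAt IZ x s)
    {L L' N : X.Modules} (hL : PicF.IsInvertible L) (hL' : PicF.IsInvertible L') (hN : PicF.IsInvertible N)
    (eN : CohB1.tensorMod L L' ≅ N)
    (hCB : ∀ I' : X.IdealSheafData, IZ ⋖ I' → ∀ σ : Coh.structureModule X ⟶ N,
      PicF2.zeroScheme N σ ≤ I' → PicF2.zeroScheme N σ ≤ IZ) :
    ((Module.finrank k (Coh.HH X L 0) : ℤ) - Module.finrank k (Coh.HH X (CohB1.tensorMod L (ClSub.idealMod IZ)) 0)) +
        ((Module.finrank k (Coh.HH X L' 0) : ℤ) - Module.finrank k (Coh.HH X (CohB1.tensorMod L' (ClSub.idealMod IZ)) 0)) ≤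
      Module.finrank k (Coh.HH X (ClSub.quotMod IZ) 0) := by
  classical
  haveI : IsNoetherian X := CohFound.isNoetherian_of_isProper (X ↘ Spec (CommRingCat.of k))
  let S := hfin.toFinset
  have hS : CurveCoh17.SuppIn (ClSub.quotMod IZ) S := ⟨fun x hx => hcl x (hfin.mem_toFinset.1 hx), fun x hx a => by
    have h := fun h' => hx (hfin.mem_toFinset.2 (NumPoly18.support_quotMod_subset IZ h'))
    exact (M1.notMem_support_iff _ _).1 h a⟩
  have htriv : ∀ {M : X.Modules}, PicF.IsInvertible M → ∀ x : X,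
      Nonempty (M.presheaf.stalk x ≃ₗ[X.presheaf.stalk x] X.presheaf.stalk x) := fun {M} hM x => by
    obtain ⟨e⟩ := CurveCoh17.nonempty_stalk_equiv ((M2.isInvertible_iff_isFinLocFreeOfRank_one M).1 hM) x
    exact ⟨e ≪≫ₗ LinearEquiv.funUnique (Fin 1) _ _⟩
  let εL := fun x => (htriv hL x).some
  let εL' := fun x => (htriv hL' x).some
  have hbij : ∀ x : X, Function.Bijective (stalkLin eN.inv x) := fun x =>
    ⟨(M1.mono_iff_stalk _).1 inferInstance x, (M1.epi_iff_stalk _).1 inferInstance x⟩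
  let εN : ∀ x : X, N.presheaf.stalk x ≃ₗ[X.presheaf.stalk x] X.presheaf.stalk x := fun x =>
    LinearEquiv.ofBijective (stalkLin eN.inv x) (hbij x) ≪≫ₗ M2.stalkEquiv L L' x ≪≫ₗ
      TensorProduct.congr (εL x) (εL' x) ≪≫ₗ TensorProduct.lid _ _
  -- products of sections
  have hprod : ∀ (y : Coh.HH X L 0) (z : Coh.HH X L' 0), ∃ w : Coh.HH X N 0, ∀ x : S,
      ev (k := k) IZ εN S w x = εL x (CurveCoh17.h0germ k L (x : X) y) • ev (k := k) IZ εL' S z x := by
    intro y z
    let P : Γ(N, (⊤ : X.Opens)) := eN.hom.app ⊤ (M2.tsec L L' (CurveCoh17.hh0 L y) (CurveCoh17.hh0 L' z))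
    refine ⟨(CurveCoh17.hh0 N).symm P, fun x => ?_⟩
    show qAt IZ (x : X) (εN x (CurveCoh17.h0germ k N (x : X) ((CurveCoh17.hh0 N).symm P))) =
      _ • qAt IZ (x : X) (εL' x (CurveCoh17.h0germ k L' (x : X) z))
    rw [← map_smul]
    congr 1
    have h1 : CurveCoh17.h0germ k N (x : X) ((CurveCoh17.hh0 N).symm P) =
        stalkLin eN.hom (x : X) ((CohB1.tensorMod L L').presheaf.germ ⊤ (x : X) trivial
          (M2.tsec L L' (CurveCoh17.hh0 L y) (CurveCoh17.hh0 L' z))) := by
      show N.presheaf.germ ⊤ (x : X) trivial (CurveCoh17.hh0 N ((CurveCoh17.hh0 N).symm P)) = _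
      rw [AddEquiv.apply_symm_apply]
      exact (M1.germ_naturality eN.hom ⊤ (x : X) trivial _).symm
    simp only [εN, LinearEquiv.trans_apply, LinearEquiv.ofBijective_apply]
    rw [h1, ← CurveCoh17.stalkLin_comp, eN.hom_inv_id]
    have hid : ∀ a, stalkLin (𝟙 (CohB1.tensorMod L L')) (x : X) a = a := fun a => by
      show (M1.stalkAb (x : X)).map (𝟙 (CohB1.tensorMod L L')) a = a
      rw [CategoryTheory.Functor.map_id]; rfl
    rw [hid, M2.stalkEquiv_tsec, TensorProduct.congr_tmul, TensorProduct.lid_tmul]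
    rfl
  haveI hfinA : Module.Finite k (∀ x : S, (ClSub.quotMod IZ).presheaf.stalk (x : X)) := by
    haveI := CohFound.finite_HH_of_isProper (A := k) (ClSub.quotMod IZ)
      (CohFound.isCoh_push_closedImm IZ.subschemeι (M1.isCoh_structureModule _)) 0
    exact Module.Finite.equiv (hS.h0Equiv k)
  choose s hs0 hsm hsgen using fun x : S => hsoc x (hfin.mem_toFinset.1 x.2)
  let V := LinearMap.range (ev (k := k) IZ εN S)
  have havoid : ∀ x : S, Pi.single x (qAt IZ (x : X) (s x)) ∉ V := by
    rintro x ⟨y, hy⟩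
    let σ := M1.secHom (CurveCoh17.hh0 N y)
    let c : ∀ z : X, X.presheaf.stalk z := fun z => εN z (stalkLin σ z (oneAt z))
    have hcx : qAt IZ (x : X) (c x) = qAt IZ (x : X) (s x) := by
      have := congrFun hy x
      rw [Pi.single_eq_same] at this
      simp only [c, σ]
      rw [← germ_hh0_eq (k := k)]
      exact this
    have hcz : ∀ z : X, z ≠ (x : X) → qAt IZ z (c z) = 0 := fun z hz => by
      by_cases hzS : z ∈ S
      · have := congrFun hy ⟨z, hzS⟩
        rw [Pi.single_eq_of_ne (fun h => hz (congrArg Subtype.val h))] at this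
        simp only [c, σ]
        rw [← germ_hh0_eq (k := k)]
        exact this
      · exact hS.zero z hzS _
    have hne : ¬ PicF2.zeroScheme N σ ≤ IZ := fun h => hs0 x (by
      rw [← hcx]; exact (zeroScheme_le_iff hN σ εN IZ).1 h x)
    refine hne (hCB (IZ ⊔ PicF2.zeroScheme N σ) ⟨left_lt_sup.2 hne, fun K h1 h2 => ?_⟩ σ le_sup_right)
    obtain ⟨U, hU⟩ := not_forall.1 (show ¬ ∀ U, K.ideal U ≤ IZ.ideal U from fun h => h1.not_ge h)
    obtain ⟨r, hrK, hrI⟩ := SetLike.not_le_iff_exists.1 hU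
    have hr2 := h2.le U hrK
    rw [Scheme.IdealSheafData.ideal_sup, Pi.sup_apply] at hr2
    obtain ⟨i, hi, j, hj, hij⟩ := Submodule.mem_sup.1 hr2
    obtain ⟨z, hz⟩ := not_forall.1 (fun h => hrI ((mem_ideal_iff IZ U r).2 h))
    obtain ⟨hzU, hz⟩ := not_forall.1 hz
    obtain ⟨v, hv⟩ := exists_germ_eq_mul_of_mem hN σ (εN z) hj hzU
    have hrz : qAt IZ z (X.presheaf.germ U.1 z hzU r) = v • qAt IZ z (c z) := by
      rw [← hij, map_add, map_add, (mem_ideal_iff IZ U i).1 hi z hzU, zero_add, hv, ← smul_eq_mul, map_smul]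
    have hzx : z = (x : X) := by
      by_contra hne'
      exact hz (by rw [hrz, hcz z hne', smul_zero])
    subst hzx
    have hvu : IsUnit v := by
      by_contra hvu
      refine hz ?_
      rw [hrz, hcx, ← map_smul, smul_eq_mul]
      exact hsm x v ((mem_maximalIdeal v).2 hvu)
    have hK : qAt K (x : X) (c x) = 0 := by
      have e1 : qAt IZ (x : X) (X.presheaf.germ U.1 (x : X) hzU r - v • c x) = 0 := by
        rw [map_sub, map_smul, hrz, sub_self]
      have e2 := qAt_eq_zero_of_le h1.le (x : X) e1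
      rw [map_sub, map_smul, (mem_ideal_iff K U r).1 hrK _ hzU, zero_sub, neg_eq_zero] at e2
      exact hvu.smul_eq_zero.1 e2
    refine h2.not_ge (sup_le h1.le ((zeroScheme_le_iff hN σ εN K).2 fun z => ?_))
    by_cases hzx : z = (x : X)
    · subst hzx; exact hK
    · exact qAt_eq_zero_of_le h1.le z (hcz z hzx)
  -- a functional vanishing on `V` but on no socle
  let W := V.dualAnnihilator
  let Ks : Finset (Subspace k W) := Finset.univ.image fun x : S =>
    LinearMap.ker ((Module.Dual.eval k (∀ x : S, (ClSub.quotMod IZ).presheaf.stalk (x : X))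
      (Pi.single x (qAt IZ (x : X) (s x)))).comp W.subtype)
  have htop : ⊤ ∉ Ks := fun h => by
    obtain ⟨x, -, hx⟩ := Finset.mem_image.1 h
    obtain ⟨l, hl1, hl2⟩ := Submodule.exists_dual_map_eq_bot_of_notMem (havoid x) inferInstance
    have hlW : l ∈ W := (Submodule.mem_dualAnnihilator l).2 fun v hv => by
      have : l v ∈ V.map l := Submodule.mem_map_of_mem hv
      rwa [hl2, Submodule.mem_bot] at this
    have : (⟨l, hlW⟩ : W) ∈ (⊤ : Submodule k W) := trivial
    rw [← hx] at this
    exact hl1 this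
  haveI : Infinite k := IsAlgClosed.instInfinite
  obtain ⟨lam, hlam⟩ := (Set.ne_univ_iff_exists_notMem _).1 (Subspace.biUnion_ne_univ_of_top_notMem htop)
  have hl : ∀ x : S, (lam : Module.Dual k _)
      (Pi.single x (qAt IZ (x : X) (s x)) : ∀ x : S, (ClSub.quotMod IZ).presheaf.stalk (x : X)) ≠ 0 := fun x h => hlam (by
    refine Set.mem_biUnion (Finset.mem_image.2 ⟨x, Finset.mem_univ _, rfl⟩) ?_
    exact h)
  let mulV : Coh.HH X L 0 → (∀ x : S, (ClSub.quotMod IZ).presheaf.stalk (x : X)) → ∀ x : S, (ClSub.quotMod IZ).presheaf.stalk (x : X) :=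
    fun y a x => εL x (CurveCoh17.h0germ k L (x : X) y) • a x
  let lam' : Module.Dual k (∀ x : S, (ClSub.quotMod IZ).presheaf.stalk (x : X)) := lam
  let Φ : Coh.HH X L 0 →ₗ[k] Module.Dual k (∀ x : S, (ClSub.quotMod IZ).presheaf.stalk (x : X)) :=
    LinearMap.mk₂ k (fun y a => lam' (mulV y a))
      (fun y y' a => by
        rw [← map_add]; congr 1; funext x; simp only [mulV, map_add, add_smul, Pi.add_apply])
      (fun c y a => by
        rw [← map_smul]; congr 1; funext x
        show εL x (CurveCoh17.h0germ k L (x : X) (c • y)) • a x =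
          stalkRingMap k (x : X) c • εL x (CurveCoh17.h0germ k L (x : X) y) • a x
        rw [map_smul]
        show εL x (stalkRingMap k (x : X) c • CurveCoh17.h0germ k L (x : X) y) • a x = _
        rw [map_smul, smul_assoc])
      (fun y a a' => by
        rw [← map_add]; congr 1; funext x; simp only [mulV, smul_add, Pi.add_apply])
      (fun c y a => by
        rw [← map_smul]; congr 1; funext x
        show εL x (CurveCoh17.h0germ k L (x : X) y) • stalkRingMap k (x : X) c • a x =
          stalkRingMap k (x : X) c • εL x (CurveCoh17.h0germ k L (x : X) y) • a x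
        rw [smul_comm])
  have hrange : LinearMap.range Φ ≤ (LinearMap.range (ev (k := k) IZ εL' S)).dualAnnihilator := by
    rintro _ ⟨y, rfl⟩
    refine (Submodule.mem_dualAnnihilator _).2 fun a ha => ?_
    obtain ⟨z, rfl⟩ := ha
    obtain ⟨w, hw⟩ := hprod y z
    show lam' (fun x => εL x (CurveCoh17.h0germ k L (x : X) y) • ev (k := k) IZ εL' S z x) = 0
    rw [← funext hw]
    exact (Submodule.mem_dualAnnihilator _).1 lam.2 _ ⟨w, rfl⟩
  have hkerle : LinearMap.ker Φ ≤ LinearMap.ker (ev (k := k) IZ εL S) := fun y hy => by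
    rw [LinearMap.mem_ker] at hy ⊢
    funext x
    by_contra hne
    obtain ⟨r, hr⟩ := hsgen x (εL x (CurveCoh17.h0germ k L (x : X) y)) hne
    refine hl x ?_
    have h := LinearMap.congr_fun hy (Pi.single x (qAt IZ (x : X) r))
    change lam' (fun x' => εL x' (CurveCoh17.h0germ k L (x' : X) y) • (Pi.single x (qAt IZ (x : X) r) : ∀ x : S, (ClSub.quotMod IZ).presheaf.stalk (x : X)) x') = 0 at h
    rw [← h]
    congr 1
    funext x'
    by_cases he : x' = x
    · subst he
      rw [Pi.single_eq_same, Pi.single_eq_same, ← map_smul, smul_eq_mul, mul_comm, ← hr]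
    · rw [Pi.single_eq_of_ne he, Pi.single_eq_of_ne he, smul_zero]
  haveI := CohFound.finite_HH_of_isProper (A := k) L (Snapper.isCoh_of_isInvertible hL) 0
  have e1 := Φ.finrank_range_add_finrank_ker
  have e2 := (ev (k := k) IZ εL S).finrank_range_add_finrank_ker
  have e3 := finrank_range_ev (k := k) IZ hL εL S hS
  have e4 := finrank_range_ev (k := k) IZ hL' εL' S hS
  have e5 := Submodule.finrank_mono hkerle
  have e6 := Submodule.finrank_mono hrange
  have e7 := Subspace.finrank_add_finrank_dualAnnihilator_eq (LinearMap.range (ev (k := k) IZ εL' S))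
  rw [(hS.h0Equiv k).finrank_eq]
  omega

end Groth.Agent.LMSimple8
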