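import Groth.Agent.Lib.LMSimple8.CBEval2
import Groth.Agent.Lib.CurveCoh17.Euler
import Groth.Agent.Lib.NumPoly18.SurfProj
import Groth.Agent.Lib.SmDim19.Basic

/-!
# Socles of local complete intersection points on a surface
-/

set_option autoImplicit false
set_option linter.style.haveILetI false
set_option linter.unusedSectionVars false
set_option backward.isDefEq.respectTransparency false
set_option backward.isDefEq.respectTransparency.types false
set_option maxHeartbeats 1600000

universe u

open CategoryTheory CategoryTheory.Limits AlgebraicGeometry TopologicalSpace Opposite IsLocalRing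

noncomputable section

namespace Groth.Agent.LMSimple8

open Groth.Agent.CurveCoh17 (stalkLin stalkRingMap)
open Groth.Agent.NumConn10 (oneAt)

variable {k : Type u} [Field k] {X : Scheme.{u}} [X.Over (Spec (CommRingCat.of k))]
  [IsProper (X ↘ Spec (CommRingCat.of k))]

attribute [local instance] CurveCoh17.stalkMod

omit [X.Over (Spec (CommRingCat.of k))] [IsProper (X ↘ Spec (CommRingCat.of k))] in
theorem smul_oneAt_injective (x : X) :
    Function.Injective fun r : X.presheaf.stalk x => r • oneAt x := by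
  obtain ⟨e⟩ := CurveCoh17.nonempty_stalk_equiv
    ((M2.isInvertible_iff_isFinLocFreeOfRank_one (Coh.structureModule X)).1 (QAGen11.isInvertible_unit X)) x
  let ε := e ≪≫ₗ LinearEquiv.funUnique (Fin 1) _ _
  have hs : Function.Surjective (LinearMap.toSpanSingleton (X.presheaf.stalk x) _ (oneAt x)) := fun q => by
    obtain ⟨c, rfl⟩ := NumConn10.exists_smul_one x q
    exact ⟨c, rfl⟩
  exact Function.Injective.of_comp (f := ε)
    (OrzechProperty.injective_of_surjective_endomorphism
      (ε.toLinearMap.comp (LinearMap.toSpanSingleton (X.presheaf.stalk x) _ (oneAt x))) (ε.surjective.comp hs))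

include k in
theorem isClosed_points_of_finite {Z : Set X} (hZ : IsClosed Z) (hfin : Z.Finite) :
    ∀ x ∈ Z, IsClosed ({x} : Set X) := fun x hx => by
  haveI : JacobsonSpace X := LocallyOfFiniteType.jacobsonSpace (X ↘ Spec (CommRingCat.of k))
  have h := closure_inter_closedPoints hZ
  have hc : IsClosed (Z ∩ closedPoints X) := by
    rw [← Set.biUnion_of_singleton (Z ∩ closedPoints X)]
    exact (hfin.inter_of_left _).isClosed_biUnion fun y hy => hy.2
  rw [hc.closure_eq] at h
  exact (h.ge hx).2

variable [IsAlgClosed k] [IsIntegral X] [SmoothOfRelativeDimension 2 (X ↘ Spec (CommRingCat.of k))]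

include k in
/-- Socles at the points of a finite local complete intersection on a surface. -/
theorem exists_socle_qAt (IZ : X.IdealSheafData) (hfin : (IZ.support : Set X).Finite)
    (hlci : ∀ x : X, ∃ V : X.affineOpens, x ∈ (V : X.Opens) ∧ ∃ a b : Γ(X, V), IZ.ideal V = Ideal.span {a, b})
    (x : X) (hx : x ∈ (IZ.support : Set X)) :
    ∃ s, qAt IZ x s ≠ 0 ∧ (∀ m ∈ maximalIdeal (X.presheaf.stalk x), qAt IZ x (m * s) = 0) ∧
      ∀ t, qAt IZ x t ≠ 0 → ∃ r, qAt IZ x (r * t) = qAt IZ x s := by
  classical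
  haveI : IsNoetherian X := CohFound.isNoetherian_of_isProper (X ↘ Spec (CommRingCat.of k))
  haveI : Smooth (X ↘ Spec (CommRingCat.of k)) := SmoothOfRelativeDimension.smooth 2 _
  have hcl := isClosed_points_of_finite (k := k) IZ.support.isClosed hfin
  haveI : IsRegularLocalRing (X.presheaf.stalk x) := SurfRR10.regular (k := k) x
  have hd : ringKrullDim (X.presheaf.stalk x) = 2 :=
    SmDim19.ringKrullDim_stalk_of_isClosed (n := 2) (f := X ↘ Spec (CommRingCat.of k)) (hcl x hx)
  obtain ⟨V, hxV, a, b, hab⟩ := hlci x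
  let g : Γ(X, V.1) → X.presheaf.stalk x := fun r => X.presheaf.germ V.1 x hxV r
  have hsub : Ideal.span {g a, g b} ≤ LinearMap.ker (qAt IZ x) := Ideal.span_le.2 (by
    rintro _ (rfl | rfl)
    · exact (mem_ideal_iff IZ V a).1 (hab ▸ Ideal.subset_span (Set.mem_insert _ _)) x hxV
    · exact (mem_ideal_iff IZ V b).1 (hab ▸ Ideal.subset_span (Set.mem_insert_of_mem _ rfl)) x hxV)
  have hker : LinearMap.ker (qAt IZ x) = Ideal.span {g a, g b} := by
    refine le_antisymm (fun t ht => ?_) hsub
    obtain ⟨w, hw⟩ := ((Cyc26.stalkLin_exact (M2.shortExact_idealMod IZ) x).2.1 (t • oneAt x)).1 ht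
    change CurveCoh17.stalkLin (ClSub.idealModι IZ) x w = t • oneAt x at hw
    haveI : Coh.IsQCoh (ClSub.idealMod IZ) :=
      M1.isQCoh_kernel (M1.isCoh_structureModule X).1 (CohFound.isCoh_push_closedImm IZ.subschemeι (M1.isCoh_structureModule _)).1 _
    obtain ⟨u, m, hu, hum⟩ := M1.exists_germ_smul_eq (ClSub.idealMod IZ) V.2 hxV w
    let r : Γ(X, V.1) := (ClSub.idealModι IZ).app V.1 m
    have hr : r ∈ IZ.ideal V := (M2.range_idealIncl IZ V).le ⟨m, rfl⟩
    have h2 : (g u * t) • oneAt x = g r • oneAt x := by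
      rw [mul_smul, ← hw, ← map_smul (CurveCoh17.stalkLin (ClSub.idealModι IZ) x), hum,
        CurveCoh17.stalkLin_apply, M1.germ_naturality]
      have h3 : (r • M1.one V.1 : Γ(Coh.structureModule X, V.1)) = (ClSub.idealModι IZ).app V.1 m := mul_one r
      rw [← h3, M1.germ_smul]
      congr 1
      rw [← M1.mres_one (le_top : V.1 ≤ ⊤)]
      exact M1.germ_mres (Coh.structureModule X) (le_top : V.1 ≤ ⊤) hxV (M1.one ⊤)
    have h4 : g u * t = g r := smul_oneAt_injective x h2
    refine (Ideal.unit_mul_mem_iff_mem _ hu).1 ?_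
    show g u * t ∈ _
    rw [h4]
    rw [hab, Ideal.mem_span_pair] at hr
    obtain ⟨c, d, hcd⟩ := hr
    refine Ideal.mem_span_pair.2 ⟨g c, g d, ?_⟩
    simp only [g, ← map_mul, ← map_add, hcd]
  have hne : Ideal.span {g a, g b} ≠ ⊤ := fun h => by
    have h1 : (1 : X.presheaf.stalk x) ∈ LinearMap.ker (qAt IZ x) := hker ▸ h ▸ Submodule.mem_top
    haveI : Subsingleton ((ClSub.quotMod IZ).presheaf.stalk x) := subsingleton_of_forall_eq 0 fun y => by
      obtain ⟨r, rfl⟩ := surjective_qAt IZ x y
      rw [show qAt IZ x r = r • qAt IZ x 1 by rw [← map_smul, smul_eq_mul, mul_one], LinearMap.mem_ker.1 h1, smul_zero]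
    have hx' : x ∈ CohB1.support (ClSub.quotMod IZ) := by rw [NumPoly18.support_quotMod]; exact hx
    exact hx' inferInstance
  haveI : IsArtinianRing (X.presheaf.stalk x ⧸ Ideal.span ({g a, g b} : Set (X.presheaf.stalk x))) := by
    let S := hfin.toFinset
    have hS : CurveCoh17.SuppIn (ClSub.quotMod IZ) S := ⟨fun y hy => hcl y (hfin.mem_toFinset.1 hy), fun y hy a => by
      have h := fun h' => hy (hfin.mem_toFinset.2 (NumPoly18.support_quotMod_subset IZ h'))
      exact (M1.notMem_support_iff _ _).1 h a⟩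
    haveI : Module.Finite k ((ClSub.quotMod IZ).presheaf.stalk x) := hS.finite_stalk
      (CohFound.finite_HH_of_isProper (A := k) (ClSub.quotMod IZ)
        (CohFound.isCoh_push_closedImm IZ.subschemeι (M1.isCoh_structureModule _)) 0) ⟨x, hfin.mem_toFinset.2 hx⟩
    let ρ : k →+* X.presheaf.stalk x ⧸ Ideal.span ({g a, g b} : Set (X.presheaf.stalk x)) :=
      (Ideal.Quotient.mk _).comp (stalkRingMap k x)
    letI := ρ.toAlgebra
    let q := (Submodule.quotEquivOfEq _ _ hker.symm).trans
      ((qAt IZ x).quotKerEquivOfSurjective (surjective_qAt IZ x))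
    let q' : (X.presheaf.stalk x ⧸ Ideal.span ({g a, g b} : Set (X.presheaf.stalk x))) ≃ₗ[k]
        (ClSub.quotMod IZ).presheaf.stalk x :=
      { q with
        map_smul' := fun c y => by
          obtain ⟨y, rfl⟩ := Ideal.Quotient.mk_surjective y
          show q (Ideal.Quotient.mk _ (stalkRingMap k x c) * Ideal.Quotient.mk _ y) = stalkRingMap k x c • q (Ideal.Quotient.mk _ y)
          rw [← map_smul q]
          rfl }
    haveI := Module.Finite.equiv q'.symm
    exact isArtinian_of_tower k (inferInstance : IsArtinian k _)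
  obtain ⟨s, hs, hsm, hsg⟩ := exists_socle_two (X.presheaf.stalk x) hd (g a) (g b) hne
  rw [← hker] at hs hsm hsg
  refine ⟨s, hs, hsm, fun t ht => ?_⟩
  obtain ⟨r, hr⟩ := hsg t ht
  exact ⟨r, by rwa [LinearMap.mem_ker, map_sub, sub_eq_zero] at hr⟩

end Groth.Agent.LMSimple8
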