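import Groth.Agent.Lib.LMSimple8.ExtDual

/-!
# Duality between cohomology and extensions
-/

set_option autoImplicit false
set_option linter.style.haveILetI false
set_option linter.unusedSectionVars false
set_option backward.isDefEq.respectTransparency false
set_option backward.isDefEq.respectTransparency.types false
set_option maxHeartbeats 1600000

universe u

open CategoryTheory CategoryTheory.Limits AlgebraicGeometry TopologicalSpace

attribute [local instance] HasDerivedCategory.standard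

noncomputable section

namespace Groth.Agent.LMSimple8

variable {k : Type u} [Field k] {X : Scheme.{u}} [X.Over (Spec (CommRingCat.of k))]
  [IsProper (X ↘ Spec (CommRingCat.of k))]

/-- Serre duality for coherent modules: extensions are dual to cohomology. -/
theorem nonempty_ext_dual (n : ℕ) [SmoothOfRelativeDimension n (X ↘ Spec (CommRingCat.of k))] [HasExt.{u} X.Modules]
    {W : X.Modules} (hW : ExtPow.IsExtPow n (Omega.sheaf (X ↘ Spec (CommRingCat.of k))) W)
    {Q : X.Modules} (hQ : Coh.IsCoh Q) {p : ℕ} (hp : p ≤ n) :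
    Nonempty (Abelian.Ext Q W (n - p) ≃ₗ[k] Module.Dual k (Coh.HH X Q p)) := by
  let f := X ↘ Spec (CommRingCat.of k)
  haveI : IsNoetherian X := CohFound.isNoetherian_of_isProper f
  haveI := DBC9.hasRpush f
  let hq := BC8.rpushPreserves f
  haveI : DCoh.HasShriek f hq := BC8.isLeftAdjoint_rpushQ f hq
  let OY := BC8.oQ (Spec (CommRingCat.of k))
  let hOY : OY.obj ≅ DCoh.inD (Spec (CommRingCat.of k)) (Coh.structureModule (Spec (CommRingCat.of k))) :=
    Iso.refl _
  obtain ⟨w⟩ := BC8.nonempty_smooth_shriek f n f (𝟙 X) (Category.id_comp _) (DCoh.shriekAdj f hq) W hW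
  let ω := DCoh.dualizingCx f hq OY
  let w' : ω ≅ (DCoh.inD X W)⟦(n : ℤ)⟧ := ((DBC9.lPId X).app ω).symm ≪≫ w
  let P : DCoh.D X := (DCoh.inD X Q)⟦(p : ℤ)⟧
  have hP : DCoh.IsQCohD P := DMV.isQCohD_shift _ (BC8.isQCohD_inD' hQ.1) _
  let s : SerreP9.one X ≅ DCoh.inD X (Coh.structureModule X) := (SerreP9.oneIso X).symm
  let D := LinearEquiv.ofBijective _ (SerreP9.bijective_tFun hOY P hP)
  let e₁ : Coh.HH X Q p ≃ₗ[k] (SerreP9.one X ⟶ P) :=
    BC8.hhHom k X Q p ≪≫ₗ Linear.homCongr k s.symm (Iso.refl P)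
  let B : DCoh.D X := (DCoh.inD X W)⟦((n - p : ℕ) : ℤ)⟧
  let w'' : ω ≅ B⟦(p : ℤ)⟧ := w' ≪≫
    (shiftFunctorAdd' (DCoh.D X) ((n - p : ℕ) : ℤ) (p : ℤ) (n : ℤ) (by omega)).app _
  let e₂ : (DCoh.inD X Q ⟶ B) ≃ₗ[k] (P ⟶ ω) :=
    LinearEquiv.ofBijective ((shiftFunctor (DCoh.D X) (p : ℤ)).mapLinearMap k (X := DCoh.inD X Q) (Y := B))
      (Functor.FullyFaithful.map_bijective (Functor.FullyFaithful.ofFullyFaithful (shiftFunctor (DCoh.D X) (p : ℤ))) (DCoh.inD X Q) B) ≪≫ₗ
      Linear.homCongr k (Iso.refl P) w''.symm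
  let e₄ := (Abelian.Ext.homLinearEquiv (R := k) (X := Q) (Y := W) (n := n - p)).symm
  exact ⟨e₄.symm ≪≫ₗ e₂ ≪≫ₗ D ≪≫ₗ e₁.dualMap⟩

end Groth.Agent.LMSimple8
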