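import Groth.Agent.Lib.LMSimple8.CB
import Groth.Agent.Lib.LMSimple8.ExtDual2
import Groth.Agent.Lib.TateZero11.Support
import Groth.Agent.Lib.SerreCl8.Sub
import Groth.Agent.Lib.SerreDual8.Smooth
import Groth.Agent.Lib.CurveCoh17.Skyscraper

/-!
# Enlarging the ideal of finitely many points by one point
-/

set_option autoImplicit false
set_option linter.style.haveILetI false
set_option linter.unusedSectionVars false
set_option backward.isDefEq.respectTransparency false
set_option backward.isDefEq.respectTransparency.types false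
set_option maxHeartbeats 1600000

universe u v w

open CategoryTheory CategoryTheory.Limits AlgebraicGeometry TopologicalSpace

noncomputable section

namespace Groth.Agent.LMSimple8

/-- Sections of `B` in the larger but not the smaller subobject. -/
theorem exists_lift_iff {C : Type v} [Category.{w} C] [Abelian C] {A A' B D D' Q O : C} {φ : A ⟶ A'} {q : A' ⟶ Q}
    {ι : A ⟶ B} {ι' : A' ⟶ B} {π : B ⟶ D} {π' : B ⟶ D'} {h₀ : φ ≫ q = 0} {h : ι ≫ π = 0} {h' : ι' ≫ π' = 0}
    (hT : (ShortComplex.mk φ q h₀).ShortExact) (hS : (ShortComplex.mk ι π h).ShortExact)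
    (hS' : (ShortComplex.mk ι' π' h').ShortExact) (hfac : φ ≫ ι' = ι) :
    (∃ t : O ⟶ A', t ≫ q ≠ 0) ↔ ∃ σ : O ⟶ B, σ ≫ π' = 0 ∧ σ ≫ π ≠ 0 := by
  haveI : Mono ι := hS.mono_f
  haveI : Mono ι' := hS'.mono_f
  haveI : Mono φ := hT.mono_f
  haveI : Mono (ShortComplex.mk φ q h₀).f := hT.mono_f
  haveI : Mono (ShortComplex.mk ι π h).f := hS.mono_f
  haveI : Mono (ShortComplex.mk ι' π' h').f := hS'.mono_f
  constructor
  · rintro ⟨t, ht⟩
    refine ⟨t ≫ ι', by rw [Category.assoc, h', CategoryTheory.Limits.comp_zero], fun h0 => ht ?_⟩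
    have hl : hS.exact.lift (t ≫ ι') h0 ≫ φ = t := (cancel_mono ι').1 (by
      rw [Category.assoc, hfac]
      exact hS.exact.lift_f _ _)
    rw [← hl, Category.assoc, h₀, CategoryTheory.Limits.comp_zero]
  · rintro ⟨σ, h1, h2⟩
    refine ⟨hS'.exact.lift σ h1, fun h0 => h2 ?_⟩
    have e1 : hT.exact.lift (hS'.exact.lift σ h1) h0 ≫ φ = hS'.exact.lift σ h1 := hT.exact.lift_f _ _
    have e2 : hS'.exact.lift σ h1 ≫ ι' = σ := hS'.exact.lift_f _ _
    rw [← e2, ← e1, Category.assoc, Category.assoc, ← Category.assoc φ ι' π, hfac, h, CategoryTheory.Limits.comp_zero]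

open StabCat Groth.Agent.ShStab28 in
/-- The cokernel of the inclusion of two ideals of points differing by one point. -/
theorem simple_coker (k : Type u) [Field k] {X : Scheme.{u}} [X.Over (Spec (CommRingCat.of k))]
    [IsProper (X ↘ Spec (CommRingCat.of k))] {H : X.Modules} (hH : CohB1.IsAmple H)
    (Z : Finset X) (z : X) (hz : z ∈ Z) (hZc : IsClosed (Z : Set X)) (hZ : ∀ z ∈ Z, IsClosed ({z} : Set X)) [DecidableEq X]
    (hZ'c : IsClosed ((Z.erase z : Finset X) : Set X))
    {I I' : X.IdealSheafData} (hI : I = Scheme.IdealSheafData.vanishingIdeal ⟨(Z : Set X), hZc⟩)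
    (hI' : I' = Scheme.IdealSheafData.vanishingIdeal ⟨((Z.erase z : Finset X) : Set X), hZ'c⟩)
    (φ : ClSub.idealMod I ⟶ ClSub.idealMod I') (hφ : φ ≫ ClSub.idealModι _ = ClSub.idealModι _) :
    Mono φ ∧ Coh.IsCoh (cokernel φ) ∧ topologicalKrullDim (CohB1.support (cokernel φ)) ≤ 0 ∧
      IsSimpleCoh (cokernel φ) := by
  haveI : IsNoetherian X := CohFound.isNoetherian_of_isProper (X ↘ Spec (CommRingCat.of k))
  let Y := ShStab28.sys k X H hH.1 (ShStab28.positive k hH)
  haveI hm : Mono φ := mono_of_mono_fac hφ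
  have hOc : Coh.IsCoh (Coh.structureModule X) := M1.isCoh_structureModule X
  have hquot : ∀ J : X.IdealSheafData, Coh.IsCoh (ClSub.quotMod J) := fun J =>
    CohFound.isCoh_push_closedImm J.subschemeι (M1.isCoh_structureModule _)
  have hIc : ∀ J : X.IdealSheafData, Coh.IsCoh (ClSub.idealMod J) := fun J => Y.ok_ker _ hOc (hquot J)
  have hTc : Coh.IsCoh (cokernel φ) := Y.ok_coker φ (hIc I) (hIc I')
  have hsI : (I.support : Set X) = (Z : Set X) := by rw [hI, Scheme.IdealSheafData.coe_support_vanishingIdeal]; rfl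
  have hsI' : (I'.support : Set X) = ((Z.erase z : Finset X) : Set X) := by
    rw [hI', Scheme.IdealSheafData.coe_support_vanishingIdeal]; rfl
  have hS : (ShortComplex.mk φ (cokernel.π φ) (cokernel.condition φ)).ShortExact :=
    ShortComplex.ShortExact.mk (ShortComplex.exact_cokernel φ)
  have hj0 : φ ≫ ClSub.idealModι I' ≫ ClSub.toSubscheme I = 0 := by
    rw [reassoc_of% hφ]; exact kernel.condition _
  let j : cokernel φ ⟶ ClSub.quotMod I := cokernel.desc φ _ hj0
  haveI : Mono j := Preadditive.mono_of_cancel_zero _ fun {P} t ht => by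
    haveI : Epi (pullback.snd (cokernel.π φ) t) := Abelian.epi_pullback_of_epi_f _ _
    haveI : Mono (ShortComplex.mk (ClSub.idealModι I) (ClSub.toSubscheme I) (kernel.condition _)).f :=
      inferInstanceAs (Mono (ClSub.idealModι I))
    have h1 : (pullback.fst (cokernel.π φ) t ≫ ClSub.idealModι I') ≫ ClSub.toSubscheme I = 0 := by
      have h := pullback.condition (f := cokernel.π φ) (g := t) =≫ j
      rw [Category.assoc, Category.assoc, ht, CategoryTheory.Limits.comp_zero, cokernel.π_desc] at h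
      rw [Category.assoc]; exact h
    have e := (M2.shortExact_idealMod I).exact.lift_f _ h1
    have e1 : (M2.shortExact_idealMod I).exact.lift _ h1 ≫ φ = pullback.fst (cokernel.π φ) t :=
      (cancel_mono (ClSub.idealModι I')).1 (by rw [Category.assoc, hφ]; exact e)
    refine (cancel_epi (pullback.snd (cokernel.π φ) t)).1 ?_
    rw [← pullback.condition, ← e1, Category.assoc, cokernel.condition, CategoryTheory.Limits.comp_zero,
      CategoryTheory.Limits.comp_zero]
  have hsub : CohB1.support (cokernel φ) ⊆ (Z : Set X) := fun x hx => by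
    rw [← hsI]
    exact NumPoly18.support_quotMod_subset I (SerreCl8.support_subset_of_mono j hx)
  refine ⟨hm, hTc, le_trans (Topology.IsEmbedding.inclusion hsub).isInducing.topologicalKrullDim_le
    (InterLen.dim_le_zero_of_finite (k := k) hZc Z.finite_toSet), fun hz0 => ?_, fun G i hi hG hG0 => ?_⟩
  · haveI : Epi φ := Preadditive.epi_of_cokernel_zero (hz0.eq_of_tgt _ _)
    haveI : IsIso φ := isIso_of_mono_of_epi φ
    have hle : I' ≤ I := le_of_fac (inv φ) (by rw [← hφ, IsIso.inv_hom_id_assoc])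
    have h2 := Scheme.IdealSheafData.support_antitone hle
    have : z ∈ (I'.support : Set X) := h2 (show z ∈ (I.support : Set X) by rw [hsI]; exact hz)
    rw [hsI'] at this
    exact absurd (Finset.mem_erase.1 this).1 (not_not_intro rfl)
  · haveI := hi
    obtain ⟨w, hP⟩ := shortExact_pullback φ (cokernel.π φ) (cokernel.condition φ) hS i
    have hPc : Coh.IsCoh (pullback (cokernel.π φ) i) := Y.ok_ext hP (hIc I) hG
    haveI : Coh.IsQCoh (pullback (cokernel.π φ) i) := hPc.1
    haveI : Epi (pullback.snd (cokernel.π φ) i) := hP.epi_g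
    let ψ := pullback.fst (cokernel.π φ) i ≫ ClSub.idealModι I'
    obtain ⟨J, e, he⟩ : ∃ (J : X.IdealSheafData) (e : pullback (cokernel.π φ) i ≅ ClSub.idealMod J),
        e.hom ≫ ClSub.idealModι J = pullback.fst (cokernel.π φ) i ≫ ClSub.idealModι I' :=
      ⟨_, exists_idealMod_fac ψ⟩
    have hIJ : I ≤ J := le_of_fac (pullback.lift φ 0 (by rw [cokernel.condition, zero_comp]) ≫ e.hom)
      (by rw [Category.assoc, he, pullback.lift_fst_assoc, hφ])
    have hJI : J ≤ I' := le_of_fac (e.inv ≫ pullback.fst (cokernel.π φ) i)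
      (by rw [Category.assoc, Iso.inv_comp_eq]; exact he.symm)
    have hJ := eq_vanishingIdeal_of_finite_le (Z := ⟨(Z : Set X), hZc⟩) Z.finite_toSet (fun z hz => hZ z hz) (hI ▸ hIJ)
    have h1 : (J.support : Set X) ⊆ (Z : Set X) := hsI ▸ Scheme.IdealSheafData.support_antitone hIJ
    have h2 : ((Z.erase z : Finset X) : Set X) ⊆ J.support := hsI' ▸ Scheme.IdealSheafData.support_antitone hJI
    by_cases hzJ : z ∈ (J.support : Set X)
    · have hJe : I = J := by
        rw [hJ, hI]
        congr 1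
        refine SetLike.coe_injective (Set.Subset.antisymm (fun x hx => ?_) h1)
        by_cases hxz : x = z
        · exact hxz ▸ hzJ
        · exact h2 (Finset.mem_erase.2 ⟨hxz, hx⟩)
      have hl : pullback.lift φ 0 (by rw [cokernel.condition, zero_comp]) ≫ e.hom = eqToHom (congrArg ClSub.idealMod hJe) :=
        (cancel_mono (ClSub.idealModι J)).1 (by
          rw [eqToHom_idealι hJe, Category.assoc, he, pullback.lift_fst_assoc, hφ])
      haveI : IsIso (pullback.lift φ (0 : _ ⟶ G) (by rw [cokernel.condition, zero_comp]) : _ ⟶ pullback (cokernel.π φ) i) := by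
        have : IsIso (pullback.lift φ (0 : _ ⟶ G) (by rw [cokernel.condition, zero_comp]) ≫ e.hom) := by rw [hl]; infer_instance
        exact IsIso.of_isIso_comp_right _ e.hom
      have h0 : pullback.snd (cokernel.π φ) i = 0 :=
        (cancel_epi (pullback.lift φ 0 (by rw [cokernel.condition, zero_comp]) : _ ⟶ pullback (cokernel.π φ) i)).1
          (w.trans CategoryTheory.Limits.comp_zero.symm)
      exact absurd ((IsZero.iff_id_eq_zero _).2 ((cancel_epi (pullback.snd (cokernel.π φ) i)).1 (by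
        rw [h0, zero_comp, zero_comp]))) hG0
    · have hJe : J = I' := by
        rw [hJ, hI']
        congr 1
        refine SetLike.coe_injective (Set.Subset.antisymm (fun x hx => ?_) h2)
        exact Finset.mem_erase.2 ⟨fun hxz => hzJ (hxz ▸ hx), h1 hx⟩
      have hl : e.hom ≫ eqToHom (congrArg ClSub.idealMod hJe) = pullback.fst (cokernel.π φ) i :=
        (cancel_mono (ClSub.idealModι I')).1 (by rw [Category.assoc, eqToHom_idealι hJe, he])
      haveI : IsIso (pullback.fst (cokernel.π φ) i) := by rw [← hl]; infer_instance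
      haveI : Epi (pullback.snd (cokernel.π φ) i ≫ i) := by
        rw [← pullback.condition]; exact epi_comp _ _
      haveI : Epi i := epi_of_epi (pullback.snd (cokernel.π φ) i) i
      exact isIso_of_mono_of_epi i

variable {k : Type u} [Field k] {X : Scheme.{u}} [X.Over (Spec (CommRingCat.of k))]
  [IsProper (X ↘ Spec (CommRingCat.of k))]

/-- A zeroth cohomology map is nonzero exactly when it is so on sections. -/
theorem hmap_zero_ne_zero_iff {A B : X.Modules} (f : A ⟶ B) :
    CurveCoh17.hmap k f 0 ≠ 0 ↔ ∃ t : Coh.structureModule X ⟶ A, t ≫ f ≠ 0 := by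
  constructor
  · intro h
    obtain ⟨x, hx⟩ : ∃ x, CurveCoh17.hmap k f 0 x ≠ 0 := not_forall.1 fun h' => h (LinearMap.ext h')
    refine ⟨M1.secHom (CurveCoh17.hh0 A x), fun h0 => hx ((CurveCoh17.hh0 B).injective ?_)⟩
    rw [CurveCoh17.hh0_hmap, map_zero, ← M1.secHom_app_one (CurveCoh17.hh0 A x)]
    show (M1.secHom (CurveCoh17.hh0 A x) ≫ f).app ⊤ (M1.one ⊤) = 0
    rw [h0]
    rfl
  · rintro ⟨t, ht⟩ h
    refine ht (M1.unit_hom_ext ?_)
    show f.app ⊤ (t.app ⊤ (M1.one ⊤)) = (0 : Coh.structureModule X ⟶ B).app ⊤ (M1.one ⊤)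
    rw [← (CurveCoh17.hh0 A).apply_symm_apply (t.app ⊤ (M1.one ⊤)), ← CurveCoh17.hh0_hmap k, h,
      LinearMap.zero_apply, map_zero]
    rfl

/-- First cohomology along a sequence with one-dimensional sections at the end. -/
theorem finrank_h1_eq_iff {S : ShortComplex X.Modules} (hS : S.ShortExact) (h1 : Coh.IsCoh S.X₁)
    [Subsingleton (Coh.HH X S.X₃ 1)] (h0 : Module.finrank k (Coh.HH X S.X₃ 0) = 1) :
    Module.finrank k (Coh.HH X S.X₂ 1) = Module.finrank k (Coh.HH X S.X₁ 1) ↔
      ∃ t : Coh.structureModule X ⟶ S.X₂, t ≫ S.g ≠ 0 := by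
  haveI := CohFound.finite_HH_of_isProper (A := k) S.X₁ h1 1
  haveI : Module.Finite k (Coh.HH X S.X₃ 0) := Module.finite_of_finrank_pos (by omega)
  let q := CurveCoh17.hmap k S.g 0
  let δ : Coh.HH X S.X₃ 0 →ₗ[k] Coh.HH X S.X₁ 1 := CurveCoh17.hdelta k hS 0
  let a := CurveCoh17.hmap k S.f 1
  have e1 : LinearMap.ker δ = LinearMap.range q := LinearMap.exact_iff.1 (CurveCoh17.exact_hmap_hdelta k hS 0)
  have e2 : LinearMap.ker a = LinearMap.range δ := LinearMap.exact_iff.1 (CurveCoh17.exact_hdelta_hmap k hS 0)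
  have e3 : LinearMap.range a = ⊤ := by
    rw [← LinearMap.exact_iff.1 (CurveCoh17.exact_hmap_hmap k hS 1), eq_top_iff]
    exact fun x _ => Subsingleton.elim _ _
  have r1 := δ.finrank_range_add_finrank_ker
  have r2 : Module.finrank k (LinearMap.range a) + Module.finrank k (LinearMap.ker a) =
      Module.finrank k (Coh.HH X S.X₁ 1) := a.finrank_range_add_finrank_ker
  rw [e1, h0] at r1
  rw [e2, e3, finrank_top] at r2
  rw [← hmap_zero_ne_zero_iff (k := k)]
  constructor
  · intro he hq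
    have : Module.finrank k (LinearMap.range q) = 0 := by
      rw [show q = 0 from hq, LinearMap.range_zero, finrank_bot]
    omega
  · intro hq
    have hq' : LinearMap.range q ≠ ⊥ := fun h => hq (LinearMap.range_eq_bot.1 h)
    have : Module.finrank k (LinearMap.range q) ≠ 0 := fun h => hq' (Submodule.finrank_eq_zero.1 h)
    omega

variable [Smooth (X ↘ Spec (CommRingCat.of k))] [IsIntegral X] [HasExt.{u} X.Modules]

/-- First extensions by a twist of the canonical module. -/
theorem nonempty_ext_one_dual [IsAlgClosed k] (hdim : topologicalKrullDim X = 2) {ω M N : X.Modules}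
    (hω : ExtPow.IsExtPow 2 (Omega.sheaf (X ↘ Spec (CommRingCat.of k))) ω) (hN : PicF.IsInvertible N)
    (eN : CohB1.tensorMod M N ≅ ω) {A : X.Modules} (hA : Coh.IsCoh A) :
    Nonempty (Abelian.Ext A M 1 ≃ₗ[k] Module.Dual k (Coh.HH X (CohB1.tensorMod A N) 1)) := by
  haveI : IsNoetherian X := CohFound.isNoetherian_of_isProper (X ↘ Spec (CommRingCat.of k))
  haveI : SmoothOfRelativeDimension 2 (X ↘ Spec (CommRingCat.of k)) := SurfRR10.smoothRelDim (k := k) hdim
  obtain ⟨d⟩ := nonempty_ext_dual 2 hω (CurveCoh17.isCoh_tensor hA (Snapper.isCoh_of_isInvertible hN)) (p := 1) (by omega)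
  let F := M2.tensorR N
  haveI : F.IsEquivalence := VB17.isEquivalence_tensorR hN
  haveI : PreservesFiniteLimits F := inferInstance
  haveI : PreservesFiniteColimits F := inferInstance
  haveI : F.PreservesInjectiveObjects :=
    Functor.preservesInjectiveObjects_of_adjunction_of_preservesMonomorphisms F.asEquivalence.symm.toAdjunction
  haveI : F.Linear k := linear_tensorR (k := k) N
  let l₁ : Abelian.Ext A M 1 ≃ₗ[k] Abelian.Ext (F.obj A) (F.obj M) 1 :=
    LinearEquiv.ofBijective (F.mapExtLinearMap k A M 1) (F.mapExt_bijective_of_preservesInjectiveObjects A M 1)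
  let e' : F.obj M ≅ ω := eN
  have hb : Function.Bijective ((Abelian.Ext.mk₀ e'.hom).postcompOfLinear k (F.obj A) (add_zero 1)) := by
    refine Function.bijective_iff_has_inverse.2
      ⟨(Abelian.Ext.mk₀ e'.inv).postcompOfLinear k (F.obj A) (add_zero 1), fun z => ?_, fun z => ?_⟩
    · show (z.comp (Abelian.Ext.mk₀ e'.hom) (add_zero 1)).comp (Abelian.Ext.mk₀ e'.inv) (add_zero 1) = z
      rw [Abelian.Ext.comp_assoc_of_third_deg_zero, Abelian.Ext.mk₀_comp_mk₀, e'.hom_inv_id, Abelian.Ext.comp_mk₀_id]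
    · show (z.comp (Abelian.Ext.mk₀ e'.inv) (add_zero 1)).comp (Abelian.Ext.mk₀ e'.hom) (add_zero 1) = z
      rw [Abelian.Ext.comp_assoc_of_third_deg_zero, Abelian.Ext.mk₀_comp_mk₀, e'.inv_hom_id, Abelian.Ext.comp_mk₀_id]
  exact ⟨l₁ ≪≫ₗ LinearEquiv.ofBijective _ hb ≪≫ₗ d⟩

open Groth.Agent.ShStab28 (hilb) in
/-- Extensions come from the ideal of one point fewer exactly when Cayley–Bacharach fails there. -/
theorem surjective_precomp_iff [IsAlgClosed k] [CharZero k] (hdim : topologicalKrullDim X = 2) {H ω M N : X.Modules}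
    (hH : CohB1.IsAmple H) (hω : ExtPow.IsExtPow 2 (Omega.sheaf (X ↘ Spec (CommRingCat.of k))) ω)
    (hN : PicF.IsInvertible N) (eN : CohB1.tensorMod M N ≅ ω)
    (Z : Finset X) (z : X) (hz : z ∈ Z) (hZc : IsClosed (Z : Set X)) (hZ : ∀ z ∈ Z, IsClosed ({z} : Set X)) [DecidableEq X]
    (hZ'c : IsClosed ((Z.erase z : Finset X) : Set X))
    {I I' : X.IdealSheafData} (hI : I = Scheme.IdealSheafData.vanishingIdeal ⟨(Z : Set X), hZc⟩)
    (hI' : I' = Scheme.IdealSheafData.vanishingIdeal ⟨((Z.erase z : Finset X) : Set X), hZ'c⟩)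
    (φ : ClSub.idealMod I ⟶ ClSub.idealMod I') (hφ : φ ≫ ClSub.idealModι _ = ClSub.idealModι _) :
    Function.Surjective ((Abelian.Ext.mk₀ φ).precomp M (zero_add 1)) ↔
      ∃ σ : Coh.structureModule X ⟶ N,
        (∀ z' ∈ Z.erase z, z' ∉ CohB1.genLocus N σ) ∧ z ∈ CohB1.genLocus N σ := by
  haveI : IsNoetherian X := CohFound.isNoetherian_of_isProper (X ↘ Spec (CommRingCat.of k))
  let Y := ShStab28.sys k X H hH.1 (ShStab28.positive k hH)
  obtain ⟨hm, hTc, hTd, hTs⟩ := simple_coker k hH Z z hz hZc hZ hZ'c hI hI' φ hφ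
  haveI := hm
  have hNc := Snapper.isCoh_of_isInvertible hN
  have hIc : ∀ J : X.IdealSheafData, Coh.IsCoh (ClSub.idealMod J) := fun J => Y.ok_ker _
    (M1.isCoh_structureModule X) (CohFound.isCoh_push_closedImm J.subschemeι (M1.isCoh_structureModule _))
  obtain ⟨Ni, hNi, ⟨eNi⟩⟩ := M2.exists_inverse hN
  let F := M2.tensorR N
  haveI : F.IsEquivalence := VB17.isEquivalence_tensorR hN
  haveI : PreservesFiniteLimits F := inferInstance
  haveI : PreservesFiniteColimits F := inferInstance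
  let F' := M2.tensorR Ni
  haveI : F'.IsEquivalence := VB17.isEquivalence_tensorR hNi
  let T := cokernel φ
  have hFTc : Coh.IsCoh (F.obj T) := CurveCoh17.isCoh_tensor hTc hNc
  have hFTd : topologicalKrullDim (CohB1.support (F.obj T)) ≤ 0 :=
    le_trans (Topology.IsEmbedding.inclusion (FMHyp13.support_tensor_left T N)).isInducing.topologicalKrullDim_le hTd
  haveI : Subsingleton (Coh.HH X (F.obj T) 1) :=
    NumPoly18.subsingleton_HH_of_support (k := k) hFTc (d := 0) hFTd (show 0 < 1 by omega)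
  let v : F'.obj (F.obj T) ≅ T :=
    M2.tensorAssoc _ _ _ ≪≫ M2.tensorIso (Iso.refl _) eNi ≪≫ M2.tensorRUnit _
  have hFTs : IsSimpleCoh (F.obj T) := ⟨fun hz0 => hTs.1 ((Functor.map_isZero F' hz0).of_iso v.symm),
    fun A i hi hA hA0 => by
      haveI := hi
      haveI := hTs.2 (F'.obj A) (F'.map i ≫ v.hom) (mono_comp _ _) (CurveCoh17.isCoh_tensor hA (Snapper.isCoh_of_isInvertible hNi))
        (fun h => hA0 ((IsZero.iff_id_eq_zero _).2 (F'.map_injective (by
          rw [CategoryTheory.Functor.map_id, F'.map_zero]; exact h.eq_of_src _ _))))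
      haveI : IsIso (F'.map i) := IsIso.of_isIso_comp_right (F'.map i) v.hom
      exact isIso_of_fully_faithful F' i⟩
  have hd : (hilb k X H (F.obj T)).natDegree = 0 :=
    Nat.le_zero.1 (ShStab28.natDegree_hilb_le k hH.1 hFTc (d := 0) hFTd)
  have h0 := finrank_h0_simple hH hFTc hd hFTs
  have hS : (ShortComplex.mk φ (cokernel.π φ) (cokernel.condition φ)).ShortExact :=
    ShortComplex.ShortExact.mk (ShortComplex.exact_cokernel φ)
  have hFS := hS.map_of_exact F
  obtain ⟨dI⟩ := nonempty_ext_one_dual (k := k) hdim hω hN eN (hIc I)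
  obtain ⟨dI'⟩ := nonempty_ext_one_dual (k := k) hdim hω hN eN (hIc I')
  obtain ⟨dT⟩ := nonempty_ext_one_dual (k := k) hdim hω hN eN hTc
  haveI : Subsingleton (Coh.HH X (CohB1.tensorMod (cokernel φ) N) 1) := ‹Subsingleton (Coh.HH X (F.obj T) 1)›
  haveI : Subsingleton (Module.Dual k (Coh.HH X (CohB1.tensorMod (cokernel φ) N) 1)) :=
    ⟨fun a b => LinearMap.ext fun x => by rw [Subsingleton.elim x 0, map_zero, map_zero]⟩
  haveI : Subsingleton (Abelian.Ext (cokernel φ) M 1) := dT.toEquiv.subsingleton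
  haveI : Subsingleton (Coh.HH X ((ShortComplex.mk φ (cokernel.π φ) (cokernel.condition φ)).map F).X₃ 1) :=
    ‹Subsingleton (Coh.HH X (F.obj T) 1)›
  haveI := CohFound.finite_HH_of_isProper (A := k) _ (CurveCoh17.isCoh_tensor (hIc I) hNc) 1
  haveI := CohFound.finite_HH_of_isProper (A := k) _ (CurveCoh17.isCoh_tensor (hIc I') hNc) 1
  haveI : FiniteDimensional k (Abelian.Ext (ClSub.idealMod I) M 1) := Module.Finite.equiv dI.symm
  haveI : FiniteDimensional k (Abelian.Ext (ClSub.idealMod I') M 1) := Module.Finite.equiv dI'.symm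
  let P := (Abelian.Ext.mk₀ φ).precompOfLinear k M (zero_add 1)
  have hinj : Function.Injective P := (injective_iff_map_eq_zero P).2 fun x hx => by
    obtain ⟨y, rfl⟩ := Abelian.Ext.contravariant_sequence_exact₂ hS M x hx
    rw [Subsingleton.elim y 0, Abelian.Ext.comp_zero]
  have hdI : Module.finrank k (Abelian.Ext (ClSub.idealMod I) M 1) = Module.finrank k (Coh.HH X (F.obj (ClSub.idealMod I)) 1) :=
    dI.finrank_eq.trans Subspace.dual_finrank_eq
  have hdI' : Module.finrank k (Abelian.Ext (ClSub.idealMod I') M 1) = Module.finrank k (Coh.HH X (F.obj (ClSub.idealMod I')) 1) :=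
    dI'.finrank_eq.trans Subspace.dual_finrank_eq
  have hiff : Function.Surjective P ↔
      Module.finrank k (Coh.HH X (F.obj (ClSub.idealMod I')) 1) = Module.finrank k (Coh.HH X (F.obj (ClSub.idealMod I)) 1) := by
    rw [← hdI, ← hdI']
    exact ⟨fun hs => (LinearEquiv.ofBijective P ⟨hinj, hs⟩).finrank_eq,
      fun he => (LinearMap.injective_iff_surjective_of_finrank_eq_finrank he).1 hinj⟩
  refine hiff.trans ((finrank_h1_eq_iff hFS (CurveCoh17.isCoh_tensor (hIc I) hNc) h0).trans
    ((exists_lift_iff hFS ((M2.shortExact_idealMod I).map_of_exact F) ((M2.shortExact_idealMod I').map_of_exact F)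
      (by rw [← F.map_comp, hφ])).trans ?_))
  have hzero : ∀ (J : X.IdealSheafData) (σ : Coh.structureModule X ⟶ N),
      (σ ≫ (M2.tensorLUnit N).inv) ≫ F.map (ClSub.toSubscheme J) = σ ≫ twπ J N := fun J σ => Category.assoc _ _ _
  have hfin : ∀ s : Finset X, (s : Set X).Finite := fun s => s.finite_toSet
  have hv : ∀ σ : Coh.structureModule X ⟶ N, σ ≫ twπ I N = 0 ↔ ∀ z' ∈ Z, z' ∉ CohB1.genLocus N σ := fun σ => by
    rw [hI]; exact comp_twπ_vanishing_iff hN σ (Z := ⟨_, hZc⟩) (hfin Z) fun x hx => hZ x hx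
  have hv' : ∀ σ : Coh.structureModule X ⟶ N, σ ≫ twπ I' N = 0 ↔ ∀ z' ∈ Z.erase z, z' ∉ CohB1.genLocus N σ := fun σ => by
    rw [hI']; exact comp_twπ_vanishing_iff hN σ (Z := ⟨_, hZ'c⟩) (hfin (Z.erase z)) fun x hx => hZ x (Finset.mem_of_mem_erase hx)
  constructor
  · rintro ⟨σ₀, h1, h2⟩
    obtain ⟨σ, rfl⟩ : ∃ σ, σ₀ = σ ≫ (M2.tensorLUnit N).inv :=
      ⟨σ₀ ≫ (M2.tensorLUnit N).hom, by rw [Category.assoc, Iso.hom_inv_id]; exact (Category.comp_id _).symm⟩
    rw [hzero, hv'] at h1
    rw [Ne, hzero, hv] at h2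
    refine ⟨σ, h1, Classical.not_not.1 fun hz' => h2 fun z' hz'' => ?_⟩
    by_cases he : z' = z
    · exact he ▸ hz'
    · exact h1 z' (Finset.mem_erase.2 ⟨he, hz''⟩)
  · rintro ⟨σ, h1, h2⟩
    refine ⟨σ ≫ (M2.tensorLUnit N).inv, ?_, ?_⟩
    · rw [hzero, hv']; exact h1
    · rw [Ne, hzero, hv]; exact fun h => h z hz h2

end Groth.Agent.LMSimple8
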