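import Groth.Agent.Lib.RegRat32.Fibres
import Groth.Agent.Lib.P1Split17.Basis
import Groth.Agent.Lib.CMReg18.GG
import Groth.Agent.Lib.CurveCoh17.Skyscraper
import Groth.Agent.Lib.ModM1.Coh
import Groth.Agent.Lib.TensorMod.Invertible
import Groth.Agent.Lib.KFlat.FinLocFree
import Groth.Prelude.Def_Curv2

/-!
# Products of global generators exhaust the sections of powers
-/

set_option autoImplicit false
set_option linter.style.haveILetI false
set_option linter.unusedSectionVars false
set_option backward.isDefEq.respectTransparency.types false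
set_option maxHeartbeats 1000000

universe u

open CategoryTheory CategoryTheory.Limits AlgebraicGeometry TopologicalSpace Opposite

noncomputable section

namespace Groth.Agent.LMSimple8.Castelnuovo

variable {X : Scheme.{u}}

/-- Restriction of a global function. -/
abbrev rs (V : X.Opens) : Γ(X, (⊤ : X.Opens)) →+* Γ(X, V) := (X.presheaf.map (homOfLE (le_top : V ≤ ⊤)).op).hom

theorem hom_O_apply {M : X.Modules} (φ : Coh.structureModule X ⟶ M) (U : X.Opens)
    (x : Γ(Coh.structureModule X, U)) :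
    φ.app U x = (show Γ(X, U) from x) • M1.mres M (le_top : U ≤ ⊤) (φ.app ⊤ (M1.one ⊤)) := by
  rw [← M1.app_mres, M1.mres_one, ← Scheme.Modules.Hom.app_smul]
  exact congrArg _ (mul_one (show Γ(X, U) from x)).symm

/-- The coordinate sections. -/
def e (r : ℕ) (i : Fin r) : Γ(∐ fun _ : Fin r => Coh.structureModule X, (⊤ : X.Opens)) :=
  (Sigma.ι (fun _ : Fin r => Coh.structureModule X) i).app ⊤ (M1.one ⊤)

theorem proj_e (r : ℕ) (i l : Fin r) :
    (P1Split.proj (fun _ : Fin r => Coh.structureModule X) l).app ⊤ (e r i) =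
      (if i = l then M1.one ⊤ else 0) := by
  show (Sigma.ι (fun _ : Fin r => Coh.structureModule X) i ≫
    P1Split.proj (fun _ : Fin r => Coh.structureModule X) l).app ⊤ (M1.one ⊤) = _
  by_cases h : i = l
  · subst h
    rw [P1Split.ι_proj_self, if_pos rfl]
    rfl
  · rw [P1Split.ι_proj_ne _ h, if_neg h]
    rfl

theorem desc_e {r : ℕ} {M : X.Modules} (s : Fin r → Γ(M, (⊤ : X.Opens))) (i : Fin r) :
    (Sigma.desc fun j => M1.secHom (s j) : (∐ fun _ : Fin r => Coh.structureModule X) ⟶ M).app ⊤ (e r i) = s i := by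
  show (Sigma.ι (fun _ : Fin r => Coh.structureModule X) i ≫ Sigma.desc fun j => M1.secHom (s j)).app ⊤ (M1.one ⊤) = _
  rw [Sigma.ι_desc]
  exact M1.secHom_app_one _

theorem app_decomp {r : ℕ} {M : X.Modules} (φ : (∐ fun _ : Fin r => Coh.structureModule X) ⟶ M) (U : X.Opens)
    (a : Γ(∐ fun _ : Fin r => Coh.structureModule X, U)) :
    φ.app U a = ∑ i, (show Γ(X, U) from (P1Split.proj (fun _ : Fin r => Coh.structureModule X) i).app U a) •
      M1.mres M (le_top : U ≤ ⊤) (φ.app ⊤ (e r i)) := by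
  have h1 := congrArg (fun ψ : (∐ fun _ : Fin r => Coh.structureModule X) ⟶ _ => (ψ ≫ φ).app U a)
    (P1Split.sum_proj_ι (fun _ : Fin r => Coh.structureModule X))
  simp only [Category.id_comp, Preadditive.sum_comp, P1Split.app_sum, Category.assoc] at h1
  refine h1.symm.trans (Finset.sum_congr rfl fun i _ => ?_)
  exact hom_O_apply (Sigma.ι (fun _ : Fin r => Coh.structureModule X) i ≫ φ) U _

/-- The step of the Castelnuovo argument. -/
theorem exists_combination [IsIntegral X] [CompactSpace X] [QuasiSeparatedSpace X] (A : Type u) [CommRing A]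
    [X.Over (Spec (CommRingCat.of A))] (hO : Subsingleton (Coh.HH X (Coh.structureModule X) 1))
    (h2 : ∀ G : X.Modules, Coh.IsQCoh G → Subsingleton (Coh.HH X G 2))
    {r : ℕ} (h : Fin r → Γ(X, (⊤ : X.Opens))) (V : Fin r → X.Opens) (hV : ∀ k, IsAffineOpen (V k))
    (hcov : ∀ x : X, ∃ k, x ∈ V k) (hdiv : ∀ k i, ∃ c, rs (V k) (h i) = c * rs (V k) (h k))
    (hne : ∀ k, ∀ hη : genericPoint X ∈ V k, X.presheaf.germ (V k) (genericPoint X) hη (rs (V k) (h k)) ≠ 0)
    (m : ℕ) (t : Γ(X, (⊤ : X.Opens))) (ht : ∀ k, ∃ u, rs (V k) t = rs (V k) (h k) ^ (m + 2) * u) :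
    ∃ a : Fin r → Γ(X, (⊤ : X.Opens)), t = ∑ i, a i * h i ∧
      ∀ i k, ∃ u, rs (V k) (a i) = rs (V k) (h k) ^ (m + 1) * u := by
  classical
  let F : X.Modules := ∐ fun _ : Fin r => Coh.structureModule X
  let P : X.Modules := ∐ fun _ : Fin (r * r) => Coh.structureModule X
  let σ : Fin (r * r) ≃ Fin r × Fin r := finProdFinEquiv.symm
  let gen : Fin r → Fin r → Γ(F, (⊤ : X.Opens)) := fun i k =>
    (h k ^ m * h k) • e r i - (h k ^ m * h i) • e r k
  let Φ : P ⟶ F := Sigma.desc fun p => M1.secHom (gen (σ p).1 (σ p).2)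
  have hΦ : ∀ p, Φ.app ⊤ (e (r * r) p) = gen (σ p).1 (σ p).2 := fun p =>
    desc_e (fun p => gen (σ p).1 (σ p).2) p
  let π := cokernel.π Φ
  let K : X.Modules := kernel π
  let θ : P ⟶ K := kernel.lift π Φ (cokernel.condition Φ)
  haveI hθ : Epi θ := inferInstanceAs (Epi (Abelian.factorThruImage Φ))
  have hFq : Coh.IsQCoh F := M2.isQCoh_of_isFinLocFree (Groth.Agent.KFlat.Sch.isFinLocFree_freeMod X r)
  have hPq : Coh.IsQCoh P := M2.isQCoh_of_isFinLocFree (Groth.Agent.KFlat.Sch.isFinLocFree_freeMod X (r * r))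
  have hKq : Coh.IsQCoh K := M1.isQCoh_kernel hFq (M1.isQCoh_cokernel hPq hFq Φ) π
  have hKgg : Curv2.IsGloballyGenerated K := by
    refine CMReg18.isGloballyGenerated_of_forall_kills fun N q hq => ?_
    rw [← cancel_epi θ, comp_zero]
    refine Sigma.hom_ext _ _ fun p => ?_
    rw [comp_zero]
    refine Scheme.Modules.hom_ext _ _ fun U => ?_
    ext x
    rw [hom_O_apply]
    have h0 : (Sigma.ι (fun _ : Fin (r * r) => Coh.structureModule X) p ≫ θ ≫ q).app ⊤ (M1.one ⊤) = 0 :=
      hq _
    rw [h0, map_zero, smul_zero]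
    rfl
  have hK1 := RegRat.subsingleton_HH_one_of_gg X hO h2 K hKq hKgg
  choose u hu using ht
  choose c hc using hdiv
  -- the local lifts
  let loc : ∀ k, Γ(F, V k) := fun k => (rs (V k) (h k) ^ (m + 1) * u k) • M1.mres F (le_top : V k ≤ ⊤) (e r k)
  let ev : F ⟶ Coh.structureModule X := Sigma.desc fun i => M1.secHom (show Γ(Coh.structureModule X, ⊤) from h i)
  have hπgen : ∀ i k, π.app ⊤ (gen i k) = 0 := fun i k => by
    obtain ⟨p, hp⟩ := σ.surjective (i, k)
    have := hΦ p
    rw [hp] at this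
    rw [← this, ← CategoryTheory.comp_apply, ← Scheme.Modules.Hom.comp_app, cokernel.condition]
    rfl
  have hcomp : ∀ j k, π.app (V j ⊓ V k) (M1.mres F (inf_le_left : V j ⊓ V k ≤ V j) (loc j)) =
      π.app (V j ⊓ V k) (M1.mres F (inf_le_right : V j ⊓ V k ≤ V k) (loc k)) := by
    intro j k
    let W := V j ⊓ V k
    by_cases hW : (W : Set X).Nonempty
    swap
    · have hb : ∀ a b : Γ(cokernel Φ, W), a = b := fun a b => M1.section_ext a b fun x hx => absurd ⟨x, hx⟩ hW
      exact hb _ _
    have hη : genericPoint X ∈ W := CurveBlowUp.generic_mem hW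
    haveI : Nonempty W := ⟨⟨_, hη⟩⟩
    let C : Γ(X, W) := X.presheaf.map (homOfLE (inf_le_right : W ≤ V k)).op (c k j)
    let uj : Γ(X, W) := X.presheaf.map (homOfLE (inf_le_left : W ≤ V j)).op (u j)
    let uk : Γ(X, W) := X.presheaf.map (homOfLE (inf_le_right : W ≤ V k)).op (u k)
    let H : Fin r → Γ(X, W) := fun i => rs W (h i)
    have res : ∀ {V' : X.Opens} (hle : W ≤ V') (z : Γ(X, (⊤ : X.Opens))),
        X.presheaf.map (homOfLE hle).op (rs V' z) = rs W z := fun hle z => by
      show X.presheaf.map _ (X.presheaf.map _ z) = _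
      rw [← CategoryTheory.comp_apply, ← Functor.map_comp]
      rfl
    have hHj : H j = C * H k := by
      have := congrArg (X.presheaf.map (homOfLE (inf_le_right : W ≤ V k)).op).hom (hc k j)
      rw [map_mul] at this
      rw [res, res] at this
      exact this
    have hHk : H k ≠ 0 := fun h0 => hne k hη.2 (by
      have := congrArg (X.presheaf.germ W (genericPoint X) hη) h0
      rw [map_zero] at this
      rw [← this]
      show _ = X.presheaf.germ W _ hη (rs W (h k))
      rw [TopCat.Presheaf.germ_res_apply, TopCat.Presheaf.germ_res_apply])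
    have huk : uk = C ^ (m + 2) * uj := by
      have e1 := congrArg (X.presheaf.map (homOfLE (inf_le_left : W ≤ V j)).op).hom (hu j)
      have e2 := congrArg (X.presheaf.map (homOfLE (inf_le_right : W ≤ V k)).op).hom (hu k)
      simp only [map_mul, map_pow] at e1 e2
      rw [res, res] at e1 e2
      refine mul_left_cancel₀ (pow_ne_zero (m + 2) hHk) ?_
      have e3 : rs W t = H j ^ (m + 2) * uj := e1
      have e4 : rs W t = H k ^ (m + 2) * uk := e2
      rw [← e4, e3, hHj, mul_pow]
      ring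
    have key : M1.mres F (inf_le_left : W ≤ V j) (loc j) - M1.mres F (inf_le_right : W ≤ V k) (loc k) =
        (C ^ (m + 1) * uj) • M1.mres F (le_top : W ≤ ⊤) (gen j k) := by
      have hsm : ∀ {V' : X.Opens} (hle : W ≤ V') (z : Γ(X, V')) (s : Γ(F, V')),
          M1.mres F hle (z • s) = (X.presheaf.map (homOfLE hle).op z : Γ(X, W)) • M1.mres F hle s :=
        fun hle z s => Scheme.Modules.map_smul F _ z s
      simp only [loc, gen, hsm, M1.mres_mres, map_sub, map_mul, map_pow, res]
      rw [show (X.presheaf.map (homOfLE (le_top : W ≤ ⊤)).op (h k) : Γ(X, W)) = H k from rfl,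
        show (X.presheaf.map (homOfLE (le_top : W ≤ ⊤)).op (h j) : Γ(X, W)) = H j from rfl,
        smul_sub, smul_smul, smul_smul]
      congr 1
      · congr 1
        show H j ^ (m + 1) * uj = _
        rw [hHj]; ring
      · congr 1
        show H k ^ (m + 1) * uk = _
        rw [huk, hHj]; ring
    refine sub_eq_zero.1 ((map_sub _ _ _).symm.trans ?_)
    rw [key, Scheme.Modules.Hom.app_smul, M1.app_mres, hπgen, map_zero, smul_zero]
  obtain ⟨q, hq, -⟩ := TopCat.Sheaf.existsUnique_gluing'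
    (⟨(cokernel Φ).presheaf, (cokernel Φ).isSheaf⟩ : TopCat.Sheaf Ab X) V ⊤ (fun k => homOfLE le_top)
    (fun x _ => Opens.mem_iSup.2 (hcov x)) (fun k => π.app (V k) (loc k)) (fun j k => by
      have := hcomp j k
      rw [M1.app_mres, M1.app_mres] at this
      exact this)
  let S : ShortComplex X.Modules := ShortComplex.mk (kernel.ι π) π (kernel.condition π)
  have hS : S.ShortExact := ShortComplex.ShortExact.mk' (ShortComplex.exact_kernel π) inferInstance inferInstance
  obtain ⟨a', ha'⟩ := (CurveCoh17.exact_hmap_hdelta A hS 0 ((CurveCoh17.hh0 (cokernel Φ)).symm q)).1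
    (hK1.elim _ _)
  let a := CurveCoh17.hh0 F a'
  have haq : π.app ⊤ a = q := by
    rw [← (CurveCoh17.hh0 (cokernel Φ)).apply_symm_apply q, ← ha']
    exact (CurveCoh17.hh0_hmap A π a').symm
  let pr : Fin r → (F ⟶ Coh.structureModule X) := fun i => P1Split.proj (fun _ : Fin r => Coh.structureModule X) i
  let b : Fin r → Γ(X, (⊤ : X.Opens)) := fun i => (pr i).app ⊤ a
  have hevgen : ∀ i k, ev.app ⊤ (gen i k) = 0 := fun i k => by
    have he : ∀ l, ev.app ⊤ (e r l) = h l := fun l => desc_e (fun i => (show Γ(Coh.structureModule X, ⊤) from h i)) l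
    simp only [gen, map_sub, Scheme.Modules.Hom.app_smul, he]
    show (h k ^ m * h k) * h i - (h k ^ m * h i) * h k = (0 : Γ(X, (⊤ : X.Opens)))
    ring
  have hΦev : Φ ≫ ev = 0 := Sigma.hom_ext _ _ fun p => by
    rw [comp_zero]
    refine Scheme.Modules.hom_ext _ _ fun U => ?_
    ext x
    rw [hom_O_apply]
    have h0 : (Sigma.ι (fun _ : Fin (r * r) => Coh.structureModule X) p ≫ Φ ≫ ev).app ⊤ (M1.one ⊤) = 0 :=
      (congrArg (ev.app ⊤) (hΦ p)).trans (hevgen _ _)
    rw [h0, map_zero, smul_zero]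
    rfl
  -- on each chart the lift differs from the local one by a relation
  have hloc : ∀ k, ∃ w : Γ(P, V k), M1.mres F (le_top : V k ≤ ⊤) a = loc k + Φ.app (V k) w := by
    intro k
    have h0 : π.app (V k) (M1.mres F (le_top : V k ≤ ⊤) a - loc k) = 0 := by
      rw [map_sub, M1.app_mres, haq, sub_eq_zero]
      exact hq k
    obtain ⟨κ, hκ⟩ := M1.sections_exact (S := S) hS.exact (V k) _ h0
    obtain ⟨w, rfl⟩ := M1.app_surjective_affine_of_isQCoh hPq hKq θ (hV k) κ
    refine ⟨w, ?_⟩
    rw [← kernel.lift_ι π Φ (cokernel.condition Φ)]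
    exact (eq_add_of_sub_eq hκ.symm).trans (add_comm _ _)
  refine ⟨b, ?_, fun i k => ?_⟩
  · refine TopCat.Presheaf.section_ext X.sheaf ⊤ t _ fun x _ => ?_
    obtain ⟨k, hk⟩ := hcov x
    have hsum : ev.app ⊤ a = ∑ i, b i * h i := by
      rw [app_decomp]
      refine Finset.sum_congr rfl fun i _ => ?_
      rw [desc_e (fun i => (show Γ(Coh.structureModule X, ⊤) from h i)) i, M1.mres_id]
      rfl
    obtain ⟨w, hw⟩ := hloc k
    have h1 : (show Γ(X, V k) from ev.app (V k) (M1.mres F (le_top : V k ≤ ⊤) a)) = rs (V k) t := by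
      rw [hw, map_add, ← CategoryTheory.comp_apply, ← Scheme.Modules.Hom.comp_app, hΦev, hu k]
      show (show Γ(X, V k) from ev.app (V k) ((rs (V k) (h k) ^ (m + 1) * u k) • M1.mres F _ (e r k))) + 0 = _
      rw [add_zero, Scheme.Modules.Hom.app_smul, M1.app_mres, desc_e]
      show (rs (V k) (h k) ^ (m + 1) * u k) * rs (V k) (h k) = _
      ring
    rw [M1.app_mres, hsum] at h1
    have h2 := congrArg (X.presheaf.germ (V k) x hk) h1
    erw [TopCat.Presheaf.germ_res_apply, TopCat.Presheaf.germ_res_apply] at h2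
    exact h2.symm
  · obtain ⟨w, hw⟩ := hloc k
    suffices hmem : rs (V k) (b i) ∈ Ideal.span {rs (V k) (h k) ^ (m + 1)} by
      obtain ⟨z, hz⟩ := Ideal.mem_span_singleton'.1 hmem
      exact ⟨z, by rw [← hz, mul_comm]⟩
    have hb : rs (V k) (b i) = (show Γ(X, V k) from (pr i).app (V k) (M1.mres F (le_top : V k ≤ ⊤) a)) := by
      rw [M1.app_mres]
      rfl
    rw [hb, hw, map_add]
    refine Ideal.add_mem _ ?_ ?_
    · rw [Scheme.Modules.Hom.app_smul]
      exact Ideal.mul_mem_right _ _ (Ideal.mul_mem_right _ _ (Ideal.mem_span_singleton_self _))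
    · rw [← CategoryTheory.comp_apply, ← Scheme.Modules.Hom.comp_app, app_decomp]
      refine Ideal.sum_mem _ fun p _ => Ideal.mul_mem_left _ _ ?_
      rw [Scheme.Modules.Hom.comp_app, CategoryTheory.comp_apply, hΦ]
      simp only [gen, pr, map_sub, Scheme.Modules.Hom.app_smul]
      have hpow : ∀ (l l' : Fin r) (z : Γ(X, (⊤ : X.Opens))),
          rs (V k) (h l ^ m * h l' * z) ∈ Ideal.span {rs (V k) (h k) ^ (m + 1)} := fun l l' z => by
        rw [map_mul, map_mul, map_pow, hc k l, hc k l', mul_pow]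
        exact Ideal.mem_span_singleton'.2 ⟨c k l ^ m * c k l' * rs (V k) z, by ring⟩
      refine Ideal.sub_mem _ ?_ ?_
      · exact hpow _ _ (show Γ(X, (⊤ : X.Opens)) from
          (P1Split.proj (fun _ : Fin r => Coh.structureModule X) i).app ⊤ (e r (σ p).1))
      · exact hpow _ _ (show Γ(X, (⊤ : X.Opens)) from
          (P1Split.proj (fun _ : Fin r => Coh.structureModule X) i).app ⊤ (e r (σ p).2))

end Groth.Agent.LMSimple8.Castelnuovo
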