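import Groth.Agent.Lib.LMSimple8.Alg
import Groth.Agent.Lib.LMEuler8.Main
import Groth.Agent.Lib.RefHull26.ODRef
import Groth.Agent.Lib.Cyc26.Stalk
import Groth.Agent.Lib.CurveCoh17.Bases
import Groth.Agent.Lib.Div21F12.Basic

/-!
# Coordinates of the stalks of the kernel of a surjection from a free module
-/

set_option autoImplicit false
set_option linter.style.haveILetI false
set_option linter.unusedSectionVars false
set_option backward.isDefEq.respectTransparency false
set_option backward.isDefEq.respectTransparency.types false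

universe u

open CategoryTheory CategoryTheory.Limits AlgebraicGeometry TopologicalSpace Opposite

noncomputable section

namespace Groth.Agent.LMSimple8

open Groth.Agent.RH26 (str gsp)

variable {X : Scheme.{u}} {e : ℕ}

/-- The projections of a free module. -/
def prj (i : Fin e) : FlatMod.freeMod X e ⟶ Coh.structureModule X :=
  Sigma.desc fun j => if j = i then 𝟙 _ else 0

theorem ι_prj (i j : Fin e) : Sigma.ι (fun _ : Fin e => Coh.structureModule X) j ≫ prj i = if j = i then 𝟙 _ else 0 :=
  Sigma.ι_desc _ _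

theorem sum_prj : ∑ i, prj i ≫ Sigma.ι (fun _ : Fin e => Coh.structureModule X) i = 𝟙 (FlatMod.freeMod X e) := by
  classical
  refine Sigma.hom_ext _ _ fun j => ?_
  rw [Category.comp_id, Preadditive.comp_sum, Finset.sum_eq_single j]
  · rw [← Category.assoc, ι_prj, if_pos rfl, Category.id_comp]
  · intro i _ hij
    rw [← Category.assoc, ι_prj, if_neg (Ne.symm hij), zero_comp]
  · simp

theorem stalkMap_sum {A B : X.Modules} {ι : Type} (s : Finset ι) (f : ι → (A ⟶ B)) (x : X) (v : A.presheaf.stalk x) :
    RefHull.stalkMapₗ (∑ i ∈ s, f i) x v = ∑ i ∈ s, RefHull.stalkMapₗ (f i) x v := by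
  classical
  induction s using Finset.induction with
  | empty =>
    rw [Finset.sum_empty, Finset.sum_empty]
    show (M1.stalkAb x).map (0 : A ⟶ B) v = 0
    rw [Functor.map_zero]; rfl
  | insert a s ha ih =>
    rw [Finset.sum_insert ha, Finset.sum_insert ha, ← ih]
    show (M1.stalkAb x).map (f a + ∑ i ∈ s, f i) v = _
    rw [Functor.map_add]; rfl

theorem stalkMap_comp {A B C : X.Modules} (f : A ⟶ B) (g : B ⟶ C) (x : X) (v : A.presheaf.stalk x) :
    RefHull.stalkMapₗ (f ≫ g) x v = RefHull.stalkMapₗ g x (RefHull.stalkMapₗ f x v) := by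
  show (M1.stalkAb x).map (f ≫ g) v = _
  rw [Functor.map_comp]; rfl

/-- The coordinates of a stalk of the free module. -/
def coordLin (x : X) : (FlatMod.freeMod X e).presheaf.stalk x →ₗ[X.presheaf.stalk x] (Fin e → X.presheaf.stalk x) :=
  LinearMap.pi fun i => (str x).symm.toLinearMap.comp (RefHull.stalkMapₗ (prj i) x)

/-- The element of a stalk of the free module with given coordinates. -/
def ofCoord (x : X) : (Fin e → X.presheaf.stalk x) →ₗ[X.presheaf.stalk x] (FlatMod.freeMod X e).presheaf.stalk x :=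
  ∑ i, ((RefHull.stalkMapₗ (Sigma.ι (fun _ : Fin e => Coh.structureModule X) i) x).comp (str x).toLinearMap).comp
    (LinearMap.proj i)

theorem ofCoord_apply (x : X) (a : Fin e → X.presheaf.stalk x) : ofCoord x a =
    ∑ i, RefHull.stalkMapₗ (Sigma.ι (fun _ : Fin e => Coh.structureModule X) i) x (str x (a i)) := by
  simp [ofCoord, LinearMap.sum_apply]

theorem ofCoord_coordLin (x : X) (w : (FlatMod.freeMod X e).presheaf.stalk x) : ofCoord x (coordLin x w) = w := by
  rw [ofCoord_apply]
  have h1 : ∀ i, str x ((coordLin x w : Fin e → X.presheaf.stalk x) i) = RefHull.stalkMapₗ (prj i) x w := fun i =>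
    (str x).apply_symm_apply _
  simp only [h1, ← stalkMap_comp, ← stalkMap_sum, sum_prj]
  show (M1.stalkAb x).map (𝟙 _) w = w
  rw [CategoryTheory.Functor.map_id]; rfl

theorem coordLin_ofCoord (x : X) (a : Fin e → X.presheaf.stalk x) : coordLin x (ofCoord x a) = a := by
  classical
  funext j
  show (str x).symm (RefHull.stalkMapₗ (prj j) x (ofCoord x a)) = a j
  rw [ofCoord_apply, map_sum]
  simp only [← stalkMap_comp, ι_prj]
  rw [Finset.sum_eq_single j]
  · rw [if_pos rfl]
    refine (LinearEquiv.symm_apply_eq _).2 ?_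
    show (M1.stalkAb x).map (𝟙 _) _ = _
    rw [CategoryTheory.Functor.map_id]; rfl
  · intro i _ hij
    rw [if_neg hij]
    show (M1.stalkAb x).map (0 : Coh.structureModule X ⟶ Coh.structureModule X) _ = 0
    rw [Functor.map_zero]; rfl
  · simp

variable {Q : X.Modules} (lam : FlatMod.freeMod X e ⟶ Q)

/-- The inclusion of the kernel in coordinates. -/
def jx (x : X) : (kernel lam).presheaf.stalk x →ₗ[X.presheaf.stalk x] (Fin e → X.presheaf.stalk x) :=
  (coordLin x).comp (RefHull.stalkMapₗ (kernel.ι lam) x)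

/-- The surjection in coordinates. -/
def rho (x : X) : (Fin e → X.presheaf.stalk x) →ₗ[X.presheaf.stalk x] Q.presheaf.stalk x :=
  (RefHull.stalkMapₗ lam x).comp (ofCoord x)

theorem exact_coord [Epi lam] (x : X) : Function.Injective (jx lam x) ∧
    LinearMap.range (jx lam x) = LinearMap.ker (rho lam x) ∧ Function.Surjective (rho lam x) := by
  have hS : (ShortComplex.mk (kernel.ι lam) lam (kernel.condition lam)).ShortExact :=
    { exact := ShortComplex.exact_of_f_is_kernel _ (kernelIsKernel lam)
      mono_f := inferInstanceAs (Mono (kernel.ι lam))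
      epi_g := inferInstanceAs (Epi lam) }
  obtain ⟨hi, he, hs⟩ := Cyc26.stalkLin_exact hS x
  refine ⟨fun v w h => hi ?_, ?_, fun q => ?_⟩
  · have := congrArg (ofCoord x) h
    rw [show jx lam x v = coordLin x (RefHull.stalkMapₗ (kernel.ι lam) x v) from rfl,
      show jx lam x w = coordLin x (RefHull.stalkMapₗ (kernel.ι lam) x w) from rfl, ofCoord_coordLin,
      ofCoord_coordLin] at this
    exact this
  · ext a
    simp only [LinearMap.mem_range, LinearMap.mem_ker, jx, rho, LinearMap.comp_apply]
    constructor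
    · rintro ⟨v, rfl⟩
      rw [ofCoord_coordLin]
      exact (he _).2 ⟨v, rfl⟩
    · intro h
      obtain ⟨v, hv⟩ := (he _).1 h
      exact ⟨v, by rw [show RefHull.stalkMapₗ (kernel.ι lam) x v = ofCoord x a from hv, coordLin_ofCoord]⟩
  · obtain ⟨w, hw⟩ := hs q
    exact ⟨coordLin x w, by rw [rho, LinearMap.comp_apply, ofCoord_coordLin]; exact hw⟩

theorem stalkMap_sp {A B : X.Modules} (f : A ⟶ B) {x ξ : X} (h : ξ ⤳ x) (v : A.presheaf.stalk x) :
    RefHull.stalkMapₗ f ξ (A.presheaf.stalkSpecializes h v) = B.presheaf.stalkSpecializes h (RefHull.stalkMapₗ f x v) :=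
  (RH26.stalkMapₗ_stalkSpecializes f h v).symm

theorem jx_sp {x ξ : X} (h : ξ ⤳ x) (v : (kernel lam).presheaf.stalk x) (i : Fin e) :
    jx lam ξ ((kernel lam).presheaf.stalkSpecializes h v) i = X.presheaf.stalkSpecializes h (jx lam x v i) := by
  show (str ξ).symm (RefHull.stalkMapₗ (prj i) ξ (RefHull.stalkMapₗ (kernel.ι lam) ξ _)) = _
  rw [stalkMap_sp, stalkMap_sp, RH26.str_symm_stalkSpecializes]
  rfl

end Groth.Agent.LMSimple8
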