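import Groth.Agent.Lib.LMSimple8.Div
import Groth.Agent.Lib.TensorMod.IdealMod
import Groth.Agent.Lib.CurveCoh17.TensorExact

/-!
# The curve, its section, and the codimension one points on it
-/

set_option autoImplicit false
set_option linter.style.haveILetI false
set_option linter.unusedSectionVars false
set_option backward.isDefEq.respectTransparency false
set_option backward.isDefEq.respectTransparency.types false
set_option maxHeartbeats 800000

universe u

open CategoryTheory CategoryTheory.Limits AlgebraicGeometry TopologicalSpace Opposite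

noncomputable section

namespace Groth.Agent.LMSimple8

open Groth.Agent.RH26 (str gsp ordv)

variable {X C : Scheme.{u}} [IsIntegral X] [IsLocallyNoetherian X] (hX : Pi1.IsNormalScheme X)
  (i : C ⟶ X) [IsClosedImmersion i] [IsIntegral C] (hη : genericPoint X ∉ Set.range i)

include hη in
/-- A point of codimension one on the curve is its generic point. -/
theorem eq_of_mem_range {x : X} (hx : Order.coheight x = 1) (hxr : x ∈ Set.range i) : x = i (genericPoint C) := by
  obtain ⟨z, rfl⟩ := hxr
  have hspec : i (genericPoint C) ⤳ i z := (genericPoint_specializes z).map i.continuous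
  by_contra hne
  have hlt : i z < i (genericPoint C) := lt_of_le_not_ge hspec fun h => hne (Specializes.antisymm (show i z ⤳ i (genericPoint C) from h) hspec).eq
  have h1 : Order.coheight (i (genericPoint C)) < Order.coheight (i z) :=
    Order.coheight_strictAnti hlt (hx.trans_lt (ENat.coe_lt_top 1) |> fun h => by
      exact lt_of_le_of_lt (Order.coheight_anti hlt.le) h)
  rw [hx, ENat.lt_one_iff_eq_zero, Order.coheight_eq_zero] at h1
  exact hη ⟨genericPoint C, (Specializes.antisymm (show i (genericPoint C) ⤳ genericPoint X from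
    h1 (show i (genericPoint C) ≤ genericPoint X from genericPoint_specializes _))
    (genericPoint_specializes (i (genericPoint C)))).eq⟩

theorem bijective_idealι {x : X} (hx : x ∉ Set.range i) :
    Function.Bijective (CurveCoh17.stalkLin (ClSub.idealModι i.ker) x) := by
  obtain ⟨hi, he, -⟩ := Cyc26.stalkLin_exact (M2.shortExact_idealMod i.ker) x
  have hr : x ∉ Set.range i.ker.subschemeι := by
    rw [Scheme.IdealSheafData.range_subschemeι, Scheme.Hom.support_ker, i.isClosedEmbedding.isClosed_range.closure_eq]
    exact hx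
  haveI hs : Subsingleton (((Coh.push i.ker.subschemeι).obj (Coh.structureModule _)).presheaf.stalk x) :=
    Cyc26.subsingleton_stalk_push _ _ ⟨(Set.range i.ker.subschemeι)ᶜ, i.ker.subschemeι.isClosedEmbedding.isClosed_range.isOpen_compl⟩
      hr fun z hz => hz ⟨z, rfl⟩
  exact ⟨hi, fun b => (he b).1 (@Subsingleton.elim _ hs _ _)⟩

variable [PicGrp.Law X] (hI : PicF.IsInvertible (ClSub.idealMod i.ker))
  (hfree : ∀ n : ℤ, PicGrp.cls (ClSub.idealMod i.ker) hI ^ n = 1 → n = 0)

include hX hη hI hfree in
/-- The inverse of the ideal of the curve and its section vanishing exactly there. -/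
theorem exists_curve_data :
    ∃ (M : X.Modules) (_ : PicF.IsInvertible M)
      (_ : CohB1.tensorMod (ClSub.idealMod i.ker) M ≅ Coh.structureModule X)
      (a : M.presheaf.stalk (genericPoint X)), a ≠ 0 ∧ ClSub.idealModι i.ker ≠ 0 ∧
      (∀ x : X, Order.coheight x = 1 → x ≠ i (genericPoint C) → ordv M x a = 0) ∧
      Order.coheight (i (genericPoint C)) = 1 ∧ 1 ≤ ordv M (i (genericPoint C)) a := by
  obtain ⟨M, hM, ⟨e⟩⟩ := M2.exists_inverse hI
  let ψ := M2.tensorMap (ClSub.idealModι i.ker) (𝟙 M) ≫ (M2.tensorLUnit M).hom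
  let φ : Coh.structureModule X ⟶ M := e.inv ≫ ψ
  have hbij : ∀ x, x ∉ Set.range i → Function.Bijective (RefHull.stalkMapₗ φ x) := fun x hx => by
    have h1 : Function.Bijective (CurveCoh17.stalkLin (M2.tensorMap (ClSub.idealModι i.ker) (𝟙 M)) x) := by
      let E := (M2.stalkEquiv (ClSub.idealMod i.ker) M x).trans
        ((TensorProduct.congr (LinearEquiv.ofBijective _ (bijective_idealι i hx)) (LinearEquiv.refl _ _)).trans
          (M2.stalkEquiv (Coh.structureModule X) M x).symm)
      have hE : ∀ a, CurveCoh17.stalkLin (M2.tensorMap (ClSub.idealModι i.ker) (𝟙 M)) x a = E a := fun a => by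
        refine (M2.stalkEquiv (Coh.structureModule X) M x).injective ?_
        rw [CurveCoh17.stalkEquiv_natural]
        exact ((M2.stalkEquiv (Coh.structureModule X) M x).apply_symm_apply _).symm
      rw [show (CurveCoh17.stalkLin (M2.tensorMap (ClSub.idealModι i.ker) (𝟙 M)) x : _ → _) = E from funext hE]
      exact E.bijective
    have hb : ∀ {A B : X.Modules} (j : A ≅ B), Function.Bijective (RefHull.stalkMapₗ j.hom x) := fun j =>
      (RH26.isIso_iff_stalkMapₗ j.hom).1 inferInstance x
    rw [show (RefHull.stalkMapₗ φ x : _ → _) = RefHull.stalkMapₗ (M2.tensorLUnit M).hom x ∘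
      RefHull.stalkMapₗ (M2.tensorMap (ClSub.idealModι i.ker) (𝟙 M)) x ∘ RefHull.stalkMapₗ e.inv x from
        funext fun v => by simp only [Function.comp_apply, φ, ψ, stalkMap_comp]]
    exact (hb _).comp ((show Function.Bijective (RefHull.stalkMapₗ (M2.tensorMap (ClSub.idealModι i.ker) (𝟙 M)) x)
      from h1).comp (hb e.symm))
  have hgen : ∀ x, x ∉ Set.range i → Amp.Gen (RefHull.stalkMapₗ φ x (str x 1)) := fun x hx => by
    show Function.Bijective fun r : X.presheaf.stalk x => r • RefHull.stalkMapₗ φ x (str x 1)
    rw [show (fun r : X.presheaf.stalk x => r • RefHull.stalkMapₗ φ x (str x 1)) = RefHull.stalkMapₗ φ x ∘ str x from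
      funext fun r => by rw [← map_smul, Function.comp_apply, ← map_smul, smul_eq_mul, mul_one]]
    exact (hbij x hx).comp (str x).bijective
  let a := RefHull.stalkMapₗ φ (genericPoint X) (str (genericPoint X) 1)
  have hga := hgen _ hη
  have ha : a ≠ 0 := fun h => zero_ne_one (α := X.presheaf.stalk (genericPoint X)) (hga.1 (by
    show (0 : X.presheaf.stalk (genericPoint X)) • a = (1 : X.presheaf.stalk (genericPoint X)) • a
    rw [h, smul_zero, smul_zero]))
  have hsp : ∀ x : X, M.presheaf.stalkSpecializes (gsp x) (RefHull.stalkMapₗ φ x (str x 1)) = a := fun x => by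
    rw [← stalkMap_sp]
    congr 1
    refine (str (genericPoint X)).symm.injective ?_
    rw [RH26.str_symm_stalkSpecializes, LinearEquiv.symm_apply_apply, LinearEquiv.symm_apply_apply]
    exact map_one (X.presheaf.stalkSpecializes (gsp x)).hom
  have hout : ∀ x : X, Order.coheight x = 1 → x ∉ Set.range i → ordv M x a = 0 := fun x hx hxr => by
    have h := RH26.ordv_gen hx (hgen x hxr) (by rw [hsp]; exact hga) (one_ne_zero (α := X.functionField))
    rw [hsp, RH26.ord_one] at h
    exact (congrArg (ordv M x) (one_smul (X.presheaf.stalk (genericPoint X)) a)).symm.trans h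
  have hι : ClSub.idealModι i.ker ≠ 0 := fun h => by
    obtain ⟨v, hv⟩ := (bijective_idealι i hη).2 (str (genericPoint X) 1)
    rw [CurveCoh17.stalkLin_apply, h, Functor.map_zero] at hv
    exact RH26.str_one_ne_zero hv.symm
  have hMR := Div21F12.r1_of_invertible hX hM (Snapper.isCoh_of_isInvertible hM)
  obtain ⟨x, hx, hx0⟩ : ∃ x : X, Order.coheight x = 1 ∧ ordv M x a ≠ 0 := by
    by_contra hcon
    push Not at hcon
    obtain ⟨j⟩ := Div21F12.nonempty_iso_of_ord hX hM (Snapper.isCoh_of_isInvertible hM) ha
      (one_ne_zero (α := X.functionField)) fun x hx => by rw [hcon x hx, RH26.ord_one]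
    have h2 := (PicGrp.cls_mul_cls_eq_one_iff hI hM).2 ⟨e⟩
    rw [(PicGrp.cls_eq_cls_iff hM (PicLoc.isInvertible_structureModule X)).2 ⟨j⟩,
      PicGrp.cls_structureModule_eq_one, mul_one] at h2
    exact one_ne_zero (hfree 1 (by rw [zpow_one, h2]))
  have hxr : x ∈ Set.range i := by_contra fun h => hx0 (hout x hx h)
  obtain rfl := eq_of_mem_range i hη hx hxr
  refine ⟨M, hM, e, a, ha, hι, fun y hy hne => hout y hy fun h => hne (eq_of_mem_range i hη hy h), hx, ?_⟩
  have := (hMR.inStalk_iff hx ha).1 ⟨_, hsp _⟩
  omega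

end Groth.Agent.LMSimple8
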