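import Groth.Agent.Lib.LMSimple8.Coord
import Groth.Agent.Lib.InvTriv15.Basic
import Groth.Agent.Lib.RankTwo11.Proj
import Groth.Agent.Lib.RefHull26.ClassLaw
import Groth.Agent.Lib.TensorMod.Invertible

/-!
# Classes of effective divisors when the Picard group is cyclic
-/

set_option autoImplicit false
set_option linter.style.haveILetI false
set_option linter.unusedSectionVars false
set_option backward.isDefEq.respectTransparency false
set_option backward.isDefEq.respectTransparency.types false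
set_option maxHeartbeats 800000

universe u

open CategoryTheory CategoryTheory.Limits AlgebraicGeometry TopologicalSpace Opposite

noncomputable section

namespace Groth.Agent.LMSimple8

open Groth.Agent.RH26

variable {X : Scheme.{u}} [IsIntegral X] [IsLocallyNoetherian X] (hX : Pi1.IsNormalScheme X)
  (hU : ∀ x : X, UniqueFactorizationMonoid (X.presheaf.stalk x)) (hf : IsField (Γ(X, ⊤) : Type u))
include hX hU hf

omit hU in
/-- An effective divisor with trivial module is zero. -/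
theorem eq_zero_of_trivial (D : AlgebraicCycle X ℤ) (hD : ∀ x, Order.coheight x = 1 → 0 ≤ D x)
    (e : od hX D ≅ Coh.structureModule X) {x : X} (hx : Order.coheight x = 1) : D x = 0 := by
  have hne := oneη_ne_zero (hX := hX) (D := D)
  let a := RefHull.stalkMapₗ e.hom (genericPoint X) (oneη hX D)
  have hord : ∀ y : X, Order.coheight y = 1 → ordv (Coh.structureModule X) y a = D y := fun y hy => by
    rw [(r1_od (hX := hX) (D := D)).ordv_map e hy hne, ordv_oneη hy]
  have ha : a ≠ 0 := fun h0 => hne (((isIso_iff_stalkMapₗ e.hom).1 inferInstance (genericPoint X)).1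
    (h0.trans (map_zero _).symm))
  have hR := RH26.R1.structureModule hX
  obtain ⟨s, hs⟩ := exists_section_of_inStalk (F := Coh.structureModule X) ⊤ (fun y _ => hR.closed.1 y) a fun y _ =>
    hR.closed.2 y a fun z _ h1 => (hR.inStalk_iff ((dim_eq_one_iff z).1 h1) ha).2
      (by rw [hord z ((dim_eq_one_iff z).1 h1)]; exact hD z ((dim_eq_one_iff z).1 h1))
  have hs0 : (show Γ(X, ⊤) from s) ≠ 0 := fun h0 => ha (by
    rw [← hs (genericPoint X) trivial, show s = (0 : Γ(Coh.structureModule X, ⊤)) from h0, map_zero, map_zero])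
  obtain ⟨c, hc⟩ := hf.mul_inv_cancel hs0
  have hu : IsUnit (X.presheaf.germ ⊤ x trivial (show Γ(X, ⊤) from s)) :=
    (IsUnit.of_mul_eq_one _ hc).map (X.presheaf.germ ⊤ x trivial).hom
  have hs' := hs x trivial
  rw [show ((Coh.structureModule X).presheaf.germ ⊤ x trivial s : (Coh.structureModule X).presheaf.stalk x) =
    str x (X.presheaf.germ ⊤ x trivial (show Γ(X, ⊤) from s)) from
      (LinearEquiv.symm_apply_eq (str x)).1 (str_symm_germ (W := ⊤) trivial s)] at hs'
  have hsp : a = (X.presheaf.stalkSpecializes (gsp x) (X.presheaf.germ ⊤ x trivial (show Γ(X, ⊤) from s)) : X.functionField) •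
      str (genericPoint X) 1 := by
    rw [← hs']
    refine (str (genericPoint X)).symm.injective ?_
    rw [str_symm_stalkSpecializes, LinearEquiv.symm_apply_apply]
    refine Eq.trans ?_ ((str (genericPoint X)).symm.map_smul
      (X.presheaf.stalkSpecializes (gsp x) (X.presheaf.germ ⊤ x trivial (show Γ(X, ⊤) from s))) _).symm
    rw [LinearEquiv.symm_apply_apply, smul_eq_mul, mul_one]
  have h0 := hord x hx
  rw [hsp, Div21F12.ordv_structure hx, Div21F12.ord_eq_zero_of_isUnit hX hx hu] at h0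
  · exact h0.symm
  · intro h
    refine ha ?_
    rw [hsp, h]
    exact zero_smul _ _

omit hU hf in
/-- A section from the effectivity. -/
theorem exists_sec (D : AlgebraicCycle X ℤ) (hD : ∀ x, Order.coheight x = 1 → 0 ≤ D x) :
    ∃ s : Coh.structureModule X ⟶ od hX D, s ≠ 0 := by
  have hne := oneη_ne_zero (hX := hX) (D := D)
  obtain ⟨t, ht⟩ := exists_section_of_inStalk (F := od hX D) ⊤ (fun y _ => (r1_od (hX := hX) (D := D)).closed.1 y)
    (oneη hX D) fun y _ => (r1_od (hX := hX) (D := D)).closed.2 y _ fun z _ h1 =>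
      ((r1_od (hX := hX) (D := D)).inStalk_iff ((dim_eq_one_iff z).1 h1) hne).2
      (by rw [ordv_oneη ((dim_eq_one_iff z).1 h1)]; exact hD z ((dim_eq_one_iff z).1 h1))
  refine ⟨M1.secHom t, RankTwo11.secHom_ne_zero fun h0 => hne ?_⟩
  rw [← ht (genericPoint X) trivial, h0, map_zero, map_zero]

variable [PicGrp.Law X] {I M : X.Modules} (hI : PicF.IsInvertible I) (hM : PicF.IsInvertible M)
  (eIM : CohB1.tensorMod I M ≅ Coh.structureModule X) (ι : I ⟶ Coh.structureModule X) [Mono ι] (hι : ι ≠ 0)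
  (hfree : ∀ n : ℤ, PicGrp.cls I hI ^ n = 1 → n = 0)
include hI hM eIM hι hfree

omit hX hU hf hfree in
theorem exists_cosec : ∀ n : ℕ, ∃ c : CohB1.tensorPow I n ⟶ Coh.structureModule X, c ≠ 0
  | 0 => ⟨𝟙 _, fun h => hι (by rw [← Category.comp_id ι]; exact h.symm ▸ comp_zero)⟩
  | n + 1 => by
    obtain ⟨c, hc⟩ := exists_cosec n
    refine ⟨(M2.tensorMap c (𝟙 I) ≫ (M2.tensorLUnit I).hom) ≫ ι, fun h => ?_⟩
    exact RankTwo11.comp_iso_ne_zero (RankTwo11.tensor_ne_zero eIM hc) (M2.tensorLUnit I)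
      (Mono.right_cancellation _ _ (h.trans zero_comp.symm))

/-- The exponent of a nonzero effective divisor is negative. -/
theorem exponent_neg (D : AlgebraicCycle X ℤ) (hD : ∀ x, Order.coheight x = 1 → 0 ≤ D x)
    (hne : ∃ x, Order.coheight x = 1 ∧ D x ≠ 0) {m : ℤ}
    (hm : PicGrp.cls (od hX D) (Div21F12.isInvertible_od hX D hU) = PicGrp.cls I hI ^ m) : m ≤ -1 := by
  by_contra hlt
  obtain ⟨x, hx, hx0⟩ := hne
  obtain ⟨n, rfl⟩ : ∃ n : ℕ, (n : ℤ) = m := ⟨m.toNat, by omega⟩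
  have hLi := Div21F12.isInvertible_od hX D hU
  have hpow := M2.isInvertible_tensorPow hI n
  have hcl : PicGrp.cls (od hX D) hLi = PicGrp.cls (CohB1.tensorPow I n) hpow := by
    rw [hm, zpow_natCast]
    exact Subtype.ext (by rw [PicGrp.cls_pow_val]; rfl)
  obtain ⟨j⟩ := (PicGrp.cls_eq_cls_iff hLi hpow).1 hcl
  obtain ⟨c, hc⟩ := exists_cosec hI hM eIM ι hι n
  obtain ⟨s, hs⟩ := exists_sec hX D hD
  obtain ⟨e⟩ := InvTriv15.nonempty_iso hf hLi s hs (j.hom ≫ c) (RankTwo11.iso_comp_ne_zero hc j)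
  exact hx0 (eq_zero_of_trivial hX hf D hD e hx)

omit hU hf hI hM eIM hι hfree in
/-- Multiples of a divisor. -/
theorem exists_pow {L : X.Modules} (hL : PicF.IsInvertible L) (hLR : R1 L) {a : L.presheaf.stalk (genericPoint X)} (ha : a ≠ 0) :
    ∀ n : ℕ, ∃ (G : X.Modules) (hG : PicF.IsInvertible G) (b : G.presheaf.stalk (genericPoint X)), b ≠ 0 ∧
      PicGrp.cls G hG = PicGrp.cls L hL ^ n ∧
      ∀ x : X, Order.coheight x = 1 → ordv G x b = n * ordv L x a
  | 0 => by
    refine ⟨_, PicLoc.isInvertible_structureModule X, str (genericPoint X) 1, str_one_ne_zero, ?_, fun x hx => ?_⟩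
    · rw [pow_zero, PicGrp.cls_structureModule_eq_one]
    · rw [ordv_structure_one hX hx]; simp
  | n + 1 => by
    obtain ⟨G, hG, b, hb, hcl, hord⟩ := exists_pow hL hLR ha n
    have hGR := Div21F12.r1_of_invertible hX hG (Snapper.isCoh_of_isInvertible hG)
    have hT := M2.isInvertible_tensor hG hL
    have hTR := Div21F12.r1_of_invertible hX hT (Snapper.isCoh_of_isInvertible hT)
    haveI : IsIso (RefHull.bidualMap (CohB1.tensorMod G L)) := hTR.isRef1.2.1
    obtain ⟨hne, ho⟩ := hGR.pr_spec hLR hb ha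
    let j := (asIso (RefHull.bidualMap (CohB1.tensorMod G L))).symm
    have hDR : R1 (RefHull.ddual (CohB1.tensorMod G L)) := hGR.tensorHull hLR
    refine ⟨CohB1.tensorMod G L, hT, RefHull.stalkMapₗ j.hom (genericPoint X) (RH26.pr G L b a), fun h0 => hne ?_, ?_,
      fun x hx => ?_⟩
    · exact ((isIso_iff_stalkMapₗ j.hom).1 inferInstance (genericPoint X)).1 (h0.trans (map_zero _).symm)
    · rw [pow_succ, ← hcl]
      exact Subtype.ext (by rw [PicGrp.mul_val]; rfl)
    · rw [hDR.ordv_map j hx hne, ho x hx, hord x hx]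
      push_cast
      ring

omit hI hM eIM hι hfree in
/-- Products of divisors. -/
theorem exists_mul {L N : X.Modules} (hL : PicF.IsInvertible L) (hN : PicF.IsInvertible N)
    {a : L.presheaf.stalk (genericPoint X)} (ha : a ≠ 0) {b : N.presheaf.stalk (genericPoint X)} (hb : b ≠ 0) :
    ∃ (G : X.Modules) (hG : PicF.IsInvertible G) (c : G.presheaf.stalk (genericPoint X)), c ≠ 0 ∧
      PicGrp.cls G hG = PicGrp.cls L hL * PicGrp.cls N hN ∧
      ∀ x : X, Order.coheight x = 1 → ordv G x c = ordv L x a + ordv N x b := by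
  have hLR := Div21F12.r1_of_invertible hX hL (Snapper.isCoh_of_isInvertible hL)
  have hNR := Div21F12.r1_of_invertible hX hN (Snapper.isCoh_of_isInvertible hN)
  have hT := M2.isInvertible_tensor hL hN
  have hTR := Div21F12.r1_of_invertible hX hT (Snapper.isCoh_of_isInvertible hT)
  haveI : IsIso (RefHull.bidualMap (CohB1.tensorMod L N)) := hTR.isRef1.2.1
  obtain ⟨hne, ho⟩ := hLR.pr_spec hNR ha hb
  let j := (asIso (RefHull.bidualMap (CohB1.tensorMod L N))).symm
  refine ⟨_, hT, RefHull.stalkMapₗ j.hom (genericPoint X) (RH26.pr L N a b), fun h0 => hne ?_,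
    Subtype.ext (by rw [PicGrp.mul_val]; rfl), fun x hx => ?_⟩
  · exact ((isIso_iff_stalkMapₗ j.hom).1 inferInstance (genericPoint X)).1 (h0.trans (map_zero _).symm)
  · rw [(hLR.tensorHull hNR).ordv_map j hx hne, ho x hx]

/-- Two nonzero effective divisors cannot add up to the generator. -/
theorem false_of_two {φ : Coh.structureModule X ⟶ M} {a : M.presheaf.stalk (genericPoint X)} (ha : a ≠ 0)
    (hgen : ∀ c : PicLoc.PicSet X, ∃ n : ℤ, c = PicGrp.cls I hI ^ n)
    {ξ : X} (ha1 : ∀ x, Order.coheight x = 1 → x ≠ ξ → ordv M x a = 0) (ha2 : 1 ≤ ordv M ξ a)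
    (D₁ D₂ : AlgebraicCycle X ℤ) (h1 : ∀ x, Order.coheight x = 1 → 0 ≤ D₁ x) (h2 : ∀ x, Order.coheight x = 1 → 0 ≤ D₂ x)
    (h1' : ∃ x, Order.coheight x = 1 ∧ D₁ x ≠ 0) (h2' : ∃ x, Order.coheight x = 1 ∧ D₂ x ≠ 0)
    {f : X.functionField} (hf0 : f ≠ 0)
    (hsum : ∀ x, Order.coheight x = 1 → (x = ξ → D₁ x + D₂ x = 1 + Scheme.ord f x) ∧
      (x ≠ ξ → D₁ x + D₂ x = Scheme.ord f x)) : False := by
  obtain ⟨m₁, hm₁⟩ := hgen (PicGrp.cls _ (Div21F12.isInvertible_od hX D₁ hU))
  obtain ⟨m₂, hm₂⟩ := hgen (PicGrp.cls _ (Div21F12.isInvertible_od hX D₂ hU))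
  have n1 := exponent_neg hX hU hf hI hM eIM ι hι hfree D₁ h1 h1' hm₁
  have n2 := exponent_neg hX hU hf hI hM eIM ι hι hfree D₂ h2 h2' hm₂
  obtain ⟨G, hG, b, hb, hGc, hGo⟩ := exists_mul hX hU hf (Div21F12.isInvertible_od hX D₁ hU)
    (Div21F12.isInvertible_od hX D₂ hU) (oneη_ne_zero (hX := hX) (D := D₁)) (oneη_ne_zero (hX := hX) (D := D₂))
  obtain ⟨d, hd⟩ : ∃ d : ℕ, (d : ℤ) = ordv M ξ a := ⟨(ordv M ξ a).toNat, by omega⟩
  obtain ⟨P, hP, p, hp, hPc, hPo⟩ := exists_pow hX hG (Div21F12.r1_of_invertible hX hG (Snapper.isCoh_of_isInvertible hG)) hb d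
  have hfd : (f ^ d : X.functionField) ≠ 0 := pow_ne_zero _ hf0
  have hordp : ∀ (n : ℕ) (x : X), Scheme.ord (f ^ n : X.functionField) x = n * Scheme.ord f x := fun n x => by
    induction n with
    | zero => rw [pow_zero, RH26.ord_one]; simp
    | succ n ih => rw [pow_succ, Scheme.ord_mul (pow_ne_zero _ hf0) hf0, ih]; push_cast; ring
  have hMR := Div21F12.r1_of_invertible hX hM (Snapper.isCoh_of_isInvertible hM)
  obtain ⟨iso⟩ := (Div21F12.r1_of_invertible hX hP (Snapper.isCoh_of_isInvertible hP)).nonempty_iso hMR hp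
    (hMR.smul_ne_zero hfd ha) fun x hx => by
      rw [hPo x hx, hGo x hx, ordv_oneη hx, ordv_oneη hx, hMR.ordv_smul hx hfd ha, hordp]
      by_cases h : x = ξ
      · rw [(hsum x hx).1 h, h, ← hd]; ring
      · rw [(hsum x hx).2 h, ha1 x hx h]; ring
  have hMc : PicGrp.cls M hM = (PicGrp.cls I hI)⁻¹ :=
    eq_inv_of_mul_eq_one_right ((PicGrp.cls_mul_cls_eq_one_iff hI hM).2 ⟨eIM⟩)
  have hc := (PicGrp.cls_eq_cls_iff hP hM).2 ⟨iso⟩
  rw [hPc, hGc, hm₁, hm₂, hMc, ← zpow_add, ← zpow_natCast, ← zpow_mul, ← zpow_neg_one] at hc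
  have h0 := hfree ((m₁ + m₂) * (d : ℤ) + 1) (by rw [zpow_add_one, hc, zpow_neg_one, inv_mul_cancel])
  nlinarith [n1, n2, hd, ha2]

end Groth.Agent.LMSimple8
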