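import Groth.Agent.Lib.LMEuler8.Main
import Groth.Agent.Lib.CohMop.Bidual
import Groth.Agent.Lib.NumPoly18.HodgeIndex
import Groth.Agent.Lib.NumPoly18.BigNef
import Groth.Agent.Lib.VB17.Scalar
import Groth.Agent.Lib.RefHull26.Glue

/-!
# Euler characteristic of the endomorphisms of a simple bundle on a surface with trivial canonical module
-/

set_option autoImplicit false
set_option linter.style.haveILetI false
set_option linter.unusedSectionVars false
set_option backward.isDefEq.respectTransparency false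
set_option backward.isDefEq.respectTransparency.types false
set_option maxHeartbeats 1600000

universe u

open CategoryTheory CategoryTheory.Limits AlgebraicGeometry TopologicalSpace Opposite MonoidalCategory
open scoped Groth.Agent.DMon9

noncomputable section

namespace Groth.Agent.LMSimple8

variable {k : Type u} [Field k] [IsAlgClosed k] {X : Scheme.{u}} [X.Over (Spec (CommRingCat.of k))]

/-- Only scalar endomorphisms: the global sections of the sheaf of endomorphisms are at most one dimensional. -/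
theorem finrank_end_le_one {F : X.Modules} (hs : ∀ φ : F ⟶ F, ∃ c : k, φ = Formal.smulMod k F c) :
    Module.finrank k (Coh.HH X (RefHull.homSh F F) 0) ≤ 1 := by
  refine finrank_le_one ((CurveCoh17.hh0 _).symm (RefHull.ofHom (𝟙 F) ⊤)) fun w => ?_
  obtain ⟨θ, rfl⟩ := (CurveCoh17.hh0 (RefHull.homSh F F)).symm.surjective w
  obtain ⟨φ, hφ⟩ := RH26.exists_hom_of_stalkFamily F F (fun x => θ.1 ⟨x, trivial⟩) fun V m x hx => by
    obtain ⟨W, hW, j, n, hn⟩ := RefHull.isLocSect_of_mem θ V (homOfLE le_top) m ⟨x, hx⟩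
    exact ⟨W, hW, j.le, n, fun y hy => (hn ⟨y, hy⟩).symm⟩
  obtain ⟨c, hc⟩ := hs φ
  refine ⟨c, (CurveCoh17.hh0 (RefHull.homSh F F)).injective ?_⟩
  rw [AddEquiv.apply_symm_apply]
  refine (CurveCoh17.hh0_smul (Coh.toGlobal (X ↘ Spec (CommRingCat.of k)) c) _).trans ?_
  rw [AddEquiv.apply_symm_apply]
  refine Subtype.ext (funext fun p => LinearMap.ext fun v => ?_)
  rw [← hφ p.1, hc]
  refine Eq.trans ?_ (VB17.stalkLin_smulMod F c p.1 v).symm
  show VB17.scal k p.1 c • RefHull.stalkMapₗ (𝟙 F) p.1 v = _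
  congr 1
  show (M1.stalkAb p.1).map (𝟙 F) v = v
  rw [CategoryTheory.Functor.map_id]
  rfl

/-- The Euler characteristic of endomorphisms of a simple bundle is at most two. -/
theorem euler_end_le_two [CharZero k] [IsIntegral X] [Smooth (X ↘ Spec (CommRingCat.of k))]
    [IsProper (X ↘ Spec (CommRingCat.of k))] (hdim : topologicalKrullDim X = 2)
    (hK : ExtPow.IsExtPow 2 (Omega.sheaf (X ↘ Spec (CommRingCat.of k))) (Coh.structureModule X))
    {F : X.Modules} (hFf : FlatMod.IsFinLocFree F) (hs : ∀ φ : F ⟶ F, ∃ c : k, φ = Formal.smulMod k F c) :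
    Curv2.euler k X (RefHull.homSh F F) ≤ 2 := by
  haveI : SmoothOfRelativeDimension 2 (X ↘ Spec (CommRingCat.of k)) := SurfRR10.smoothRelDim (k := k) hdim
  haveI : IsNoetherian X := CohFound.isNoetherian_of_isProper (X ↘ Spec (CommRingCat.of k))
  have hd : topologicalKrullDim X ≤ ((2 : ℕ) : WithBot ℕ∞) := by rw [hdim]; rfl
  let D := CohMop.dual F
  have hDf : FlatMod.IsFinLocFree D := CohMop.isFinLocFree_dual hFf
  haveI : ModSite.HasSheafHom (O := X.sheaf) F := CohMop.isLeftAdjoint_tenR _
  haveI : ModSite.HasSheafHom (O := X.sheaf) D := CohMop.isLeftAdjoint_tenR _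
  haveI := CohMop.isIso_bidual (E := F) hFf
  haveI := LMEuler8.isIso_toIhom F F (M1.isFP_of_isFinLocFree hFf)
  let θ : CohMop.ihom (CohB1.tensorMod F D) ≅ CohMop.ihom D ⋙ CohMop.ihom F :=
    (CohMop.ihomAdj (CohB1.tensorMod F D)).rightAdjointUniq
      (((CohMop.ihomAdj F).comp (CohMop.ihomAdj D)).ofNatIsoLeft (MonoidalCategory.tensorRightTensor F D).symm)
  let j : CohMop.dual (CohB1.tensorMod F D) ≅ RefHull.homSh F F :=
    θ.app _ ≪≫ (CohMop.ihom F).mapIso (asIso (CohMop.bidual F)).symm ≪≫ (asIso (LMEuler8.toIhom F F)).symm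
  obtain ⟨l⟩ := LMEuler8.nonempty_homSh_iso hFf F
  have hcoh : Coh.IsCoh (RefHull.homSh F F) := RH26.isCoh_homSh
    ⟨M1.isFP_isQCoh (M1.isFP_of_isFinLocFree hFf), M1.isFP_isFT (M1.isFP_of_isFinLocFree hFf)⟩
    ⟨M1.isFP_isQCoh (M1.isFP_of_isFinLocFree hFf), M1.isFP_isFT (M1.isFP_of_isFinLocFree hFf)⟩
  have h20 : Module.finrank k (Coh.HH X (RefHull.homSh F F) 2) = Module.finrank k (Coh.HH X (RefHull.homSh F F) 0) := by
    rw [(CurveCoh17.hequiv k l 2).finrank_eq,
      SerreDual8.finrank_duality_locFree (k := k) 2 hK (M2.isFinLocFree_tensor hFf hDf) (p := 2) le_rfl]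
    exact (CurveCoh17.hequiv k j 0).finrank_eq
  have h0 := finrank_end_le_one hs
  have he : Curv2.euler k X (RefHull.homSh F F) = (Module.finrank k (Coh.HH X (RefHull.homSh F F) 0) : ℤ) -
      Module.finrank k (Coh.HH X (RefHull.homSh F F) 1) + Module.finrank k (Coh.HH X (RefHull.homSh F F) 2) := by
    rw [Curv2.euler, finsum_eq_finsetSum_of_support_subset (s := Finset.range 3)]
    · simp [Finset.sum_range_succ]; ring
    · intro p hp
      simp only [Finset.coe_range, Set.mem_Iio]
      by_contra hlt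
      haveI : Subsingleton (Coh.HH X (RefHull.homSh F F) p) :=
        NumPoly18.subsingleton_HH_of_support (k := k) hcoh (NumPoly18.dim_support_le hd _) (show 2 < p by omega)
      exact hp (by simp [Module.finrank_zero_of_subsingleton])
  omega

end Groth.Agent.LMSimple8
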