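import Groth.Agent.Lib.LMSimple8.Div
import Groth.Agent.Lib.ShStab28.Positive
import Groth.Agent.Lib.ShStab28.MuIso
import Groth.Agent.Lib.TopDimLib.Basic
import Groth.Agent.Lib.TensorMod.IdealMod
import Groth.Agent.Lib.RefHull26.Pow

/-!
# Slopes of subsheaves of a reflexive module without sections inside a free module
-/

set_option autoImplicit false
set_option linter.style.haveILetI false
set_option linter.unusedSectionVars false
set_option backward.isDefEq.respectTransparency false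
set_option backward.isDefEq.respectTransparency.types false
set_option maxHeartbeats 1600000

universe u

open CategoryTheory CategoryTheory.Limits AlgebraicGeometry TopologicalSpace Opposite StabCat

noncomputable section

namespace Groth.Agent.LMSimple8

open Groth.Agent.RH26 (str gsp R1 InStalk Closed1)

variable {X : Scheme.{u}} [IsIntegral X]

theorem stalk_eq_zero_of_closed1 {A B : X.Modules} (hB : Closed1 B) (f : A ⟶ B)
    (h : ∀ a, RefHull.stalkMapₗ f (genericPoint X) a = 0) : f = 0 :=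
  RankTwo11.hom_eq_zero_of_stalk f fun x a => hB.1 x ((RH26.stalkMapₗ_stalkSpecializes f (gsp x) a).trans
    ((h _).trans (map_zero _).symm))

/-- A nonzero map out of a module of rank one is injective at the generic point. -/
theorem injective_of_ne_zero [IsLocallyNoetherian X] {A B : X.Modules} (hB : Closed1 B)
    (hA : ∃ g : A.presheaf.stalk (genericPoint X), Amp.Gen g) (f : A ⟶ B) (hf : f ≠ 0) :
    Function.Injective (RefHull.stalkMapₗ f (genericPoint X)) := by
  obtain ⟨g, hg⟩ := hA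
  rw [injective_iff_map_eq_zero]
  intro a ha
  obtain ⟨r, rfl⟩ := hg.2 a
  by_contra hr
  refine hf (stalk_eq_zero_of_closed1 hB f fun b => ?_)
  obtain ⟨c, hc⟩ := (RH26.isField_η (X := X)).mul_inv_cancel (a := r) fun h0 => hr (by rw [h0]; exact zero_smul _ g)
  obtain ⟨s, rfl⟩ := hg.2 b
  have e : s • g = (s * c) • (r • g) := by
    rw [← mul_smul, mul_assoc, mul_comm c r, hc, mul_one]
  show RefHull.stalkMapₗ f _ (s • g) = 0
  rw [e, map_smul, ha, smul_zero]

/-- Such a map is a monomorphism if the source is closed. -/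
theorem mono_of_injective_η {A B : X.Modules} (hA : ∀ x, Function.Injective (A.presheaf.stalkSpecializes (gsp x))) (f : A ⟶ B)
    (hf : Function.Injective (RefHull.stalkMapₗ f (genericPoint X))) : Mono f :=
  (M1.mono_iff_stalk f).2 fun x a a' h => hA x (hf (by
    rw [← RH26.stalkMapₗ_stalkSpecializes, ← RH26.stalkMapₗ_stalkSpecializes]
    exact congrArg _ h))

variable [IsLocallyNoetherian X] (hX : Pi1.IsNormalScheme X)
  (hU : ∀ x : X, UniqueFactorizationMonoid (X.presheaf.stalk x))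
include hX hU

/-- The hull of a rank one submodule. -/
theorem exists_hull {G F : X.Modules} (hG : Coh.IsCoh G) (hF : Closed1 F) (u : G ⟶ Coh.structureModule X) [Mono u]
    (ι : G ⟶ F) [Mono ι] (hG0 : ¬ IsZero G) :
    ∃ (L : X.Modules) (_ : PicF.IsInvertible L) (β : G ⟶ L) (v : L ⟶ Coh.structureModule X) (α : L ⟶ F),
      Mono β ∧ Function.Surjective (RefHull.stalkMapₗ β (genericPoint X)) ∧ v ≠ 0 ∧ α ≠ 0 := by
  have hinj : ∀ {B : X.Modules} (f : G ⟶ B) [Mono f], ∀ x, Function.Injective (RefHull.stalkMapₗ f x) :=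
    fun f _ x => (M1.mono_iff_stalk f).1 inferInstance x
  have hsp : ∀ x, Function.Injective (G.presheaf.stalkSpecializes (gsp x)) := fun x a a' h =>
    hinj ι x (hF.1 x (by rw [RH26.stalkMapₗ_stalkSpecializes, RH26.stalkMapₗ_stalkSpecializes, h]))
  have hu0 : u ≠ 0 := fun h => hG0 ((IsZero.iff_id_eq_zero G).2 (Mono.right_cancellation (f := u) _ _
    (by rw [h, comp_zero, comp_zero])))
  obtain ⟨a₀, ha₀⟩ : ∃ a, RefHull.stalkMapₗ u (genericPoint X) a ≠ 0 := by
    by_contra h
    push Not at h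
    exact hu0 (stalk_eq_zero_of_closed1 (RH26.closed1_structure hX) u h)
  have hus : Function.Surjective (RefHull.stalkMapₗ u (genericPoint X)) := fun b => by
    set z := RefHull.stalkMapₗ u (genericPoint X) a₀ with hz
    obtain ⟨c, hc⟩ := (RH26.isField_η (X := X)).mul_inv_cancel (a := (str (genericPoint X)).symm z)
      fun h0 => ha₀ ((LinearEquiv.map_eq_zero_iff _).1 h0)
    refine ⟨((str (genericPoint X)).symm b * c) • a₀, (str (genericPoint X)).symm.injective ?_⟩
    rw [map_smul, map_smul, ← hz, smul_eq_mul, mul_assoc, mul_comm c, hc, mul_one]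
  let eu := LinearEquiv.ofBijective (RefHull.stalkMapₗ u (genericPoint X)) ⟨hinj u _, hus⟩
  obtain ⟨g, hg⟩ : ∃ g : G.presheaf.stalk (genericPoint X), Amp.Gen g :=
    ⟨_, RH26.gen_of_equiv ((str (genericPoint X)).trans eu.symm)⟩
  let L := RefHull.ddual G
  let β : G ⟶ L := RefHull.bidualMap G
  have hLR : R1 L := R1.ddual hX hG ⟨g, hg⟩
  have hL : PicF.IsInvertible L := RH26.isInvertible_of_gen hLR.coh fun x => by
    haveI := hU x
    obtain ⟨g', hg'⟩ := hLR.gen
    exact RH26.exists_gen_of_isReflexiveAt_ufd hLR.coh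
      ((RH26.isReflexive_iff_stalks hLR.coh).1 ((RH26.isReflexive_iff_closed1 hX hLR.coh).2 hLR.closed) x) hg'
  have hβη := (RH26.bijective_bidual_stalk_iff hG _).2 (RH26.isReflexiveAt_generic hG)
  let eβ := LinearEquiv.ofBijective (RefHull.stalkMapₗ β (genericPoint X)) hβη
  have hext : ∀ {B : X.Modules} (_ : Closed1 B) (f : G ⟶ B), Function.Injective (RefHull.stalkMapₗ f (genericPoint X)) →
      ∃ φ : L ⟶ B, φ ≠ 0 := by
    intro B hB f hf
    obtain ⟨φ, hφ⟩ := RH26.exists_hom_of_generic hB ((RefHull.stalkMapₗ f (genericPoint X)).comp eβ.symm.toLinearMap)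
      fun x hx a ha => by
        obtain ⟨v, hv⟩ := ha
        have hrx := RH26.isReflexiveAt_of_dim_le_one hX hG (hsp x) hx.le
        obtain ⟨w, rfl⟩ := ((RH26.bijective_bidual_stalk_iff hG x).2 hrx).2 v
        refine ⟨RefHull.stalkMapₗ f x w, ?_⟩
        rw [RH26.stalkMapₗ_stalkSpecializes]
        show _ = RefHull.stalkMapₗ f (genericPoint X) (eβ.symm a)
        congr 1
        refine eβ.eq_symm_apply.2 ?_
        rw [← hv]
        exact (RH26.stalkMapₗ_stalkSpecializes β (gsp x) w).symm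
    refine ⟨φ, fun h0 => ?_⟩
    have h1 := hφ (eβ g)
    have hz : RefHull.stalkMapₗ φ (genericPoint X) (eβ g) = 0 := by
      rw [h0]
      show (M1.stalkAb _).map (0 : L ⟶ B) _ = 0
      rw [Functor.map_zero]; rfl
    rw [hz] at h1
    have h2 : RefHull.stalkMapₗ f (genericPoint X) g = 0 := by simpa using h1.symm
    exact RH26.ne_zero_of_gen hg (hf (h2.trans (map_zero _).symm))
  obtain ⟨v, hv⟩ := hext (RH26.closed1_structure hX) u (hinj u _)
  obtain ⟨α, hα⟩ := hext hF ι (hinj ι _)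
  exact ⟨L, hL, β, v, α, mono_of_injective_η hsp β hβη.1, hβη.2, hv, hα⟩

/-- If `L` is an effective line subsheaf of a module without sections, it is contained in the generator. -/
theorem exists_to_gen [PicGrp.Law X] {I : X.Modules} (hI : PicF.IsInvertible I) (ιI : I ⟶ Coh.structureModule X)
    [Mono ιI] (hιI : ιI ≠ 0) (hgen : ∀ c : PicLoc.PicSet X, ∃ n : ℤ, c = PicGrp.cls I hI ^ n)
    {L F : X.Modules} (hL : PicF.IsInvertible L) (hF : Closed1 F) (hno : ∀ s : Coh.structureModule X ⟶ F, s = 0)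
    (v : L ⟶ Coh.structureModule X) (hv : v ≠ 0) (α : L ⟶ F) (hα : α ≠ 0) :
    ∃ f : L ⟶ I, Mono f ∧ Function.Surjective (RefHull.stalkMapₗ f (genericPoint X)) := by
  obtain ⟨M, hM, ⟨eIM⟩⟩ := M2.exists_inverse hI
  have hLR := Div21F12.r1_of_invertible hX hL (Snapper.isCoh_of_isInvertible hL)
  have hIR := Div21F12.r1_of_invertible hX hI (Snapper.isCoh_of_isInvertible hI)
  obtain ⟨n, hn⟩ := hgen (PicGrp.cls L hL)
  obtain ⟨L', hL', ⟨eL⟩⟩ := M2.exists_inverse hL
  by_cases hn0 : n ≤ 0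
  · exfalso
    obtain ⟨d, rfl⟩ : ∃ d : ℕ, n = -(d : ℤ) := ⟨(-n).toNat, by omega⟩
    have hP := M2.isInvertible_tensorPow hI d
    obtain ⟨c, hc⟩ := exists_cosec hI hM eIM ιI hιI d
    have hcl : PicGrp.cls (CohB1.tensorPow I d) hP = PicGrp.cls I hI ^ d :=
      Subtype.ext (by rw [PicGrp.cls_pow_val]; rfl)
    obtain ⟨e⟩ := (PicGrp.cls_mul_cls_eq_one_iff hP hL).1 (by
      rw [hn, hcl, ← zpow_natCast, ← zpow_add, add_neg_cancel, zpow_zero])
    let s : Coh.structureModule X ⟶ L := e.inv ≫ M2.tensorMap c (𝟙 L) ≫ (M2.tensorLUnit L).hom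
    have hs : s ≠ 0 := RankTwo11.iso_comp_ne_zero
      (RankTwo11.comp_iso_ne_zero (RankTwo11.tensor_ne_zero eL hc) (M2.tensorLUnit L)) e.symm
    have hαη := injective_of_ne_zero hF hLR.gen α hα
    obtain ⟨a, ha⟩ : ∃ a, RefHull.stalkMapₗ s (genericPoint X) a ≠ 0 := by
      by_contra h
      push Not at h
      exact hs (stalk_eq_zero_of_closed1 hLR.closed s h)
    refine ha (hαη (Eq.trans ?_ (map_zero _).symm))
    rw [← stalkMap_comp, hno (s ≫ α)]
    show (M1.stalkAb _).map (0 : Coh.structureModule X ⟶ F) a = 0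
    rw [Functor.map_zero]; rfl
  · obtain ⟨d, rfl⟩ : ∃ d : ℕ, n = ((d + 1 : ℕ) : ℤ) := ⟨(n - 1).toNat, by omega⟩
    have hP := M2.isInvertible_tensorPow hI (d + 1)
    obtain ⟨j⟩ := (PicGrp.cls_eq_cls_iff hL hP).1 (by
      rw [hn, zpow_natCast]
      exact Subtype.ext (by rw [PicGrp.cls_pow_val]; rfl))
    obtain ⟨c, hc⟩ := exists_cosec hI hM eIM ιI hιI d
    let f : L ⟶ I := j.hom ≫ M2.tensorMap c (𝟙 I) ≫ (M2.tensorLUnit I).hom
    have hf : f ≠ 0 := RankTwo11.iso_comp_ne_zero
      (RankTwo11.comp_iso_ne_zero (RankTwo11.tensor_ne_zero eIM hc) (M2.tensorLUnit I)) j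
    have hinj := injective_of_ne_zero hIR.closed hLR.gen f hf
    refine ⟨f, mono_of_injective_η hLR.closed.1 f hinj, fun b => ?_⟩
    obtain ⟨g, hg⟩ := hLR.gen
    have hne : RefHull.stalkMapₗ f (genericPoint X) g ≠ 0 := fun h0 =>
      RH26.ne_zero_of_gen hg (hinj (h0.trans (map_zero _).symm))
    obtain ⟨r, hr⟩ := (RH26.gen_of_ne_zero hIR hne).2 b
    exact ⟨r • g, by rw [map_smul]; exact hr⟩

end Groth.Agent.LMSimple8
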