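import Groth.Agent.Lib.ShStab28.Positive
import Groth.Agent.Lib.TensorMod.Invertible
import Groth.Agent.Lib.CurveCoh17.Degree
import Groth.Agent.Lib.LMSimple8.Stable

/-!
# Hilbert polynomials of powers of the polarisation
-/

set_option autoImplicit false
set_option linter.style.haveILetI false
set_option linter.unusedSectionVars false
set_option backward.isDefEq.respectTransparency false
set_option backward.isDefEq.respectTransparency.types false
set_option maxHeartbeats 1000000

universe u

open CategoryTheory CategoryTheory.Limits AlgebraicGeometry TopologicalSpace Polynomial StabCat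
open Groth.Agent.ShStab28 (hilb)

noncomputable section

namespace Groth.Agent.LMSimple8

theorem alpha_comp {P : ℚ[X]} (hP : P.natDegree ≤ 2) (q : ℚ) :
    alpha 2 (P.comp (Polynomial.X + Polynomial.C q)) = alpha 2 P ∧
      alpha 1 (P.comp (Polynomial.X + Polynomial.C q)) = alpha 1 P + q * alpha 2 P := by
  have hP' : P = Polynomial.C (P.coeff 0) + Polynomial.C (P.coeff 1) * Polynomial.X + Polynomial.C (P.coeff 2) * Polynomial.X ^ 2 := by
    conv_lhs => rw [P.as_sum_range_C_mul_X_pow' (Nat.lt_succ_of_le hP)]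
    simp [Finset.sum_range_succ]
  constructor <;>
  · conv_lhs => rw [hP']
    simp only [add_comp, mul_comp, C_comp, X_comp, pow_comp, alpha]
    rw [show ∀ c₀ c₁ c₂ : ℚ, Polynomial.C c₀ + Polynomial.C c₁ * (Polynomial.X + Polynomial.C q) +
      Polynomial.C c₂ * (Polynomial.X + Polynomial.C q) ^ 2 =
      Polynomial.C (c₀ + c₁ * q + c₂ * q ^ 2) + Polynomial.C (c₁ + 2 * c₂ * q) * Polynomial.X +
        Polynomial.C c₂ * Polynomial.X ^ 2 from fun c₀ c₁ c₂ => by
      simp only [map_add, map_mul, map_pow, map_ofNat]; ring]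
    simp only [coeff_add, coeff_C_mul, coeff_C, coeff_X, coeff_X_pow]
    norm_num [Nat.factorial]
    try ring

variable {k : Type u} [Field k] {X : Scheme.{u}} [X.Over (Spec (CommRingCat.of k))]
  [IsProper (X ↘ Spec (CommRingCat.of k))] {L : X.Modules} (hL : PicF.IsInvertible L)
include hL

theorem hilb_tensorPow (d : ℕ) :
    hilb k X L (CohB1.tensorPow L d) = (hilb k X L (Coh.structureModule X)).comp (Polynomial.X + Polynomial.C (d : ℚ)) := by
  haveI : IsNoetherian X := CohFound.isNoetherian_of_isProper (X ↘ Spec (CommRingCat.of k))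
  refine ShStab28.hilb_eq k fun m => ?_
  rw [Polynomial.eval_comp, Polynomial.eval_add, Polynomial.eval_X, Polynomial.eval_C,
    show ((m : ℚ) + (d : ℚ)) = ((d + m : ℕ) : ℚ) by push_cast; ring,
    ← ShStab28.hilb_spec k hL (M1.isCoh_structureModule X) (d + m)]
  congr 1
  exact CurveCoh17.euler_iso ((M2.tensorPowAdd L d m).symm ≪≫ (M2.tensorLUnit _).symm)

theorem hilb_inverse {M : X.Modules} (hM : Coh.IsCoh M) (d : ℕ)
    (e : CohB1.tensorMod M (CohB1.tensorPow L d) ≅ Coh.structureModule X) :
    (hilb k X L M).comp (Polynomial.X + Polynomial.C (d : ℚ)) = hilb k X L (Coh.structureModule X) := by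
  haveI : IsNoetherian X := CohFound.isNoetherian_of_isProper (X ↘ Spec (CommRingCat.of k))
  refine (ShStab28.hilb_eq k fun m => ?_).symm
  rw [Polynomial.eval_comp, Polynomial.eval_add, Polynomial.eval_X, Polynomial.eval_C,
    show ((m : ℚ) + (d : ℚ)) = ((d + m : ℕ) : ℚ) by push_cast; ring, ← ShStab28.hilb_spec k hL hM (d + m)]
  congr 1
  exact (CurveCoh17.euler_iso (M2.tensorIso (Iso.refl M) (M2.tensorPowAdd L d m) ≪≫
    (M2.tensorAssoc _ _ _).symm ≪≫ M2.tensorIso e (Iso.refl _))).symm

/-- The coefficients for a class which is a power of the polarisation. -/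
theorem alpha_of_cls [PicGrp.Law X] (hd : topologicalKrullDim X = 2) {M : X.Modules} (hM : PicF.IsInvertible M) {n : ℤ}
    (hn : PicGrp.cls M hM = PicGrp.cls L hL ^ n) :
    alpha 2 (hilb k X L M) = alpha 2 (hilb k X L (Coh.structureModule X)) ∧
      alpha 1 (hilb k X L M) = alpha 1 (hilb k X L (Coh.structureModule X)) + n * alpha 2 (hilb k X L (Coh.structureModule X)) := by
  haveI : IsNoetherian X := CohFound.isNoetherian_of_isProper (X ↘ Spec (CommRingCat.of k))
  have hdeg : ∀ {E : X.Modules}, Coh.IsCoh E → (hilb k X L E).natDegree ≤ 2 := fun {E} hE =>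
    ShStab28.natDegree_hilb_le k hL hE (le_trans Topology.IsInducing.subtypeVal.topologicalKrullDim_le (by rw [hd]; rfl))
  rcases Int.eq_nat_or_neg n with ⟨d, rfl | rfl⟩
  · have hP := M2.isInvertible_tensorPow hL d
    obtain ⟨e⟩ := (PicGrp.cls_eq_cls_iff hM hP).1 (by
      rw [hn, zpow_natCast]
      exact Subtype.ext (by rw [PicGrp.cls_pow_val]; rfl))
    rw [← ShStab28.hilb_iso k hL e (Snapper.isCoh_of_isInvertible hM), hilb_tensorPow hL d]
    exact_mod_cast alpha_comp (hdeg (M1.isCoh_structureModule X)) (d : ℚ)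
  · have hP := M2.isInvertible_tensorPow hL d
    obtain ⟨e⟩ := (PicGrp.cls_mul_cls_eq_one_iff hM hP).1 (by
      rw [hn, show PicGrp.cls (CohB1.tensorPow L d) hP = PicGrp.cls L hL ^ d from
        Subtype.ext (by rw [PicGrp.cls_pow_val]; rfl), ← zpow_natCast, ← zpow_add, neg_add_cancel, zpow_zero])
    have h := hilb_inverse (k := k) hL (Snapper.isCoh_of_isInvertible hM) d e
    obtain ⟨h2, h1⟩ := alpha_comp (hdeg (Snapper.isCoh_of_isInvertible hM)) (d : ℚ)
    rw [h] at h2 h1
    refine ⟨h2.symm, ?_⟩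
    rw [h1, h2]
    push_cast
    ring

end Groth.Agent.LMSimple8
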