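import Groth.Agent.Lib.LMSimple8.Slope
import Groth.Agent.Lib.LMSimple8.Shift

/-!
# Rank one submodules of an extension of a twisted ideal by the structure sheaf
-/

set_option autoImplicit false
set_option linter.style.haveILetI false
set_option linter.unusedSectionVars false
set_option backward.isDefEq.respectTransparency false
set_option backward.isDefEq.respectTransparency.types false
set_option maxHeartbeats 1600000

universe u

open CategoryTheory CategoryTheory.Limits AlgebraicGeometry TopologicalSpace Opposite StabCat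
open Groth.Agent.ShStab28 (hilb)

noncomputable section

namespace Groth.Agent.LMSimple8

open Groth.Agent.RH26 (str gsp R1 InStalk Closed1)

section Hull

variable {X : Scheme.{u}} [IsIntegral X] [IsLocallyNoetherian X] (hX : Pi1.IsNormalScheme X)
  (hU : ∀ x : X, UniqueFactorizationMonoid (X.presheaf.stalk x))
include hX hU

/-- The hull of a submodule of an invertible module. -/
theorem exists_hull' {G B : X.Modules} (hG : Coh.IsCoh G) (hB : PicF.IsInvertible B) (u : G ⟶ B) [Mono u]
    (hG0 : ¬ IsZero G) :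
    ∃ (L : X.Modules) (_ : PicF.IsInvertible L) (β : G ⟶ L) (φ : L ⟶ B), Mono β ∧ Mono φ ∧
      Function.Surjective (RefHull.stalkMapₗ β (genericPoint X)) ∧
      Function.Surjective (RefHull.stalkMapₗ φ (genericPoint X)) ∧ β ≫ φ = u ∧
      ∀ x : X, ringKrullDim (X.presheaf.stalk x) = 1 → Function.Surjective (RefHull.stalkMapₗ β x) := by
  have hBR := Div21F12.r1_of_invertible hX hB (Snapper.isCoh_of_isInvertible hB)
  have hi : ∀ x, Function.Injective (RefHull.stalkMapₗ u x) := (M1.mono_iff_stalk u).1 inferInstance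
  have hsp : ∀ x, Function.Injective (G.presheaf.stalkSpecializes (gsp x)) := fun x a a' h =>
    hi x (hBR.closed.1 x (by rw [RH26.stalkMapₗ_stalkSpecializes, RH26.stalkMapₗ_stalkSpecializes, h]))
  have hu0 : u ≠ 0 := fun h => hG0 ((IsZero.iff_id_eq_zero G).2 (Mono.right_cancellation (f := u) _ _
    (by rw [h, comp_zero, comp_zero])))
  obtain ⟨a₀, ha₀⟩ : ∃ a, RefHull.stalkMapₗ u (genericPoint X) a ≠ 0 := by
    by_contra h
    push Not at h
    exact hu0 (stalk_eq_zero_of_closed1 hBR.closed u h)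
  have hgz := RH26.gen_of_ne_zero hBR ha₀
  have hus : Function.Surjective (RefHull.stalkMapₗ u (genericPoint X)) := fun b => by
    obtain ⟨r, hr⟩ := hgz.2 b
    exact ⟨r • a₀, by rw [map_smul]; exact hr⟩
  let eu := LinearEquiv.ofBijective (RefHull.stalkMapₗ u (genericPoint X)) ⟨hi _, hus⟩
  obtain ⟨g₀, hg₀⟩ := hBR.gen
  obtain ⟨g, hg⟩ : ∃ g : G.presheaf.stalk (genericPoint X), Amp.Gen g :=
    ⟨_, RH26.gen_of_equiv ((RH26.genEquiv hg₀).trans eu.symm)⟩
  let L := RefHull.ddual G
  let β : G ⟶ L := RefHull.bidualMap G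
  have hLR : R1 L := R1.ddual hX hG ⟨g, hg⟩
  have hL : PicF.IsInvertible L := RH26.isInvertible_of_gen hLR.coh fun x => by
    haveI := hU x
    obtain ⟨g', hg'⟩ := hLR.gen
    exact RH26.exists_gen_of_isReflexiveAt_ufd hLR.coh
      ((RH26.isReflexive_iff_stalks hLR.coh).1 ((RH26.isReflexive_iff_closed1 hX hLR.coh).2 hLR.closed) x) hg'
  have hβη := (RH26.bijective_bidual_stalk_iff hG _).2 (RH26.isReflexiveAt_generic hG)
  have hβ1 : ∀ x : X, ringKrullDim (X.presheaf.stalk x) = 1 → Function.Surjective (RefHull.stalkMapₗ β x) := fun x hx =>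
    ((RH26.bijective_bidual_stalk_iff hG x).2 (RH26.isReflexiveAt_of_dim_le_one hX hG (hsp x) hx.le)).2
  let eβ := LinearEquiv.ofBijective (RefHull.stalkMapₗ β (genericPoint X)) hβη
  obtain ⟨φ, hφ⟩ := RH26.exists_hom_of_generic hBR.closed
    ((RefHull.stalkMapₗ u (genericPoint X)).comp eβ.symm.toLinearMap) fun x hx a ha => by
      obtain ⟨v, hv⟩ := ha
      obtain ⟨w, rfl⟩ := hβ1 x hx v
      refine ⟨RefHull.stalkMapₗ u x w, ?_⟩
      rw [RH26.stalkMapₗ_stalkSpecializes]
      show _ = RefHull.stalkMapₗ u (genericPoint X) (eβ.symm a)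
      congr 1
      refine eβ.eq_symm_apply.2 ?_
      rw [← hv]
      exact (RH26.stalkMapₗ_stalkSpecializes β (gsp x) w).symm
  have hcomp : β ≫ φ = u := by
    refine sub_eq_zero.1 (stalk_eq_zero_of_closed1 hBR.closed _ fun a => ?_)
    show (M1.stalkAb _).map (β ≫ φ - u) a = 0
    rw [Functor.map_sub]
    show RefHull.stalkMapₗ (β ≫ φ) _ a - RefHull.stalkMapₗ u _ a = 0
    rw [stalkMap_comp, hφ, sub_eq_zero]
    show RefHull.stalkMapₗ u _ (eβ.symm (eβ a)) = _
    rw [eβ.symm_apply_apply]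
  have hφη : Function.Bijective (RefHull.stalkMapₗ φ (genericPoint X)) := by
    rw [show (RefHull.stalkMapₗ φ (genericPoint X) : _ → _) = eu ∘ eβ.symm from funext hφ]
    exact eu.bijective.comp eβ.symm.bijective
  exact ⟨L, hL, β, φ, mono_of_injective_η hsp β hβη.1, mono_of_injective_η hLR.closed.1 φ hφη.1,
    hβη.2, hφη.2, hcomp, hβ1⟩

omit hU in
/-- A lift of the generic part of an invertible quotient splits the extension. -/
theorem exists_retraction {G V N B : X.Modules} (a : Coh.structureModule X ⟶ V) (b : V ⟶ N) (w : a ≫ b = 0)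
    (hex : (ShortComplex.mk a b w).ShortExact) (j : N ⟶ B) [Mono j] (ι : G ⟶ V)
    (hc : Function.Bijective (RefHull.stalkMapₗ (ι ≫ b ≫ j) (genericPoint X)))
    (hc1 : ∀ x : X, ringKrullDim (X.presheaf.stalk x) = 1 → Function.Surjective (RefHull.stalkMapₗ (ι ≫ b ≫ j) x)) :
    ∃ r : V ⟶ Coh.structureModule X, a ≫ r = 𝟙 (Coh.structureModule X) := by
  have hS := fun x => Cyc26.stalkLin_exact hex x
  let η := genericPoint X
  have hai : Function.Injective (RefHull.stalkMapₗ a η) := (hS η).1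
  have hae : ∀ z, RefHull.stalkMapₗ b η z = 0 ↔ z ∈ Set.range (RefHull.stalkMapₗ a η) := (hS η).2.1
  have hji : ∀ x, Function.Injective (RefHull.stalkMapₗ j x) := (M1.mono_iff_stalk j).1 inferInstance
  let ec := LinearEquiv.ofBijective (RefHull.stalkMapₗ (ι ≫ b ≫ j) η) hc
  let ψ : V.presheaf.stalk η →ₗ[X.presheaf.stalk η] V.presheaf.stalk η :=
    LinearMap.id - (RefHull.stalkMapₗ ι η).comp (ec.symm.toLinearMap.comp ((RefHull.stalkMapₗ j η).comp (RefHull.stalkMapₗ b η)))
  have hψ : ∀ v, ψ v ∈ LinearMap.range (RefHull.stalkMapₗ a η) := fun v => by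
    refine (hae _).1 (hji η ?_)
    show RefHull.stalkMapₗ j η (RefHull.stalkMapₗ b η (v - RefHull.stalkMapₗ ι η (ec.symm (RefHull.stalkMapₗ j η (RefHull.stalkMapₗ b η v))))) = _
    rw [map_sub, map_sub, map_zero, sub_eq_zero]
    refine (ec.apply_symm_apply (RefHull.stalkMapₗ j η (RefHull.stalkMapₗ b η v))).symm.trans ?_
    show RefHull.stalkMapₗ (ι ≫ b ≫ j) η _ = _
    rw [stalkMap_comp, stalkMap_comp]
  let ea := LinearEquiv.ofInjective (RefHull.stalkMapₗ a η) hai
  let rη : V.presheaf.stalk η →ₗ[X.presheaf.stalk η] (Coh.structureModule X).presheaf.stalk η :=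
    ea.symm.toLinearMap.comp (ψ.codRestrict _ hψ)
  have hr : ∀ v o, RefHull.stalkMapₗ a η o = ψ v → rη v = o := fun v o h =>
    (LinearEquiv.symm_apply_eq ea).2 (Subtype.ext h.symm)
  obtain ⟨r, hrr⟩ := RH26.exists_hom_of_generic (RH26.closed1_structure hX) rη fun x hx z hz => by
    obtain ⟨v, rfl⟩ := hz
    obtain ⟨g, hg⟩ := hc1 x hx (RefHull.stalkMapₗ j x (RefHull.stalkMapₗ b x v))
    have h0 : RefHull.stalkMapₗ b x (v - RefHull.stalkMapₗ ι x g) = 0 := by
      refine hji x ?_
      rw [map_sub, map_sub, map_zero, sub_eq_zero, ← hg, stalkMap_comp, stalkMap_comp]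
    obtain ⟨o, ho⟩ := ((hS x).2.1 _).1 h0
    refine ⟨o, (hr _ _ ?_).symm⟩
    rw [← RH26.stalkMapₗ_stalkSpecializes, show RefHull.stalkMapₗ a x o = v - RefHull.stalkMapₗ ι x g from ho, map_sub,
      RH26.stalkMapₗ_stalkSpecializes]
    show _ = V.presheaf.stalkSpecializes (gsp x) v - RefHull.stalkMapₗ ι η (ec.symm (RefHull.stalkMapₗ j η
      (RefHull.stalkMapₗ b η (V.presheaf.stalkSpecializes (gsp x) v))))
    congr 2
    refine ec.eq_symm_apply.2 ?_
    show RefHull.stalkMapₗ (ι ≫ b ≫ j) η _ = _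
    rw [← RH26.stalkMapₗ_stalkSpecializes, hg, RH26.stalkMapₗ_stalkSpecializes, RH26.stalkMapₗ_stalkSpecializes]
  refine ⟨r, sub_eq_zero.1 (stalk_eq_zero_of_closed1 (RH26.closed1_structure hX) _ fun o => ?_)⟩
  show (M1.stalkAb η).map (a ≫ r - 𝟙 (Coh.structureModule X)) o = 0
  rw [Functor.map_sub, CategoryTheory.Functor.map_id]
  show RefHull.stalkMapₗ (a ≫ r) η o - o = 0
  rw [stalkMap_comp, hrr, sub_eq_zero]
  refine hr _ _ ?_
  show _ = RefHull.stalkMapₗ a η o - RefHull.stalkMapₗ ι η (ec.symm (RefHull.stalkMapₗ j η (RefHull.stalkMapₗ b η (RefHull.stalkMapₗ a η o))))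
  rw [(hae _).2 ⟨o, rfl⟩, map_zero, map_zero, map_zero, sub_zero]

end Hull

/-- Modules with torsion free stalks are pure. -/
theorem isPure_of_injective_sp {X : Scheme.{u}} [IsIntegral X] {F : X.Modules}
    (hF : ∀ x, Function.Injective (F.presheaf.stalkSpecializes (gsp x))) {n : ℕ}
    (hX : topologicalKrullDim X = (n : WithBot ℕ∞)) : ShStab.IsPure X F n := by
  intro A i hi hA hA0
  haveI := hi
  have hgen : genericPoint X ∈ CohB1.support A := by
    obtain ⟨x, hx⟩ : (CohB1.support A).Nonempty :=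
      Set.nonempty_iff_ne_empty.2 fun h => hA0 (Snapper.isZero_of_support_empty h)
    obtain ⟨a, ha⟩ := (M1.mem_support_iff A x).1 hx
    refine (M1.mem_support_iff A _).2 ⟨A.presheaf.stalkSpecializes (gsp x) a, fun h => ha ?_⟩
    refine (M1.mono_iff_stalk i).1 inferInstance x (hF x ?_)
    show F.presheaf.stalkSpecializes (gsp x) (RefHull.stalkMapₗ i x a) =
      F.presheaf.stalkSpecializes (gsp x) (RefHull.stalkMapₗ i x 0)
    rw [RH26.stalkMapₗ_stalkSpecializes, h, map_zero, map_zero, map_zero]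
  have huniv : CohB1.support A = Set.univ := Set.eq_univ_of_forall fun x =>
    (genericPoint_specializes x).mem_closed (M1.isClosed_support hA.2) hgen
  rw [huniv, ← hX]
  exact (Homeomorph.Set.univ X).isHomeomorph.topologicalKrullDim_eq

end Groth.Agent.LMSimple8
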