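import Groth.Agent.Lib.LMSimple8.Sat3
import Groth.Agent.Lib.TensorMod.Invertible

/-!
# Kernels of maps to torsion free modules
-/

set_option autoImplicit false
set_option linter.style.haveILetI false
set_option linter.unusedSectionVars false
set_option backward.isDefEq.respectTransparency false
set_option backward.isDefEq.respectTransparency.types false
set_option maxHeartbeats 1600000

universe u

open CategoryTheory CategoryTheory.Limits AlgebraicGeometry TopologicalSpace Opposite

noncomputable section

namespace Groth.Agent.LMSimple8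

open Groth.Agent.RH26 (str gsp R1 InStalk Closed1)

/-- The kernel of a map from a closed module to a torsion free one is closed. -/
theorem closed1_kernel {X : Scheme.{u}} [IsIntegral X] {V N : X.Modules} (hV : Closed1 V)
    (hN : ∀ x, Function.Injective (N.presheaf.stalkSpecializes (gsp x))) (b : V ⟶ N) : Closed1 (kernel b) := by
  have hinj := (M1.mono_iff_stalk (kernel.ι b)).1 inferInstance
  have hex : ∀ (x : X) (v : V.presheaf.stalk x), RefHull.stalkMapₗ b x v = 0 →
      ∃ w, RefHull.stalkMapₗ (kernel.ι b) x w = v := fun x v hv => by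
    have hS : (ShortComplex.mk (kernel.ι b) b (kernel.condition b)).Exact := ShortComplex.exact_kernel b
    exact ((ShortComplex.ab_exact_iff _).1 (hS.map (M1.stalkAb x))) v hv
  refine ⟨fun x a a' h => hinj x (hV.1 x ?_), fun x a ha => ?_⟩
  · show V.presheaf.stalkSpecializes (gsp x) (RefHull.stalkMapₗ (kernel.ι b) x a) =
      V.presheaf.stalkSpecializes (gsp x) (RefHull.stalkMapₗ (kernel.ι b) x a')
    rw [RH26.stalkMapₗ_stalkSpecializes, RH26.stalkMapₗ_stalkSpecializes, h]
  obtain ⟨v, hv⟩ := hV.2 x (RefHull.stalkMapₗ (kernel.ι b) _ a) fun ξ hξ h1 => by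
    obtain ⟨w, hw⟩ := ha ξ hξ h1
    exact ⟨RefHull.stalkMapₗ (kernel.ι b) ξ w, by rw [RH26.stalkMapₗ_stalkSpecializes, hw]⟩
  obtain ⟨w, hw⟩ := hex x v (hN x (by
    rw [RH26.stalkMapₗ_stalkSpecializes, hv, ← stalkMap_comp, kernel.condition, map_zero]
    show (M1.stalkAb _).map (0 : kernel b ⟶ N) a = 0
    rw [Functor.map_zero]; rfl))
  refine ⟨w, hinj _ ?_⟩
  show RefHull.stalkMapₗ (kernel.ι b) _ _ = RefHull.stalkMapₗ (kernel.ι b) _ a
  rw [← RH26.stalkMapₗ_stalkSpecializes, hw, hv]

/-- The generic length of a locally free module is its rank. -/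
theorem lenAt_of_ofRank {X : Scheme.{u}} [IsIntegral X] {F : X.Modules} {r : ℕ}
    (hF : FlatMod.IsFinLocFreeOfRank r F) : NumPoly18.lenAt F (genericPoint X) = r := by
  obtain ⟨e⟩ := CurveCoh17.nonempty_stalk_equiv hF (genericPoint X)
  letI := (RH26.isField_η (X := X)).toField
  rw [NumPoly18.lenAt, e.length_eq, Module.length_eq_finrank, Module.finrank_fin_fun]
  simp

/-- Locally free modules have torsion free stalks. -/
theorem injective_sp_of_ofRank {X : Scheme.{u}} [IsIntegral X] [IsLocallyNoetherian X] {F : X.Modules} {r : ℕ}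
    (hF : FlatMod.IsFinLocFreeOfRank r F) (x : X) : Function.Injective (F.presheaf.stalkSpecializes (gsp x)) := by
  obtain ⟨j⟩ := CurveCoh17.nonempty_stalk_equiv hF x
  haveI := Module.Free.of_equiv j.symm
  haveI : Module.IsTorsionFree (X.presheaf.stalk x) (F.presheaf.stalk x) := inferInstance
  exact RH26.injective_sp_of_isTorsionFree (CurveCoh17.isCoh_of_ofRank hF).1 x

end Groth.Agent.LMSimple8
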