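import Groth.Agent.Lib.LMSimple8.IdealExt
import Groth.Agent.Lib.DVRTriv4.Seq

/-!
# Simple modules with finite support
-/

set_option autoImplicit false
set_option linter.style.haveILetI false
set_option linter.unusedSectionVars false
set_option backward.isDefEq.respectTransparency false
set_option backward.isDefEq.respectTransparency.types false
set_option maxHeartbeats 1600000

universe u

open CategoryTheory CategoryTheory.Limits AlgebraicGeometry TopologicalSpace Opposite StabCat
open Groth.Agent.ShStab28 (hilb)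

noncomputable section

namespace Groth.Agent.LMSimple8

/-- No proper nonzero coherent submodules. -/
def IsSimpleCoh {X : Scheme.{u}} (T : X.Modules) : Prop :=
  ¬ IsZero T ∧ ∀ (G : X.Modules) (i : G ⟶ T), Mono i → Coh.IsCoh G → ¬ IsZero G → IsIso i

variable {k : Type u} [Field k] {X : Scheme.{u}} [X.Over (Spec (CommRingCat.of k))]
  [IsProper (X ↘ Spec (CommRingCat.of k))] {L : X.Modules} (hL : CohB1.IsAmple L)
include k hL

/-- A nonzero module of degree zero has finite support and positive number of sections. -/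
theorem data_of_natDegree {T : X.Modules} (hT : Coh.IsCoh T) (hd : (hilb k X L T).natDegree = 0) (h0 : ¬ IsZero T) :
    topologicalKrullDim (CohB1.support T) ≤ 0 ∧ (Module.finrank k (Coh.HH X T 0) : ℚ) = (hilb k X L T).coeff 0 ∧
      0 < Module.finrank k (Coh.HH X T 0) := by
  haveI : IsNoetherian X := CohFound.isNoetherian_of_isProper (X ↘ Spec (CommRingCat.of k))
  obtain ⟨e, he⟩ := ShStab28.exists_dim_supp k hT h0
  obtain ⟨h1, h2⟩ := (ShStab28.positive k hL) _ hT e he
  rw [hd] at h1
  subst h1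
  have hdim : topologicalKrullDim (CohB1.support T) ≤ ((0 : ℕ) : WithBot ℕ∞) := he.le
  have hs := ShStab28.hilb_spec k hL.1 hT 0
  rw [show ShStab.twist X L T 0 = CohB1.tensorMod T (Coh.structureModule X) from rfl,
    CurveCoh17.euler_iso (M2.tensorRUnit T), Nat.cast_zero, Polynomial.eval, Polynomial.eval₂_at_zero] at hs
  simp only [RingHom.id_apply] at hs
  have heu : Curv2.euler k X T = (Module.finrank k (Coh.HH X T 0) : ℤ) := by
    rw [Curv2.euler, finsum_eq_finsetSum_of_support_subset (s := Finset.range 1) _ ?_]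
    · simp
    · intro p hp
      simp only [Finset.coe_range, Set.mem_Iio]
      by_contra hlt
      haveI : Subsingleton (Coh.HH X T p) :=
        NumPoly18.subsingleton_HH_of_support (k := k) hT hdim (show 0 < p by omega)
      exact hp (by simp [Module.finrank_zero_of_subsingleton])
  rw [heu] at hs
  push_cast at hs
  refine ⟨hdim, hs, ?_⟩
  rw [Polynomial.leadingCoeff, hd] at h2
  rw [← hs] at h2
  exact_mod_cast h2

/-- Modules of degree zero contain simple ones. -/
theorem exists_simple_sub : ∀ (c : ℕ) (T : X.Modules), Coh.IsCoh T → (hilb k X L T).natDegree = 0 → ¬ IsZero T →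
    Module.finrank k (Coh.HH X T 0) ≤ c →
    ∃ (G : X.Modules) (i : G ⟶ T), Mono i ∧ Coh.IsCoh G ∧ (hilb k X L G).natDegree = 0 ∧ IsSimpleCoh G := by
  intro c
  induction c with
  | zero => intro T hT hd h0 hc; exact absurd (data_of_natDegree hL hT hd h0).2.2 (by omega)
  | succ c ih =>
    intro T hT hd h0 hc
    by_cases hs : IsSimpleCoh T
    · exact ⟨T, 𝟙 T, inferInstance, hT, hd, hs⟩
    simp only [IsSimpleCoh, h0, not_false_eq_true, true_and, not_forall] at hs
    obtain ⟨G, i, hi, hG, hG0, hiso⟩ := hs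
    let Y := ShStab28.sys k X L hL.1 (ShStab28.positive k hL)
    haveI := hi
    have hQ : Coh.IsCoh (cokernel i) := Y.ok_coker i hG hT
    have hdG : (hilb k X L G).natDegree = 0 := Nat.le_zero.1 ((ShStab28.Sys.deg_mono Y i hG hT).1.trans hd.le)
    have hdQ : (hilb k X L (cokernel i)).natDegree = 0 := Nat.le_zero.1 ((ShStab28.Sys.deg_mono Y i hG hT).2.trans hd.le)
    have hQ0 : ¬ IsZero (cokernel i) := fun hz => hiso (by
      haveI : Epi i := Preadditive.epi_of_cokernel_zero (hz.eq_of_tgt _ _)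
      exact isIso_of_mono_of_epi i)
    have hsum : hilb k X L T = hilb k X L G + hilb k X L (cokernel i) := ShStab28.Sys.hp_mono Y i hG hT
    obtain ⟨-, eG, -⟩ := data_of_natDegree hL hG hdG hG0
    obtain ⟨-, eQ, pQ⟩ := data_of_natDegree hL hQ hdQ hQ0
    obtain ⟨-, eT, -⟩ := data_of_natDegree hL hT hd h0
    rw [hsum, Polynomial.coeff_add, ← eG, ← eQ] at eT
    have eT' : Module.finrank k (Coh.HH X T 0) =
        Module.finrank k (Coh.HH X G 0) + Module.finrank k (Coh.HH X (cokernel i) 0) := by exact_mod_cast eT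
    obtain ⟨G', j, hj, hG', hdG', hs'⟩ := ih G hG hdG hG0 (by omega)
    haveI := hj
    exact ⟨G', j ≫ i, mono_comp _ _, hG', hdG', hs'⟩

/-- A simple module has only one section up to scalars. -/
theorem finrank_h0_simple [IsAlgClosed k] {T : X.Modules} (hT : Coh.IsCoh T) (hd : (hilb k X L T).natDegree = 0)
    (hs : IsSimpleCoh T) : Module.finrank k (Coh.HH X T 0) = 1 := by
  haveI : IsNoetherian X := CohFound.isNoetherian_of_isProper (X ↘ Spec (CommRingCat.of k))
  let Y := ShStab28.sys k X L hL.1 (ShStab28.positive k hL)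
  have hO := M1.isCoh_structureModule X
  obtain ⟨-, -, hpos⟩ := data_of_natDegree hL hT hd hs.1
  have hepi : ∀ {A : X.Modules}, Coh.IsCoh A → ∀ f : A ⟶ T, f ≠ 0 → Epi f := fun {A} hA f hf => by
    haveI := hs.2 (Abelian.image f) (Abelian.image.ι f) inferInstance (ShStab28.Sys.ok_image Y f hA hT)
      (ShStab28.Sys.image_ne_zero hf)
    exact ShStab28.Sys.epi_of_image f
  haveI := CohFound.finite_HH_of_isProper (A := k) T hT 0
  haveI : Nontrivial (Coh.HH X T 0) := Module.nontrivial_of_finrank_pos (R := k) hpos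
  obtain ⟨x, hx⟩ := exists_ne (0 : Coh.HH X T 0)
  let s := M1.secHom (CurveCoh17.hh0 T x)
  haveI : Epi s := hepi hO s (RankTwo11.secHom_ne_zero fun h => hx ((AddEquiv.map_eq_zero_iff _).1 h))
  refine le_antisymm (finrank_le_one x fun y => ?_) hpos
  let t := M1.secHom (CurveCoh17.hh0 T y)
  have hker : kernel.ι s ≫ t = 0 := RankTwo11.hom_eq_zero_of_stalk _ fun z a => by
    obtain ⟨r, hr⟩ : ∃ r, RH26.str z r = RefHull.stalkMapₗ (kernel.ι s) z a := ⟨_, (RH26.str z).apply_symm_apply _⟩
    have h1 : RefHull.stalkMapₗ s z (RH26.str z r) = 0 := by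
      rw [hr, ← stalkMap_comp, kernel.condition]
      show (M1.stalkAb z).map (0 : kernel s ⟶ T) a = 0
      rw [Functor.map_zero]; rfl
    obtain ⟨q, hq⟩ := (M1.epi_iff_stalk s).1 inferInstance z (RefHull.stalkMapₗ t z (RH26.str z 1))
    obtain ⟨b, rfl⟩ := (RH26.str z).surjective q
    have hq' : RefHull.stalkMapₗ s z (RH26.str z b) = RefHull.stalkMapₗ t z (RH26.str z 1) := hq
    have hlin : ∀ (f : Coh.structureModule X ⟶ T) (c : X.presheaf.stalk z),
        RefHull.stalkMapₗ f z (RH26.str z c) = c • RefHull.stalkMapₗ f z (RH26.str z 1) := fun f c => by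
      rw [← map_smul, ← map_smul, smul_eq_mul, mul_one]
    show RefHull.stalkMapₗ (kernel.ι s ≫ t) z a = 0
    rw [stalkMap_comp, ← hr, hlin, ← hq', hlin s b, smul_comm, ← hlin s r, h1, smul_zero]
  let φ : T ⟶ T := Abelian.epiDesc s t hker
  have hφ : s ≫ φ = t := Abelian.comp_epiDesc s t hker
  have hφx : CurveCoh17.hmap k φ 0 x = y := by
    refine (CurveCoh17.hh0 T).injective ?_
    rw [CurveCoh17.hh0_hmap]
    have h := congrArg (fun g : Coh.structureModule X ⟶ T => g.app ⊤ (M1.one ⊤)) hφ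
    simp only [t, M1.secHom_app_one] at h
    rw [← h]
    show φ.app ⊤ (CurveCoh17.hh0 T x) = φ.app ⊤ (s.app ⊤ (M1.one ⊤))
    rw [show s.app ⊤ (M1.one ⊤) = CurveCoh17.hh0 T x from M1.secHom_app_one _]
  obtain ⟨c, hc⟩ := Module.End.exists_eigenvalue (CurveCoh17.hmap k φ 0 : Module.End k (Coh.HH X T 0))
  obtain ⟨v, hv⟩ := hc.exists_hasEigenvector
  refine ⟨c, ?_⟩
  let ψ : T ⟶ T := φ - Formal.smulMod k T c
  have hψ : ∀ w, CurveCoh17.hmap k φ 0 w = CurveCoh17.hmap k ψ 0 w + c • w := fun w => by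
    rw [← DVRTriv4.hmap_smulMod k T c 0 w]
    show CurveCoh17.hmap₀ φ 0 w = CurveCoh17.hmap₀ ψ 0 w + CurveCoh17.hmap₀ (Formal.smulMod k T c) 0 w
    rw [← CurveCoh17.hmap₀_add, sub_add_cancel]
  have hψ0 : ψ = 0 := by
    by_contra hne
    haveI := hepi hT ψ hne
    haveI : IsIso ψ := ShStab28.Sys.isIso_of_hp_epi Y ψ hT hT rfl
    have h1 := hψ v
    rw [hv.apply_eq_smul, right_eq_add] at h1
    refine hv.2 ?_
    have h2 := congrArg (CurveCoh17.hmap k (inv ψ) 0) h1
    rwa [← CurveCoh17.hmap_comp, IsIso.hom_inv_id, CurveCoh17.hmap_id, map_zero] at h2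
  rw [← hφx, hψ x, hψ0, CurveCoh17.hmap_zero, zero_add]

end Groth.Agent.LMSimple8
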