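import Groth.Agent.Lib.LMSimple8.Coord
import Groth.Agent.Lib.VB17.Slope
import Groth.Agent.Lib.VB17.Proper
import Groth.Agent.Lib.LMEuler8.Free
import Groth.Agent.Lib.PP13.Filt
import Groth.Agent.Lib.SurfRR10.Proj
import Groth.Agent.Lib.FGA3.FormalTriv
import Groth.Agent.Lib.NumPoly18.SecImage

/-!
# The globally generated part of an invertible module on a curve, and its lift to the surface
-/

set_option autoImplicit false
set_option linter.style.haveILetI false
set_option linter.unusedSectionVars false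
set_option backward.isDefEq.respectTransparency false
set_option backward.isDefEq.respectTransparency.types false
set_option maxHeartbeats 1600000

universe u

open CategoryTheory CategoryTheory.Limits AlgebraicGeometry TopologicalSpace Opposite

noncomputable section

namespace Groth.Agent.LMSimple8

variable {k : Type u} [Field k]

theorem app_sum {X : Scheme.{u}} {A B : X.Modules} {ι : Type*} (s : Finset ι) (f : ι → (A ⟶ B)) (U : X.Opens)
    (v : Γ(A, U)) : (∑ i ∈ s, f i).app U v = ∑ i ∈ s, (f i).app U v := by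
  classical
  induction s using Finset.induction with
  | empty => simp
  | insert a s ha ih => rw [Finset.sum_insert ha, Finset.sum_insert ha, ← ih]; rfl

/-- The global sections of a free module. -/
theorem eq_sum_app {X : Scheme.{u}} {e : ℕ} (w : Γ(FlatMod.freeMod X e, ⊤)) :
    w = ∑ j, (Sigma.ι (fun _ : Fin e => Coh.structureModule X) j).app ⊤ ((prj j).app ⊤ w) := by
  have h := congrArg (fun φ : FlatMod.freeMod X e ⟶ FlatMod.freeMod X e => φ.app ⊤ w) (sum_prj (X := X) (e := e))
  exact h.symm.trans (app_sum _ _ _ _)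

/-- Every global function on a connected proper variety is a constant. -/
theorem exists_toGlobal [IsAlgClosed k] {C : Scheme.{u}} [C.Over (Spec (CommRingCat.of k))] [IsIntegral C]
    [IsProper (C ↘ Spec (CommRingCat.of k))] [Smooth (C ↘ Spec (CommRingCat.of k))]
    (r : Γ(C, ⊤)) : ∃ c : k, (Coh.toGlobal (C ↘ Spec (CommRingCat.of k)) c : Γ(C, ⊤)) = r := by
  have h1 : Module.finrank k (Coh.HH C (Coh.structureModule C) 0) = 1 := VB17.h0_one_of_smooth
  let o := (CurveCoh17.hh0 (Coh.structureModule C)).symm (M1.one ⊤)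
  have ho : o ≠ 0 := fun h => by
    have h' := (AddEquiv.map_eq_zero_iff _).1 h
    exact one_ne_zero (α := Γ(C, ⊤)) h'
  obtain ⟨c, hc⟩ := exists_smul_eq_of_finrank_eq_one h1 ho ((CurveCoh17.hh0 (Coh.structureModule C)).symm r)
  refine ⟨c, ?_⟩
  have h := congrArg (CurveCoh17.hh0 (Coh.structureModule C)) hc
  rw [AddEquiv.apply_symm_apply] at h
  refine Eq.trans ?_ h
  refine Eq.trans ?_ (CurveCoh17.hh0_smul (Coh.toGlobal (C ↘ Spec (CommRingCat.of k)) c) o).symm
  rw [AddEquiv.apply_symm_apply]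
  exact (mul_one _).symm

/-- The part of an invertible module generated by its sections. -/
theorem exists_globGen [IsAlgClosed k] {C : Scheme.{u}} [C.Over (Spec (CommRingCat.of k))] [IsIntegral C]
    [IsProper (C ↘ Spec (CommRingCat.of k))] [Smooth (C ↘ Spec (CommRingCat.of k))] (hC : topologicalKrullDim C = 1)
    (A : C.Modules) (hA : PicF.IsInvertible A) {e : ℕ} (he : Module.finrank k (Coh.HH C A 0) = e) (he0 : e ≠ 0) :
    ∃ (B : C.Modules) (_ : PicF.IsInvertible B) (p : FlatMod.freeMod C e ⟶ B), Epi p ∧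
      Function.Surjective (p.app ⊤) ∧ Module.finrank k (Coh.HH C B 0) = e ∧
      Module.finrank k (Coh.HH C A 1) ≤ Module.finrank k (Coh.HH C B 1) := by
  have hR : VB17.RegCurve k C := VB17.regCurve' hC
  haveI : IsNoetherian C := CohFound.isNoetherian_of_isProper (C ↘ Spec (CommRingCat.of k))
  haveI := CohFound.finite_HH_of_isProper (A := k) A (Snapper.isCoh_of_isInvertible hA) 0
  let b := Module.finBasisOfFinrankEq k (Coh.HH C A 0) he
  let ev : FlatMod.freeMod C e ⟶ A := Sigma.desc fun j => M1.secHom (CurveCoh17.hh0 A (b j))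
  have hsurj : Function.Surjective (ev.app ⊤) := fun t => by
    obtain ⟨z, rfl⟩ := (CurveCoh17.hh0 A).surjective t
    refine ⟨∑ j, (Sigma.ι (fun _ : Fin e => Coh.structureModule C) j).app ⊤
      ((show Γ(C, ⊤) from Coh.toGlobal (C ↘ Spec (CommRingCat.of k)) (b.repr z j)) • (M1.one ⊤ : Γ(Coh.structureModule C, ⊤))), ?_⟩
    rw [map_sum]
    conv_rhs => rw [← b.sum_repr z, map_sum]
    refine Finset.sum_congr rfl fun j _ => ?_
    rw [Scheme.Modules.Hom.app_smul, Scheme.Modules.Hom.app_smul]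
    refine Eq.trans ?_ (CurveCoh17.hh0_smul _ _).symm
    congr 1
    have hj : Sigma.ι (fun _ : Fin e => Coh.structureModule C) j ≫ ev = M1.secHom (CurveCoh17.hh0 A (b j)) :=
      Sigma.ι_desc _ j
    exact (congrArg (fun φ : Coh.structureModule C ⟶ A => φ.app ⊤ (M1.one ⊤)) hj).trans (M1.secHom_app_one _)
  have hev : ev ≠ 0 := fun h => by
    obtain ⟨w, hw⟩ := hsurj (CurveCoh17.hh0 A (b ⟨0, Nat.pos_of_ne_zero he0⟩))
    rw [h] at hw
    exact b.ne_zero _ ((AddEquiv.map_eq_zero_iff _).1 hw.symm)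
  have hA1 := (M2.isInvertible_iff_isFinLocFreeOfRank_one A).1 hA
  obtain ⟨rK, rI, -, hI, -, hle, h0, -⟩ :=
    VB17.exists_image hR.pid (M2.isFinLocFreeOfRank_freeMod C e) hA1 ev
  obtain rfl : rI = 1 := by
    have : rI ≠ 0 := fun h => hev (h0.1 h)
    omega
  let B := Abelian.image ev
  let ι : B ⟶ A := Abelian.image.ι ev
  let p : FlatMod.freeMod C e ⟶ B := Abelian.factorThruImage ev
  have hinj0 : Function.Injective (CurveCoh17.hmap k ι 0) := NumPoly18.hmap_injective_of_mono (k := k) ι
  have hinj : Function.Injective (ι.app ⊤) := fun s t h => by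
    refine (CurveCoh17.hh0 B).symm.injective (hinj0 ((CurveCoh17.hh0 A).injective ?_))
    rw [CurveCoh17.hh0_hmap, CurveCoh17.hh0_hmap, AddEquiv.apply_symm_apply, AddEquiv.apply_symm_apply]
    exact h
  have hfac : ∀ w, ι.app ⊤ (p.app ⊤ w) = ev.app ⊤ w := fun w => by
    show (p ≫ ι).app ⊤ w = _
    rw [Abelian.image.fac]
  have hp : Function.Surjective (p.app ⊤) := fun t => by
    obtain ⟨w, hw⟩ := hsurj (ι.app ⊤ t)
    exact ⟨w, hinj ((hfac w).trans hw)⟩
  have hbij : Function.Bijective (CurveCoh17.hmap k ι 0) := by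
    refine ⟨hinj0, fun z => ?_⟩
    obtain ⟨w, hw⟩ := hsurj (CurveCoh17.hh0 A z)
    refine ⟨(CurveCoh17.hh0 B).symm (p.app ⊤ w), (CurveCoh17.hh0 A).injective ?_⟩
    rw [CurveCoh17.hh0_hmap, AddEquiv.apply_symm_apply, hfac, hw]
  have hB0 : Module.finrank k (Coh.HH C B 0) = e := (LinearEquiv.ofBijective _ hbij).finrank_eq.trans he
  have hBi : PicF.IsInvertible B := (M2.isInvertible_iff_isFinLocFreeOfRank_one B).2 hI
  refine ⟨B, hBi, p, inferInstance, hp, hB0, ?_⟩
  have hdeg := (VB17.deg_le_of_mono hR.like hI hA1 ι).1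
  rw [Curv2.deg, Curv2.deg, (hR.like.adm (Snapper.isCoh_of_isInvertible hBi)).euler_eq,
    (hR.like.adm (Snapper.isCoh_of_isInvertible hA)).euler_eq, hB0, he] at hdeg
  omega

/-- A globally generated module on a curve as a quotient of a free module on the surface. -/
theorem exists_lam [IsAlgClosed k] {X C : Scheme.{u}} [X.Over (Spec (CommRingCat.of k))] [IsIntegral X]
    [Smooth (X ↘ Spec (CommRingCat.of k))] [IsProper (X ↘ Spec (CommRingCat.of k))]
    (hdim : topologicalKrullDim X = 2) [C.Over (Spec (CommRingCat.of k))] [IsIntegral C]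
    [Smooth (C ↘ Spec (CommRingCat.of k))] [IsProper (C ↘ Spec (CommRingCat.of k))]
    (i : C ⟶ X) [IsClosedImmersion i] (hi : i ≫ (X ↘ Spec (CommRingCat.of k)) = C ↘ Spec (CommRingCat.of k))
    {B : C.Modules} (hB : PicF.IsInvertible B) {e : ℕ} (p : FlatMod.freeMod C e ⟶ B) [Epi p]
    (hp : Function.Surjective (p.app ⊤)) (he : Module.finrank k (Coh.HH C B 0) = e) :
    ∃ lam : FlatMod.freeMod X e ⟶ (Coh.push i).obj B, Epi lam ∧
      Function.Bijective (CurveCoh17.hmap k lam 0) := by
  haveI : IsNoetherian X := CohFound.isNoetherian_of_isProper (X ↘ Spec (CommRingCat.of k))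
  haveI : (Coh.push i).Additive := inferInstanceAs (Scheme.Modules.pushforward i).Additive
  haveI : HasFiniteBiproducts C.Modules := HasFiniteBiproducts.of_hasFiniteProducts
  haveI : PreservesColimitsOfShape (Discrete (Fin e)) (Coh.push i) :=
    CategoryTheory.Limits.preservesCoproductsOfShape_of_preservesBiproductsOfShape _
  haveI : Epi ((Coh.push i).map p) :=
    (PP13.shortExact_push i (S := ShortComplex.mk (kernel.ι p) p (kernel.condition p))
      { exact := ShortComplex.exact_kernel p } (CurveCoh17.isCoh_of_ofRank (M2.isFinLocFreeOfRank_freeMod C e)).1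
      (Snapper.isCoh_of_isInvertible hB).1).epi_g
  let F := fun _ : Fin e => Coh.structureModule C
  haveI : Epi (ClSub.unitToPush i) := FGA3.epi_unitToPush i
  let lam : FlatMod.freeMod X e ⟶ (Coh.push i).obj B :=
    Limits.Sigma.map (fun _ => ClSub.unitToPush i) ≫ sigmaComparison (Coh.push i) F ≫ (Coh.push i).map p
  haveI hlam : Epi lam := inferInstance
  refine ⟨lam, hlam, ?_⟩
  have hι : ∀ j, Sigma.ι (fun _ : Fin e => Coh.structureModule X) j ≫ lam =
      ClSub.unitToPush i ≫ (Coh.push i).map (Sigma.ι F j ≫ p) := fun j => by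
    rw [Functor.map_comp]
    simp [lam, F]
  have hsurj : Function.Surjective (lam.app ⊤) := fun t => by
    obtain ⟨w, hw⟩ := hp t
    have hs : ∀ j : Fin e, ∃ s : Γ(X, ⊤), (i.app ⊤ s : Γ(C, ⊤)) = (prj j).app ⊤ w := fun j => by
      obtain ⟨c, hc⟩ := exists_toGlobal (k := k) (C := C) ((prj j).app ⊤ w)
      refine ⟨Coh.toGlobal (X ↘ Spec (CommRingCat.of k)) c, ?_⟩
      rw [← hc]
      simp only [← hi]
      rfl
    choose s hs using hs
    refine ⟨∑ j, (Sigma.ι (fun _ : Fin e => Coh.structureModule X) j).app ⊤ (s j), ?_⟩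
    rw [map_sum, ← hw]
    conv_rhs => rw [eq_sum_app w, map_sum]
    refine Finset.sum_congr rfl fun j _ => ?_
    show (Sigma.ι (fun _ : Fin e => Coh.structureModule X) j ≫ lam).app ⊤ (s j) = _
    rw [hι]
    show (Sigma.ι F j ≫ p).app ⊤ (i.app ⊤ (s j)) = _
    rw [hs]
    rfl
  have hsurjH : Function.Surjective (CurveCoh17.hmap k lam 0) := fun z => by
    obtain ⟨w, hw⟩ := hsurj (CurveCoh17.hh0 _ z)
    refine ⟨(CurveCoh17.hh0 _).symm w, (CurveCoh17.hh0 _).injective ?_⟩
    rw [CurveCoh17.hh0_hmap, AddEquiv.apply_symm_apply, hw]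
  haveI := CohFound.finite_HH_of_isProper (A := k) _ (M1.isCoh_structureModule X) 0
  haveI := CohFound.finite_HH_of_isProper (A := k) (X := X) _
    (CurveCoh17.isCoh_of_ofRank (M2.isFinLocFreeOfRank_freeMod X e)) 0
  obtain ⟨q⟩ := AmpleFin18.nonempty_HH_push (k := k) i hi B (Snapper.isCoh_of_isInvertible hB).1 0
  haveI := CohFound.finite_HH_of_isProper (A := k) B (Snapper.isCoh_of_isInvertible hB) 0
  haveI : Module.Finite k (Coh.HH X ((Coh.push i).obj B) 0) := CohFound.finite_HH_of_isProper _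
    (CohFound.isCoh_push_closedImm i (Snapper.isCoh_of_isInvertible hB)) 0
  refine ⟨(LinearMap.injective_iff_surjective_of_finrank_eq_finrank ?_).2 hsurjH, hsurjH⟩
  rw [LMEuler8.finrank_HH_freeMod k e 0, SurfRR10.finrank_h0_eq_one (k := k), Nat.mul_one]
  exact he.symm.trans q.finrank_eq.symm

end Groth.Agent.LMSimple8
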