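import Groth.Agent.Lib.ShStab28.Positive
import Groth.Agent.Lib.AmpleFin18.PushEuler
import Groth.Agent.Lib.CohFound.ClosedImmPush
import Groth.Agent.Lib.MumVan22.ChiTwist
import Groth.Agent.Lib.CurveAmple18.Main
import Groth.Agent.Lib.Ample18.Ample
import Groth.Agent.Lib.VB17.Proper
import Groth.Agent.Lib.Twist.Pullback

/-!
# Hilbert polynomials of sheaves on a curve in a variety
-/

set_option autoImplicit false
set_option linter.style.haveILetI false
set_option linter.unusedSectionVars false
set_option backward.isDefEq.respectTransparency false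
set_option backward.isDefEq.respectTransparency.types false
set_option maxHeartbeats 1000000

universe u

open CategoryTheory CategoryTheory.Limits AlgebraicGeometry TopologicalSpace Polynomial
open Groth.Agent.ShStab28 (hilb)

noncomputable section

namespace Groth.Agent.LMSimple8

variable {k : Type u} [Field k] {X : Scheme.{u}} [X.Over (Spec (CommRingCat.of k))]
  [IsProper (X ↘ Spec (CommRingCat.of k))]

/-- A line bundle on a curve pushed into the variety. -/
theorem hilb_push {C : Scheme.{u}} [C.Over (Spec (CommRingCat.of k))] [IsProper (C ↘ Spec (CommRingCat.of k))]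
    (hC : topologicalKrullDim C = 1) (i : C ⟶ X) [IsClosedImmersion i]
    (hi : i ≫ (X ↘ Spec (CommRingCat.of k)) = C ↘ Spec (CommRingCat.of k))
    {H : X.Modules} (hH : PicF.IsInvertible H) {N : C.Modules} (hN : PicF.IsInvertible N) :
    hilb k X H ((Coh.push i).obj N) = Polynomial.C (Curv2.euler k C N : ℚ) +
      Polynomial.C (Curv2.deg k C ((Scheme.Modules.pullback i).obj H) 1 : ℚ) * Polynomial.X := by
  refine ShStab28.hilb_eq k fun m => ?_
  have hL := VB17.curveLike (k := k) hC
  have hP := M2.isInvertible_tensorPow hH m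
  obtain ⟨p⟩ := CohFound.nonempty_push_tensor_iso i N (Snapper.isCoh_of_isInvertible hN).1 (CohB1.tensorPow H m)
    (Snapper.isCoh_of_isInvertible hP).1
  have hM : PicF.IsInvertible ((Scheme.Modules.pullback i).obj H) := Twist.isInvertible_pullback i hH
  rw [show ShStab.twist X H ((Coh.push i).obj N) m =
      CohB1.tensorMod ((Coh.push i).obj N) (CohB1.tensorPow H m) from rfl, ← CurveCoh17.euler_iso p]
  have hq : Coh.IsQCoh (CohB1.tensorMod N ((Scheme.Modules.pullback i).obj (CohB1.tensorPow H m))) :=
    M2.isQCoh_tensor (Snapper.isCoh_of_isInvertible hN).1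
      (Snapper.isCoh_of_isInvertible (Twist.isInvertible_pullback i hP)).1
  rw [AmpleFin18.euler_push i hi _ hq]
  have e : Curv2.euler k C (CohB1.tensorMod N ((Scheme.Modules.pullback i).obj (CohB1.tensorPow H m))) =
      Curv2.euler k C N + m * Curv2.deg k C ((Scheme.Modules.pullback i).obj H) 1 := by
    rw [CurveCoh17.euler_iso (M2.tensorIso (Iso.refl N) (M2.pullTensorPowIso i H m))]
    have h := hL.deg_tensor_invertible hN (M2.isInvertible_tensorPow hM m)
    rw [hL.deg_tensorPow hM, Curv2.deg, Curv2.deg] at h
    push_cast at h ⊢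
    linarith
  rw [e]
  simp
  ring

theorem hilb_freeMod {H : X.Modules} (hH : PicF.IsInvertible H) (e : ℕ) :
    hilb k X H (FlatMod.freeMod X e) = (e : ℚ) • hilb k X H (Coh.structureModule X) := by
  haveI : IsNoetherian X := CohFound.isNoetherian_of_isProper (X ↘ Spec (CommRingCat.of k))
  refine ShStab28.hilb_eq k fun m => ?_
  have hP := Snapper.isCoh_of_isInvertible (M2.isInvertible_tensorPow hH m)
  rw [Polynomial.eval_smul, ← ShStab28.hilb_spec k hH (M1.isCoh_structureModule X) m,
    show ShStab.twist X H (FlatMod.freeMod X e) m = CohB1.tensorMod (FlatMod.freeMod X e) (CohB1.tensorPow H m) from rfl,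
    ChiTwist22.euler_tensor_free hP,
    show ShStab.twist X H (Coh.structureModule X) m = CohB1.tensorMod (Coh.structureModule X) (CohB1.tensorPow H m) from rfl,
    CurveCoh17.euler_iso (M2.tensorLUnit (CohB1.tensorPow H m))]
  simp

end Groth.Agent.LMSimple8
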