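import Groth.Agent.Lib.LMSimple8.Sat4
import Groth.Agent.Lib.SecDiv18.Basic

/-!
# Extensions of ideals on a surface
-/

set_option autoImplicit false
set_option linter.style.haveILetI false
set_option linter.unusedSectionVars false
set_option backward.isDefEq.respectTransparency false
set_option backward.isDefEq.respectTransparency.types false
set_option maxHeartbeats 1600000

universe u

open CategoryTheory CategoryTheory.Limits AlgebraicGeometry TopologicalSpace Opposite

noncomputable section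

namespace Groth.Agent.LMSimple8

open Groth.Agent.RH26 (str gsp R1 InStalk Closed1)

instance {X : Scheme.{u}} (I : X.IdealSheafData) : Mono (ClSub.idealModι I) :=
  inferInstanceAs (Mono (kernel.ι (ClSub.toSubscheme I)))

/-- A coherent submodule of the structure sheaf is the ideal module of its ideal, compatibly. -/
theorem exists_idealMod_fac {X : Scheme.{u}} {D : X.Modules} (φ : D ⟶ Coh.structureModule X) [Coh.IsQCoh D] [Mono φ] :
    ∃ e : D ≅ ClSub.idealMod (SecDiv.ofMono φ), e.hom ≫ ClSub.idealModι (SecDiv.ofMono φ) = φ := by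
  let I := SecDiv.ofMono φ
  have h0 : φ ≫ ClSub.toSubscheme I = 0 := by
    refine (Scheme.Modules.hom_ext _ _ fun U => ?_)
    ext a
    choose V hV hxV hVU using fun x : U => exists_isAffineOpen_mem_and_subset (U := U) x.2
    refine M1.modules_eq_of_locally_eq _ U V hVU (fun x hx => Opens.mem_iSup.mpr ⟨⟨x, hx⟩, hxV ⟨x, hx⟩⟩) _ _
      fun x => ?_
    refine ((M1.map_app_eq (φ ≫ ClSub.toSubscheme I) (hVU x) a).symm.trans ?_).trans (map_zero _).symm
    change I.subschemeι.app (V x) (φ.app (V x) _) = 0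
    have hm : (show Γ(X, V x) from φ.app (V x) (M1.mres D (hVU x) a)) ∈ I.ideal ⟨V x, hV x⟩ := ⟨_, rfl⟩
    rw [← I.ker_subschemeι, Scheme.Hom.ker_apply] at hm
    exact RingHom.mem_ker.mp hm
  let ψ : D ⟶ ClSub.idealMod I := kernel.lift _ φ h0
  have hψ : ψ ≫ ClSub.idealModι I = φ := kernel.lift_ι _ _ _
  haveI : Mono ψ := mono_of_mono_fac hψ
  haveI : Epi ψ := by
    refine (M1.epi_iff_locally_surjective ψ).mpr fun U t x hx => ?_
    obtain ⟨W, hW, hxW, hWU⟩ := exists_isAffineOpen_mem_and_subset (U := U) hx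
    obtain ⟨b, hb⟩ := (M2.range_idealIncl I ⟨W, hW⟩).le ⟨M2.res _ hWU t, rfl⟩
    refine ⟨W, hWU, hxW, b, M2.idealIncl_injective I W (Eq.trans ?_ hb)⟩
    exact congrArg (fun g => g.app W b) hψ
  haveI : IsIso ψ := isIso_of_mono_of_epi ψ
  exact ⟨asIso ψ, hψ⟩

/-- A map of ideal modules over the structure sheaf gives an inclusion of ideals. -/
theorem le_of_fac {X : Scheme.{u}} {I J : X.IdealSheafData} (φ : ClSub.idealMod I ⟶ ClSub.idealMod J)
    (h : φ ≫ ClSub.idealModι J = ClSub.idealModι I) : I ≤ J := fun U s hs => by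
  obtain ⟨a, rfl⟩ := (M2.range_idealIncl I U).ge hs
  exact (M2.range_idealIncl J U).le ⟨φ.app U.1 a, congrArg (fun g => g.app U.1 a) h⟩

/-- A map which is onto in codimension one and starts at a closed module is an isomorphism. -/
theorem isIso_of_codim_one {X : Scheme.{u}} [IsIntegral X] [IsLocallyNoetherian X] {A K : X.Modules} (hAcl : Closed1 A)
    (hKsp : ∀ x, Function.Injective (K.presheaf.stalkSpecializes (gsp x))) (f : A ⟶ K) [Mono f]
    (hs : ∀ x : X, ringKrullDim (X.presheaf.stalk x) ≤ 1 → Function.Surjective (RefHull.stalkMapₗ f x)) : IsIso f := by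
  have hinj := (M1.mono_iff_stalk f).1 inferInstance
  have hη : Function.Surjective (RefHull.stalkMapₗ f (genericPoint X)) := hs _ (by
    rw [ringKrullDim_eq_zero_of_isField RH26.isField_η]; exact zero_le_one)
  let ef := LinearEquiv.ofBijective (RefHull.stalkMapₗ f (genericPoint X)) ⟨hinj _, hη⟩
  obtain ⟨φ, hφ⟩ := RH26.exists_hom_of_generic hAcl ef.symm.toLinearMap fun x hx a ha => by
    obtain ⟨v, hv⟩ := ha
    obtain ⟨w, rfl⟩ := hs x hx.le v
    refine ⟨w, ?_⟩
    show _ = ef.symm a
    refine ef.eq_symm_apply.2 ?_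
    rw [← hv]
    exact (RH26.stalkMapₗ_stalkSpecializes f (gsp x) w).symm
  have hfφ : f ≫ φ = 𝟙 A := by
    refine sub_eq_zero.1 (stalk_eq_zero_of_closed1 hAcl _ fun a => ?_)
    show (M1.stalkAb _).map (f ≫ φ - 𝟙 A) a = 0
    rw [Functor.map_sub, CategoryTheory.Functor.map_id]
    show RefHull.stalkMapₗ (f ≫ φ) _ a - a = 0
    rw [stalkMap_comp, hφ, sub_eq_zero]
    exact ef.symm_apply_apply a
  haveI : Mono φ := mono_of_injective_η hKsp φ (by
    rw [show (RefHull.stalkMapₗ φ (genericPoint X) : _ → _) = ef.symm from funext hφ]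
    exact ef.symm.injective)
  haveI : IsSplitEpi φ := IsSplitEpi.mk' ⟨f, hfφ⟩
  haveI : IsIso φ := isIso_of_mono_of_isSplitEpi φ
  rw [(IsIso.eq_comp_inv φ).2 hfφ]
  infer_instance

/-- Extensions of torsion free modules are torsion free. -/
theorem injective_sp_extension {X : Scheme.{u}} [IsIntegral X] {M F Q : X.Modules} (a : M ⟶ F) (b : F ⟶ Q) (w : a ≫ b = 0)
    (hex : (ShortComplex.mk a b w).ShortExact) (hM : ∀ x, Function.Injective (M.presheaf.stalkSpecializes (gsp x)))
    (hQ : ∀ x, Function.Injective (Q.presheaf.stalkSpecializes (gsp x))) (x : X) :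
    Function.Injective (F.presheaf.stalkSpecializes (gsp x)) := by
  rw [injective_iff_map_eq_zero]
  intro v hv
  have h1 : RefHull.stalkMapₗ b x v = 0 := hQ x (by
    rw [RH26.stalkMapₗ_stalkSpecializes, hv, map_zero, map_zero])
  obtain ⟨m, hm⟩ := ((Cyc26.stalkLin_exact hex x).2.1 _).1 h1
  obtain rfl : RefHull.stalkMapₗ a x m = v := hm
  rw [RH26.stalkMapₗ_stalkSpecializes] at hv
  have h2 : M.presheaf.stalkSpecializes (gsp x) m = 0 :=
    (Cyc26.stalkLin_exact hex _).1 (hv.trans (map_zero _).symm)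
  rw [hM x (h2.trans (map_zero _).symm), map_zero]

end Groth.Agent.LMSimple8
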