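import Groth.Agent.Lib.LMSimple8.Curve
import Groth.Agent.Lib.SurfRR10.Proj
import Groth.Agent.Lib.LMEuler8.HomSheaf
import Mathlib.FieldTheory.IsAlgClosed.Basic

/-!
# Simplicity of the kernel of `O^e → i_* A` on a surface with cyclic Picard group
-/

set_option autoImplicit false
set_option linter.style.haveILetI false
set_option linter.unusedSectionVars false
set_option backward.isDefEq.respectTransparency false
set_option backward.isDefEq.respectTransparency.types false
set_option maxHeartbeats 1600000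

universe u

open CategoryTheory CategoryTheory.Limits AlgebraicGeometry TopologicalSpace Opposite Matrix

noncomputable section

namespace Groth.Agent.LMSimple8

open Groth.Agent.RH26 (str gsp ordv InStalk)

variable {X C : Scheme.{u}} [IsIntegral X] [IsLocallyNoetherian X] (hX : Pi1.IsNormalScheme X)
  (hU : ∀ x : X, UniqueFactorizationMonoid (X.presheaf.stalk x)) (hf : IsField (Γ(X, ⊤) : Type u))
  (i : C ⟶ X) [IsClosedImmersion i] [IsIntegral C] (hη : genericPoint X ∉ Set.range i)
  [PicGrp.Law X] (hI : PicF.IsInvertible (ClSub.idealMod i.ker))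
  (hgen : ∀ c : PicLoc.PicSet X, ∃ n : ℤ, c = PicGrp.cls (ClSub.idealMod i.ker) hI ^ n)
  (hfree : ∀ n : ℤ, PicGrp.cls (ClSub.idealMod i.ker) hI ^ n = 1 → n = 0)
  {e : ℕ} {A : C.Modules} (hA : PicF.IsInvertible A) (lam : FlatMod.freeMod X e ⟶ (Coh.push i).obj A) [Epi lam]
  (hF : FlatMod.IsFinLocFreeOfRank e (kernel lam))
  (hno : ∀ s : Γ(kernel lam, ⊤), s = 0)

omit [PicGrp.Law X] in
open Classical in
/-- A function determinant read off at a point of codimension one. -/
theorem ord_det (hX : Pi1.IsNormalScheme X) (hη : genericPoint X ∉ Set.range i) (hA : PicF.IsInvertible A)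
    {x : X} (hx : Order.coheight x = 1)
    (b : Module.Basis (Fin e) (X.presheaf.stalk x) ((kernel lam).presheaf.stalk x)) :
    (Matrix.of fun r c => jx lam x (b c) r).det ≠ 0 ∧
    Scheme.ord (X.presheaf.stalkSpecializes (gsp x) (Matrix.of fun r c => jx lam x (b c) r).det : X.functionField) x =
      if x = i (genericPoint C) then 1 else 0 := by
  classical
  haveI := RH26.isDVR_stalk hX hx
  obtain ⟨hinj, hrange, hsurj⟩ := exact_coord lam x
  set B : Matrix (Fin e) (Fin e) (X.presheaf.stalk x) := Matrix.of fun r c => jx lam x (b c) r with hBdef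
  have hB : LinearMap.range B.mulVecLin = LinearMap.ker (rho lam x) := by
    have : B.mulVecLin = (jx lam x).comp b.equivFun.symm.toLinearMap := by
      refine LinearMap.pi_ext' fun c => LinearMap.ext_ring ?_
      funext r
      simp [B, Matrix.mulVec_single_one, Module.Basis.equivFun_symm_apply, Pi.single_apply]
    rw [this, LinearMap.range_comp_of_range_eq_top _ (LinearEquiv.range _), hrange]
  by_cases h : x = i (genericPoint C)
  · subst h
    rw [if_pos rfl]
    haveI : IsSimpleModule (X.presheaf.stalk (i (genericPoint C))) (((Coh.push i).obj A).presheaf.stalk (i (genericPoint C))) := by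
      refine Module.length_eq_one_iff.1 ((Cyc26.length_stalk_push_closedImmersion i A (genericPoint C)).trans ?_)
      obtain ⟨j⟩ := CurveCoh17.nonempty_stalk_equiv ((M2.isInvertible_iff_isFinLocFreeOfRank_one A).1 hA) (genericPoint C)
      rw [(j.trans (LinearEquiv.funUnique (Fin 1) _ _)).length_eq]
      letI := (RH26.isField_η (X := C)).toField
      exact Module.length_eq_one (C.presheaf.stalk (genericPoint C)) (C.presheaf.stalk (genericPoint C))
    obtain ⟨ϖ, hϖ⟩ := IsDiscreteValuationRing.exists_irreducible (X.presheaf.stalk (i (genericPoint C)))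
    have has := associated_det_of_simple_coker hϖ (rho lam _) hsurj B hB
    have hirr : Irreducible B.det := has.irreducible_iff.2 hϖ
    have hd0 := hirr.ne_zero
    refine ⟨hd0, ?_⟩
    have h1 : 1 ≤ Scheme.ord (X.presheaf.stalkSpecializes (gsp (i (genericPoint C))) B.det : X.functionField) (i (genericPoint C)) := by
      rw [← RH26.algebraMap_sp]
      exact RH26.one_le_ord_of_not_isUnit hX hx hd0 hirr.not_isUnit
    obtain ⟨w, hw, hwo⟩ := RH26.exists_ord_eq hX hx 1
    obtain ⟨r, hr⟩ := (RH26.inStalk_function_iff hX hx hw).2 (by omega)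
    have hr0 : r ≠ 0 := fun h0 => hw (by rw [← hr, h0, map_zero])
    have hru : ¬ IsUnit r := fun hu => by
      have := Div21F12.ord_eq_zero_of_isUnit hX hx hu
      rw [hr, hwo] at this
      exact one_ne_zero this
    obtain ⟨t, ht⟩ : ϖ ∣ r := by
      have hm := (IsLocalRing.mem_maximalIdeal r).2 hru
      rw [hϖ.maximalIdeal_eq, Ideal.mem_span_singleton] at hm
      exact hm
    obtain ⟨t', ht'⟩ : B.det ∣ r := ⟨_, by rw [ht]; exact (has.dvd.trans (dvd_mul_right ϖ t)).choose_spec⟩
    have ht0 : t' ≠ 0 := fun h0 => hr0 (by rw [ht', h0, mul_zero])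
    have hsp0 : ∀ z : X.presheaf.stalk (i (genericPoint C)), z ≠ 0 →
        (X.presheaf.stalkSpecializes (gsp (i (genericPoint C))) z : X.functionField) ≠ 0 :=
      fun z hz hz' => hz (RH26.sp_injective _ (hz'.trans (map_zero _).symm))
    have hm := Scheme.ord_mul (x := i (genericPoint C)) (hsp0 _ hd0) (hsp0 _ ht0)
    have hle : 0 ≤ Scheme.ord (X.presheaf.stalkSpecializes (gsp (i (genericPoint C))) t' : X.functionField) (i (genericPoint C)) :=
      (RH26.inStalk_function_iff hX hx (hsp0 _ ht0)).1 ⟨t', rfl⟩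
    rw [ht', map_mul] at hr
    rw [show (X.presheaf.stalkSpecializes (gsp (i (genericPoint C))) B.det : X.functionField) *
      X.presheaf.stalkSpecializes (gsp (i (genericPoint C))) t' = w from hr, hwo] at hm
    omega
  · rw [if_neg h]
    have hxr : x ∉ Set.range i := fun hxr => h (eq_of_mem_range i hη hx hxr)
    haveI := Cyc26.subsingleton_stalk_push i A ⟨(Set.range i)ᶜ, i.isClosedEmbedding.isClosed_range.isOpen_compl⟩
      hxr fun z hz => hz ⟨z, rfl⟩
    have hsurjB : Function.Surjective B.mulVecLin := fun v =>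
      LinearMap.mem_range.1 (hB.ge (LinearMap.mem_ker.2 (Subsingleton.elim _ _)))
    have hu : IsUnit B.det := (Matrix.isUnit_iff_isUnit_det B).1 (Matrix.mulVec_surjective_iff_isUnit.1 hsurjB)
    exact ⟨hu.ne_zero, Div21F12.ord_eq_zero_of_isUnit hX hx hu⟩

include hX hU hf hη hI hgen hfree hA hF hno in
/-- An endomorphism which is not injective at the generic point is zero. -/
theorem eq_zero_of_not_injective (φ : kernel lam ⟶ kernel lam)
    (hφ : ¬ Function.Injective (RefHull.stalkMapₗ φ (genericPoint X))) : φ = 0 := by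
  classical
  by_contra hne
  let F := kernel lam
  let η := genericPoint X
  letI : Module X.functionField (F.presheaf.stalk η) :=
    inferInstanceAs (Module (X.presheaf.stalk η) (F.presheaf.stalk η))
  let φη : F.presheaf.stalk η →ₗ[X.functionField] F.presheaf.stalk η := RefHull.stalkMapₗ φ η
  -- coordinates at the generic point
  obtain ⟨hji, hjr, -⟩ := exact_coord lam η
  haveI := Cyc26.subsingleton_stalk_push i A ⟨(Set.range i)ᶜ, i.isClosedEmbedding.isClosed_range.isOpen_compl⟩
    hη fun z hz => hz ⟨z, rfl⟩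
  have hjs : Function.Surjective (jx lam η) := fun v =>
    LinearMap.mem_range.1 (hjr.ge (LinearMap.mem_ker.2 (Subsingleton.elim _ _)))
  let jη : F.presheaf.stalk η ≃ₗ[X.functionField] (Fin e → X.functionField) :=
    LinearEquiv.ofBijective (jx lam η) ⟨hji, hjs⟩
  haveI : FiniteDimensional X.functionField (F.presheaf.stalk η) := Module.Finite.equiv jη.symm
  let n := Module.finrank X.functionField (LinearMap.ker φη)
  let g := Module.finrank X.functionField (LinearMap.range φη)
  have hdimV : Module.finrank X.functionField (F.presheaf.stalk η) = e := by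
    rw [jη.finrank_eq, Module.finrank_fin_fun]
  have hng : g + n = e := (φη.finrank_range_add_finrank_ker).trans hdimV
  have hn : 0 < n := by
    rw [Module.finrank_pos_iff, Submodule.nontrivial_iff_ne_bot]
    exact fun h => hφ (LinearMap.ker_eq_bot.1 h)
  have hg : 0 < g := by
    rw [Module.finrank_pos_iff, Submodule.nontrivial_iff_ne_bot]
    intro h
    refine hne (RankTwo11.eq_zero_of_stalk_eq_zero hF hF φ fun a => ?_)
    exact LinearMap.congr_fun (LinearMap.range_eq_bot.1 h) a
  -- coordinate projections adapted to kernel and image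
  obtain ⟨σK', hσK'⟩ := exists_proj ((LinearMap.ker φη).map jη.toLinearMap)
  obtain ⟨σI', hσI'⟩ := exists_proj ((LinearMap.range φη).map jη.toLinearMap)
  let eK := (Submodule.equivMapOfInjective jη.toLinearMap jη.injective (LinearMap.ker φη))
  let eI := (Submodule.equivMapOfInjective jη.toLinearMap jη.injective (LinearMap.range φη))
  let σK : Fin n → Fin e := σK' ∘ Fin.cast eK.finrank_eq
  let σI : Fin g → Fin e := σI' ∘ Fin.cast eI.finrank_eq
  have hPK : Function.Bijective fun (w : LinearMap.ker φη) (j : Fin n) => jη (w : F.presheaf.stalk η) (σK j) :=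
    (((finCongr eK.finrank_eq.symm).arrowCongr (Equiv.refl _)).bijective.comp hσK').comp eK.bijective
  have hPI : Function.Bijective fun (w : LinearMap.range φη) (j : Fin g) => jη (w : F.presheaf.stalk η) (σI j) :=
    (((finCongr eI.finrank_eq.symm).arrowCongr (Equiv.refl _)).bijective.comp hσI').comp eI.bijective
  let eps : Fin n ⊕ Fin g ≃ Fin e := finSumFinEquiv.trans (finCongr ((Nat.add_comm n g).trans hng))
  let T : (Fin e → X.functionField) →ₗ[X.functionField] (Fin e → X.functionField) :=
    LinearMap.pi fun r => Sum.elim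
      (fun j => (LinearMap.proj (σK j)))
      (fun j => (LinearMap.proj (σI j)).comp (jη.toLinearMap.comp (φη.comp jη.symm.toLinearMap))) (eps.symm r)
  have hTl : ∀ (v : F.presheaf.stalk η) (j : Fin n), T (jη v) (eps (Sum.inl j)) = jη v (σK j) := fun v j => by
    simp [T]
  have hTr : ∀ (v : F.presheaf.stalk η) (j : Fin g), T (jη v) (eps (Sum.inr j)) = jη (φη v) (σI j) := fun v j => by
    simp [T]
  have hTinj : Function.Injective T := by
    rw [injective_iff_map_eq_zero]
    intro w hw
    obtain ⟨v, rfl⟩ := jη.surjective w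
    have h1 : φη v = 0 := congrArg Subtype.val (hPI.1 (a₁ := ⟨φη v, v, rfl⟩) (a₂ := 0) (funext fun j => by
      simpa [hTr] using congrFun hw (eps (Sum.inr j))))
    have h2 : v = 0 := congrArg Subtype.val (hPK.1 (a₁ := ⟨v, LinearMap.mem_ker.2 h1⟩) (a₂ := 0) (funext fun j => by
      simpa [hTl] using congrFun hw (eps (Sum.inl j))))
    rw [h2, map_zero]
  let f : X.functionField := LinearMap.det T
  have hf0 : f ≠ 0 := fun h0 => (LinearMap.det_eq_zero_iff_ker_ne_bot (f := T)).1 h0 (LinearMap.ker_eq_bot.2 hTinj)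
  -- lattices at points of codimension one
  have key : ∀ x : X, Order.coheight x = 1 → ∃ (AK : Matrix (Fin n) (Fin n) (X.presheaf.stalk x))
      (AI : Matrix (Fin g) (Fin g) (X.presheaf.stalk x)) (u : Fin n → F.presheaf.stalk x) (w : Fin g → F.presheaf.stalk x),
      AK.det ≠ 0 ∧ AI.det ≠ 0 ∧ (∀ j, RefHull.stalkMapₗ φ x (u j) = 0) ∧
      (∀ r j, AK r j = jx lam x (u j) (σK r)) ∧ (∀ r j, AI r j = jx lam x (RefHull.stalkMapₗ φ x (w j)) (σI r)) ∧
      Scheme.ord (X.presheaf.stalkSpecializes (gsp x) AK.det : X.functionField) x +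
        Scheme.ord (X.presheaf.stalkSpecializes (gsp x) AI.det : X.functionField) x =
          (if x = i (genericPoint C) then 1 else 0) + Scheme.ord f x := by
    intro x hx
    haveI := RH26.isDVR_stalk hX hx
    letI : Module (X.presheaf.stalk x) (F.presheaf.stalk η) :=
      Module.compHom _ (algebraMap (X.presheaf.stalk x) X.functionField)
    haveI : IsScalarTower (X.presheaf.stalk x) X.functionField (F.presheaf.stalk η) :=
      ⟨fun r z v => by rw [Algebra.smul_def, mul_smul]; rfl⟩
    let σ : F.presheaf.stalk x →ₗ[X.presheaf.stalk x] F.presheaf.stalk η :=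
      { toFun := fun v => F.presheaf.stalkSpecializes (gsp x) v
        map_add' := map_add _
        map_smul' := fun r v => by
          rw [Cyc26.stalkSpecializes_smul]
          exact congrArg (fun z : X.functionField => z • (F.presheaf.stalkSpecializes (gsp x) v : F.presheaf.stalk η))
            (RH26.algebraMap_sp x r).symm }
    have hjs' : ∀ (v : F.presheaf.stalk x) (r : Fin e),
        jη (σ v) r = X.presheaf.stalkSpecializes (gsp x) (jx lam x v r) := fun v r => jx_sp lam (gsp x) v r
    have hσinj : Function.Injective σ := fun v w h => (exact_coord lam x).1 (funext fun r => RH26.sp_injective x (by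
      rw [← hjs', ← hjs', h]))
    obtain ⟨b0⟩ := CurveCoh17.nonempty_stalk_equiv hF x
    obtain ⟨b, hb0, hbK, hbI⟩ := exists_adapted (K := X.functionField) (Module.Basis.ofEquivFun b0)
      (by rw [Fintype.card_fin, hdimV]) σ hσinj φη (RefHull.stalkMapₗ φ x) (fun v => (stalkMap_sp φ (gsp x) v).symm)
    let u : Fin n → F.presheaf.stalk x := fun j => b (Sum.inl j)
    let w : Fin g → F.presheaf.stalk x := fun j => b (Sum.inr j)
    let AK : Matrix (Fin n) (Fin n) (X.presheaf.stalk x) := Matrix.of fun r j => jx lam x (u j) (σK r)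
    let AI : Matrix (Fin g) (Fin g) (X.presheaf.stalk x) :=
      Matrix.of fun r j => jx lam x (RefHull.stalkMapₗ φ x (w j)) (σI r)
    let b' := b.reindex eps
    let B : Matrix (Fin e) (Fin e) (X.presheaf.stalk x) := Matrix.of fun r c => jx lam x (b' c) r
    obtain ⟨hB0, hBord⟩ := ord_det i lam hX hη hA hx b'
    let spx : X.presheaf.stalk x →+* X.functionField := (X.presheaf.stalkSpecializes (gsp x)).hom
    have hmat : Matrix.fromBlocks (AK.map spx) (Matrix.of fun r j => spx (jx lam x (w j) (σK r))) 0 (AI.map spx) =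
        ((LinearMap.toMatrix' T) * B.map spx).submatrix eps eps := by
      have hprod : ∀ R c, ((LinearMap.toMatrix' T) * B.map spx) R c = T (jη (σ (b' c))) R := fun R c => by
        rw [show jη (σ (b' c)) = fun r => spx (B r c) from funext fun r => hjs' (b' c) r,
          ← LinearMap.toMatrix'_mulVec]
        rfl
      have hφσ : ∀ v : F.presheaf.stalk x, φη (σ v) = σ (RefHull.stalkMapₗ φ x v) := fun v => stalkMap_sp φ (gsp x) v
      ext R c
      rw [Matrix.submatrix_apply, hprod]
      have hbc : b' (eps c) = b c := by rw [Module.Basis.reindex_apply, Equiv.symm_apply_apply]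
      rw [hbc]
      rcases R with r | r <;> rcases c with j | j
      · rw [hTl, hjs']; rfl
      · rw [hTl, hjs']; rfl
      · rw [hTr, hφσ, hb0, map_zero, map_zero]; rfl
      · rw [hTr, hφσ, hjs']; rfl
    have hdet : spx AK.det * spx AI.det = f * spx B.det := by
      have h := congrArg Matrix.det hmat
      rw [Matrix.det_fromBlocks_zero₂₁, Matrix.det_submatrix_equiv_self, Matrix.det_mul, LinearMap.det_toMatrix'] at h
      rw [RingHom.map_det, RingHom.map_det, RingHom.map_det]
      exact h
    have hsp0 : ∀ z : X.presheaf.stalk x, z ≠ 0 → (spx z : X.functionField) ≠ 0 :=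
      fun z hz hz' => hz (RH26.sp_injective _ (hz'.trans (map_zero spx).symm))
    have hne2 : spx AK.det * spx AI.det ≠ 0 := by rw [hdet]; exact mul_ne_zero hf0 (hsp0 _ hB0)
    have hK0 : AK.det ≠ 0 := fun h => hne2 (by rw [h, map_zero, zero_mul])
    have hI0 : AI.det ≠ 0 := fun h => hne2 (by rw [h, map_zero, mul_zero])
    refine ⟨AK, AI, u, w, hK0, hI0, hb0, fun r j => rfl, fun r j => rfl, ?_⟩
    have h1 := Scheme.ord_mul (x := x) (hsp0 _ hK0) (hsp0 _ hI0)
    rw [hdet, Scheme.ord_mul hf0 (hsp0 _ hB0)] at h1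
    rw [← hBord, add_comm _ (Scheme.ord f x)]
    exact h1.symm
  choose AK AI u w hK0 hI0 hu hAK hAI hsum using key
  let D₁ : X → ℤ := fun x => if h : Order.coheight x = 1 then
    Scheme.ord (X.presheaf.stalkSpecializes (gsp x) (AK x h).det : X.functionField) x else 0
  let D₂ : X → ℤ := fun x => if h : Order.coheight x = 1 then
    Scheme.ord (X.presheaf.stalkSpecializes (gsp x) (AI x h).det : X.functionField) x else 0
  have hnn : ∀ x (h : Order.coheight x = 1) (z : X.presheaf.stalk x), z ≠ 0 →
      0 ≤ Scheme.ord (X.presheaf.stalkSpecializes (gsp x) z : X.functionField) x := fun x h z hz =>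
    (RH26.inStalk_function_iff hX h fun h' => hz (RH26.sp_injective _ (h'.trans (map_zero _).symm))).1 ⟨z, rfl⟩
  have hunit : ∀ x (h : Order.coheight x = 1) (z : X.presheaf.stalk x), z ≠ 0 →
      Scheme.ord (X.presheaf.stalkSpecializes (gsp x) z : X.functionField) x = 0 → IsUnit z := fun x h z hz h0 => by
    by_contra hnu
    have := RH26.one_le_ord_of_not_isUnit hX h hz hnu
    rw [RH26.algebraMap_sp, h0] at this
    omega
  -- cycles
  obtain ⟨Ef, hEf0, hEf⟩ := (RH26.R1.structureModule hX).exists_cycle (a := f • str η 1) (fun h0 => hf0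
    ((RH26.gen_of_equiv (str η)).1 (show (f : X.presheaf.stalk η) • str η 1 = (0 : X.presheaf.stalk η) • str η 1 by
      rw [zero_smul]; exact h0)))
  have hsub : ∀ x, D₁ x ≠ 0 ∨ D₂ x ≠ 0 → x = i (genericPoint C) ∨ Ef x ≠ 0 := by
    intro x hx
    by_cases h : Order.coheight x = 1
    · by_contra hcon
      push Not at hcon
      have hs := hsum x h
      rw [if_neg hcon.1, ← Div21F12.ordv_structure h hf0, ← hEf x h, hcon.2] at hs
      have a1 := hnn x h _ (hK0 x h)
      have a2 := hnn x h _ (hI0 x h)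
      simp only [D₁, D₂, dif_pos h] at hx
      omega
    · simp [D₁, D₂, dif_neg h] at hx
  have hfin : ∀ D : X → ℤ, (∀ x, D x ≠ 0 → x = i (genericPoint C) ∨ Ef x ≠ 0) →
      ∀ z : X, ∃ t ∈ nhds z, Set.Finite (t ∩ Function.support D) := by
    intro D hD z
    obtain ⟨t, ht, htf⟩ := Ef.supportLocallyFiniteWithinDomain' z trivial
    refine ⟨t, ht, (htf.union (Set.finite_singleton (i (genericPoint C)))).subset ?_⟩
    rintro y ⟨hy, hyD⟩
    rcases hD y hyD with rfl | h
    · exact Or.inr rfl
    · exact Or.inl ⟨hy, h⟩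
  let E₁ : AlgebraicCycle X ℤ := ⟨D₁, Set.subset_univ _,
    fun z _ => hfin D₁ (fun x hx => hsub x (Or.inl hx)) z⟩
  let E₂ : AlgebraicCycle X ℤ := ⟨D₂, Set.subset_univ _,
    fun z _ => hfin D₂ (fun x hx => hsub x (Or.inr hx)) z⟩
  -- sections from trivial divisors
  have hclosed : ∀ (a : F.presheaf.stalk η), (∀ x, Order.coheight x = 1 → InStalk F x a) → a = 0 := by
    intro a ha
    have hFc : Coh.IsCoh F := CurveCoh17.isCoh_of_ofRank hF
    have hrefl : ∀ y : X, RefHull.IsReflexiveAt F y := fun y => by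
      obtain ⟨j⟩ := CurveCoh17.nonempty_stalk_equiv hF y
      haveI : Module.Finite (X.presheaf.stalk y) (F.presheaf.stalk y) := Module.Finite.equiv j.symm
      haveI := Module.Free.of_equiv j.symm
      show Module.IsReflexive (X.presheaf.stalk y) (F.presheaf.stalk y)
      infer_instance
    obtain ⟨s, hs⟩ := RH26.exists_section_of_inStalk (F := F) ⊤
      (fun y _ => RH26.injective_sp_of_isReflexiveAt hFc (hrefl y)) a fun y _ =>
      RH26.inStalk_of_isReflexiveAt hX hFc (hrefl y) fun z _ h1 => ha z ((RH26.dim_eq_one_iff z).1 h1)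
    rw [← hs η trivial, hno s, map_zero, map_zero]
  have hsolve : ∀ {m : ℕ} {x : X} (_ : Order.coheight x = 1) (M : Matrix (Fin m) (Fin m) (X.presheaf.stalk x))
      (_ : IsUnit M.det) (r₀ : Fin m), ∃ c : Fin m → X.presheaf.stalk x, ∀ r, ∑ j, c j * M r j = if r = r₀ then 1 else 0 := by
    intro m x _ M hM r₀
    refine ⟨M⁻¹ *ᵥ Pi.single r₀ 1, fun r => ?_⟩
    have h := congrFun (show M *ᵥ (M⁻¹ *ᵥ Pi.single r₀ 1) = Pi.single r₀ 1 by
      rw [Matrix.mulVec_mulVec, Matrix.mul_nonsing_inv _ hM, Matrix.one_mulVec]) r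
    rw [Pi.single_apply] at h
    rw [← h]
    exact Finset.sum_congr rfl fun j _ => mul_comm _ _
  have hne₁ : ∃ x, Order.coheight x = 1 ∧ D₁ x ≠ 0 := by
    by_contra hcon
    push Not at hcon
    obtain ⟨⟨v, hv⟩, hv1⟩ := hPK.2 fun r => if r = ⟨0, hn⟩ then 1 else 0
    have hv0 : v ≠ 0 := fun h0 => by
      have := congrFun hv1 ⟨0, hn⟩
      simp [h0] at this
    refine hv0 (hclosed v fun x hx => ?_)
    have h0 := hcon x hx
    simp only [D₁, dif_pos hx] at h0
    obtain ⟨c, hc⟩ := hsolve hx (AK x hx) (hunit x hx _ (hK0 x hx) h0) ⟨0, hn⟩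
    refine ⟨∑ j, c j • u x hx j, ?_⟩
    let z : F.presheaf.stalk x := ∑ j, c j • u x hx j
    have hz : RefHull.stalkMapₗ φ x z = 0 := by simp [z, hu]
    have hzk : φη (F.presheaf.stalkSpecializes (gsp x) z) = 0 := by
      show RefHull.stalkMapₗ φ η _ = 0
      rw [stalkMap_sp, hz, map_zero]
    refine congrArg Subtype.val (hPK.1 (a₁ := ⟨_, LinearMap.mem_ker.2 hzk⟩) (a₂ := ⟨v, hv⟩) ((funext fun r => ?_).trans hv1.symm))
    show jx lam η (F.presheaf.stalkSpecializes (gsp x) z) (σK r) = _
    rw [jx_sp]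
    have : jx lam x z (σK r) = if r = ⟨0, hn⟩ then 1 else 0 := by
      rw [← hc r]
      simp [z, hAK, Finset.sum_apply]
    rw [this]
    split_ifs <;> simp
  have hne₂ : ∃ x, Order.coheight x = 1 ∧ D₂ x ≠ 0 := by
    by_contra hcon
    push Not at hcon
    obtain ⟨⟨v, hv⟩, hv1⟩ := hPI.2 fun r => if r = ⟨0, hg⟩ then 1 else 0
    have hv0 : v ≠ 0 := fun h0 => by
      have := congrFun hv1 ⟨0, hg⟩
      simp [h0] at this
    refine hv0 (hclosed v fun x hx => ?_)
    have h0 := hcon x hx
    simp only [D₂, dif_pos hx] at h0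
    obtain ⟨c, hc⟩ := hsolve hx (AI x hx) (hunit x hx _ (hI0 x hx) h0) ⟨0, hg⟩
    let z : F.presheaf.stalk x := ∑ j, c j • w x hx j
    refine ⟨RefHull.stalkMapₗ φ x z, ?_⟩
    have hzr : F.presheaf.stalkSpecializes (gsp x) (RefHull.stalkMapₗ φ x z) ∈ LinearMap.range φη :=
      ⟨F.presheaf.stalkSpecializes (gsp x) z, stalkMap_sp φ (gsp x) z⟩
    refine congrArg Subtype.val (hPI.1 (a₁ := ⟨_, hzr⟩) (a₂ := ⟨v, hv⟩) ((funext fun r => ?_).trans hv1.symm))
    show jx lam η (F.presheaf.stalkSpecializes (gsp x) (RefHull.stalkMapₗ φ x z)) (σI r) = _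
    rw [jx_sp]
    have : jx lam x (RefHull.stalkMapₗ φ x z) (σI r) = if r = ⟨0, hg⟩ then 1 else 0 := by
      rw [← hc r]
      simp [z, hAI, Finset.sum_apply]
    rw [this]
    split_ifs <;> simp
  obtain ⟨M, hM, eIM, a, ha, hι, ha1, hξ, ha2⟩ := exists_curve_data hX i hη hI hfree
  haveI : Mono (ClSub.idealModι i.ker) := inferInstanceAs (Mono (kernel.ι (ClSub.toSubscheme i.ker)))
  refine false_of_two (M := M) hX hU hf hI hM eIM (ClSub.idealModι i.ker) hι hfree (φ := 0) ha hgen ha1 ha2 E₁ E₂
    (fun x hx => ?_) (fun x hx => ?_) hne₁ hne₂ hf0 fun x hx => ⟨fun h => ?_, fun h => ?_⟩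
  · show 0 ≤ D₁ x
    simp only [D₁, dif_pos hx]
    exact hnn x hx _ (hK0 x hx)
  · show 0 ≤ D₂ x
    simp only [D₂, dif_pos hx]
    exact hnn x hx _ (hI0 x hx)
  · show D₁ x + D₂ x = _
    simp only [D₁, D₂, dif_pos hx]
    rw [hsum x hx, if_pos h]
  · show D₁ x + D₂ x = _
    simp only [D₁, D₂, dif_pos hx]
    rw [hsum x hx, if_neg h, zero_add]

end Groth.Agent.LMSimple8
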