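import Groth.Agent.Lib.LMSimple8.PowVanish
import Groth.Agent.Lib.LMSimple8.ExtDual
import Groth.Agent.Lib.LMSimple8.FinSupp
import Mathlib.Algebra.Homology.DerivedCategory.Ext.MapBijective
import Groth.Agent.Lib.FMHyp13.HyperSupp
import Groth.Agent.Lib.VB17.Pair

/-!
# Extensions pulled back from larger modules
-/

set_option autoImplicit false
set_option linter.style.haveILetI false
set_option linter.unusedSectionVars false
set_option backward.isDefEq.respectTransparency false
set_option backward.isDefEq.respectTransparency.types false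
set_option maxHeartbeats 1600000

universe u v w

open CategoryTheory CategoryTheory.Limits AlgebraicGeometry TopologicalSpace StabCat
open Groth.Agent.ShStab28 (hilb)

noncomputable section

namespace Groth.Agent.LMSimple8

open Groth.Agent.RH26 (str gsp R1 InStalk Closed1)

/-- The pullback of a short exact sequence. -/
theorem shortExact_pullback {C : Type v} [Category.{w} C] [Abelian C] {A B D E : C} (a : A ⟶ B) (b : B ⟶ D)
    (h : a ≫ b = 0) (hS : (ShortComplex.mk a b h).ShortExact) (g : E ⟶ D) :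
    ∃ (w : pullback.lift a 0 (by rw [h, zero_comp]) ≫ pullback.snd b g = 0),
      (ShortComplex.mk (pullback.lift a 0 (by rw [h, zero_comp]) : A ⟶ pullback b g) (pullback.snd b g) w).ShortExact := by
  haveI : Mono a := hS.mono_f
  haveI : Epi b := hS.epi_g
  haveI : Mono (pullback.lift a (0 : A ⟶ E) (by rw [h, zero_comp]) : A ⟶ pullback b g) :=
    mono_of_mono_fac (pullback.lift_fst _ _ _)
  haveI : Epi (pullback.snd b g) := Abelian.epi_pullback_of_epi_f b g
  refine ⟨pullback.lift_snd _ _ _, ShortComplex.ShortExact.mk ?_⟩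
  haveI : Mono (ShortComplex.mk a b h).f := hS.mono_f
  refine ShortComplex.exact_of_f_is_kernel _ (KernelFork.IsLimit.ofι' _ _ fun {T} t ht =>
    ⟨hS.exact.lift (t ≫ pullback.fst b g) (show (t ≫ pullback.fst b g) ≫ b = 0 by
      rw [Category.assoc, pullback.condition, reassoc_of% ht, zero_comp]), ?_⟩)
  refine pullback.hom_ext ?_ ?_
  · rw [Category.assoc, pullback.lift_fst]
    exact hS.exact.lift_f _ _
  · rw [Category.assoc, pullback.lift_snd, CategoryTheory.Limits.comp_zero, ht]

/-- Tensoring is linear. -/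
theorem linear_tensorR {k : Type u} [Field k] {X : Scheme.{u}} [X.Over (Spec (CommRingCat.of k))] (M : X.Modules) :
    (M2.tensorR M).Linear k := by
  refine (Functor.linear_iff k _).mpr fun N a => ?_
  rw [KLin.smul_id, KLin.smul_id]
  exact CurveCoh17.tensorMap_smulModΓ N M _

variable {k : Type u} [Field k] [IsAlgClosed k] [CharZero k] {X : Scheme.{u}} [X.Over (Spec (CommRingCat.of k))]
  [IsProper (X ↘ Spec (CommRingCat.of k))] [IsIntegral X] [Smooth (X ↘ Spec (CommRingCat.of k))]
  (hdim : topologicalKrullDim X = 2) {G : X.Modules} (hG : CohB1.IsAmple G)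
  (hK : ExtPow.IsExtPow 2 (Omega.sheaf (X ↘ Spec (CommRingCat.of k))) (Coh.structureModule X))
  [PicGrp.Law X] (hgen : ∀ c : PicLoc.PicSet X, ∃ n : ℤ, c = PicGrp.cls G hG.1 ^ n)
  (hq : Module.finrank k (Coh.HH X (Coh.structureModule X) 1) = 0) [HasExt.{u} X.Modules]
include k hdim hG hK hgen hq

/-- Extensions between invertible modules vanish. -/
theorem finrank_ext_invertible {L L' : X.Modules} (hL : PicF.IsInvertible L) (hL' : PicF.IsInvertible L') :
    Module.finrank k (Abelian.Ext L' L 1) = 0 := by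
  haveI : IsNoetherian X := CohFound.isNoetherian_of_isProper (X ↘ Spec (CommRingCat.of k))
  haveI : SmoothOfRelativeDimension 2 (X ↘ Spec (CommRingCat.of k)) := SurfRR10.smoothRelDim (k := k) hdim
  obtain ⟨e⟩ := ProjDual12.nonempty_ext_linearEquiv_HH (k := k) (M2.isFinLocFree_of_isInvertible hL') L 1
  rw [e.finrank_eq]
  obtain ⟨Q, hQ, ⟨eQ⟩⟩ := M2.exists_inverse hL'
  obtain ⟨j⟩ := ProjDual12.nonempty_ihom_invertible_iso (L' := Q) hL' (M2.tensorComm _ _ ≪≫ eQ) L
  rw [(CurveCoh17.hequiv k j 1).finrank_eq]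
  have hM := M2.isInvertible_tensor hL hQ
  obtain ⟨n, hn⟩ := hgen (PicGrp.cls _ hM)
  rcases Int.eq_nat_or_neg n with ⟨d, rfl | rfl⟩
  · obtain ⟨R, hR, ⟨eR⟩⟩ := M2.exists_inverse hM
    rw [SerreDual8.finrank_duality 2 hK hM (M2.tensorComm _ _ ≪≫ eR) (p := 1) (by omega),
      (CurveCoh17.hequiv k (M2.tensorLUnit R) (2 - 1)).finrank_eq]
    haveI : Subsingleton (Coh.HH X R 1) := subsingleton_h1_neg_pow hdim hG hK hgen hq (n := d) hR (by
      have h := (PicGrp.cls_mul_cls_eq_one_iff hR hM).2 ⟨M2.tensorComm _ _ ≪≫ eR⟩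
      rw [hn, zpow_natCast] at h
      exact eq_inv_of_mul_eq_one_left h)
    exact Module.finrank_zero_of_subsingleton
  · haveI := subsingleton_h1_neg_pow hdim hG hK hgen hq (n := d) hM (by rw [hn, zpow_neg, zpow_natCast])
    exact Module.finrank_zero_of_subsingleton

omit hgen hq in
/-- Extensions of degree two out of a simple module by a line bundle. -/
theorem finrank_ext_two_simple {L T : X.Modules} (hL : PicF.IsInvertible L) (hT : Coh.IsCoh T) {Li : X.Modules}
    (hLi : PicF.IsInvertible Li) (e : CohB1.tensorMod L Li ≅ Coh.structureModule X)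
    (hd : (hilb k X G (CohB1.tensorMod T Li)).natDegree = 0) (hs : IsSimpleCoh (CohB1.tensorMod T Li)) :
    Module.finrank k (Abelian.Ext T L 2) = 1 := by
  haveI : IsNoetherian X := CohFound.isNoetherian_of_isProper (X ↘ Spec (CommRingCat.of k))
  haveI : SmoothOfRelativeDimension 2 (X ↘ Spec (CommRingCat.of k)) := SurfRR10.smoothRelDim (k := k) hdim
  have hT' : Coh.IsCoh (CohB1.tensorMod T Li) := CurveCoh17.isCoh_tensor hT (Snapper.isCoh_of_isInvertible hLi)
  have h1 := finrank_h0_simple hG hT' hd hs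
  rw [finrank_ext_duality 2 hK hT' (p := 0) (by omega)] at h1
  let F := M2.tensorR Li
  haveI : F.IsEquivalence := VB17.isEquivalence_tensorR hLi
  haveI : PreservesFiniteLimits F := inferInstance
  haveI : PreservesFiniteColimits F := inferInstance
  haveI : F.PreservesInjectiveObjects :=
    Functor.preservesInjectiveObjects_of_adjunction_of_preservesMonomorphisms F.asEquivalence.symm.toAdjunction
  haveI : F.Linear k := linear_tensorR (k := k) Li
  let l₁ : Abelian.Ext T L 2 ≃ₗ[k] Abelian.Ext (F.obj T) (F.obj L) 2 :=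
    LinearEquiv.ofBijective (F.mapExtLinearMap k T L 2) (F.mapExt_bijective_of_preservesInjectiveObjects T L 2)
  let e' : F.obj L ≅ Coh.structureModule X := e
  have hb : Function.Bijective ((Abelian.Ext.mk₀ e'.hom).postcompOfLinear k (F.obj T) (add_zero 2)) := by
    refine Function.bijective_iff_has_inverse.2
      ⟨(Abelian.Ext.mk₀ e'.inv).postcompOfLinear k (F.obj T) (add_zero 2), fun z => ?_, fun z => ?_⟩
    · show (z.comp (Abelian.Ext.mk₀ e'.hom) (add_zero 2)).comp (Abelian.Ext.mk₀ e'.inv) (add_zero 2) = z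
      rw [Abelian.Ext.comp_assoc_of_third_deg_zero, Abelian.Ext.mk₀_comp_mk₀, e'.hom_inv_id, Abelian.Ext.comp_mk₀_id]
    · show (z.comp (Abelian.Ext.mk₀ e'.inv) (add_zero 2)).comp (Abelian.Ext.mk₀ e'.hom) (add_zero 2) = z
      rw [Abelian.Ext.comp_assoc_of_third_deg_zero, Abelian.Ext.mk₀_comp_mk₀, e'.inv_hom_id, Abelian.Ext.comp_mk₀_id]
  rw [(l₁ ≪≫ₗ LinearEquiv.ofBijective _ hb).finrank_eq]
  exact h1

/-- A two dimensional space of extensions contains a nonzero class coming from a larger module. -/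
theorem exists_class {L L' N : X.Modules} (hL : PicF.IsInvertible L) (hL' : PicF.IsInvertible L') (ι : N ⟶ L') [Mono ι]
    (hN : Coh.IsCoh N) (hZ : topologicalKrullDim (CohB1.support (cokernel ι)) ≤ 0)
    (h2 : 2 ≤ Module.finrank k (Abelian.Ext N L 1)) :
    ∃ (N' : X.Modules) (φ : N ⟶ N') (ι' : N' ⟶ L') (e : Abelian.Ext N' L 1), Mono φ ∧ Mono ι' ∧ Coh.IsCoh N' ∧
      φ ≫ ι' = ι ∧ ¬ IsIso φ ∧ (Abelian.Ext.mk₀ φ).comp e (zero_add 1) ≠ 0 := by
  haveI : IsNoetherian X := CohFound.isNoetherian_of_isProper (X ↘ Spec (CommRingCat.of k))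
  let Y := ShStab28.sys k X G hG.1 (ShStab28.positive k hG)
  have hL'c := Snapper.isCoh_of_isInvertible hL'
  have hC : Coh.IsCoh (cokernel ι) := Y.ok_coker ι hN hL'c
  have hC0 : ¬ IsZero (cokernel ι) := fun hz => by
    haveI : Epi ι := Preadditive.epi_of_cokernel_zero (hz.eq_of_tgt _ _)
    haveI : IsIso ι := isIso_of_mono_of_epi ι
    have hb : Function.Bijective ((Abelian.Ext.mk₀ ι).precompOfLinear k L (zero_add 1)) := by
      refine Function.bijective_iff_has_inverse.2
        ⟨(Abelian.Ext.mk₀ (inv ι)).precompOfLinear k L (zero_add 1), fun z => ?_, fun z => ?_⟩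
      · show (Abelian.Ext.mk₀ (inv ι)).comp ((Abelian.Ext.mk₀ ι).comp z (zero_add 1)) (zero_add 1) = z
        rw [Abelian.Ext.mk₀_comp_mk₀_assoc, IsIso.inv_hom_id, Abelian.Ext.mk₀_id_comp]
      · show (Abelian.Ext.mk₀ ι).comp ((Abelian.Ext.mk₀ (inv ι)).comp z (zero_add 1)) (zero_add 1) = z
        rw [Abelian.Ext.mk₀_comp_mk₀_assoc, IsIso.hom_inv_id, Abelian.Ext.mk₀_id_comp]
    rw [← (LinearEquiv.ofBijective _ hb).finrank_eq, finrank_ext_invertible hdim hG hK hgen hq hL hL'] at h2
    omega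
  obtain ⟨Li, hLi, ⟨e⟩⟩ := M2.exists_inverse hL
  let F := M2.tensorR Li
  haveI : F.IsEquivalence := VB17.isEquivalence_tensorR hLi
  have hLic := Snapper.isCoh_of_isInvertible hLi
  have hC' : Coh.IsCoh (F.obj (cokernel ι)) := CurveCoh17.isCoh_tensor hC hLic
  have hC'0 : ¬ IsZero (F.obj (cokernel ι)) := fun hz => hC0 ((IsZero.iff_id_eq_zero _).2 (F.map_injective (by
    rw [CategoryTheory.Functor.map_id, F.map_zero]; exact hz.eq_of_src _ _)))
  have hd' : (hilb k X G (F.obj (cokernel ι))).natDegree = 0 := by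
    refine Nat.le_zero.1 (ShStab28.natDegree_hilb_le k hG.1 hC' (d := 0) ?_)
    exact le_trans (Topology.IsEmbedding.inclusion (FMHyp13.support_tensor_left (cokernel ι) Li)).isInducing.topologicalKrullDim_le hZ
  obtain ⟨T', j', hj', hT', hdT', hsT'⟩ := exists_simple_sub hG _ _ hC' hd' hC'0 le_rfl
  haveI := hj'
  let F' := M2.tensorR L
  haveI : F'.IsEquivalence := VB17.isEquivalence_tensorR hL
  let u : F'.obj (F.obj (cokernel ι)) ≅ cokernel ι :=
    M2.tensorAssoc _ _ _ ≪≫ M2.tensorIso (Iso.refl _) (M2.tensorComm _ _ ≪≫ e) ≪≫ M2.tensorRUnit _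
  let T := F'.obj T'
  have hTc : Coh.IsCoh T := CurveCoh17.isCoh_tensor hT' (Snapper.isCoh_of_isInvertible hL)
  let j : T ⟶ cokernel ι := F'.map j' ≫ u.hom
  haveI : Mono j := mono_comp _ _
  let v : CohB1.tensorMod T Li ≅ T' :=
    M2.tensorAssoc _ _ _ ≪≫ M2.tensorIso (Iso.refl _) e ≪≫ M2.tensorRUnit _
  have hsT : IsSimpleCoh (CohB1.tensorMod T Li) := ⟨fun hz => hsT'.1 (hz.of_iso v.symm), fun A i hi hA hA0 => by
    haveI := hi
    haveI := hsT'.2 A (i ≫ v.hom) (mono_comp _ _) hA hA0
    exact IsIso.of_isIso_comp_right i v.hom⟩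
  have hdT : (hilb k X G (CohB1.tensorMod T Li)).natDegree = 0 := by
    rw [← ShStab28.hilb_iso k hG.1 v (CurveCoh17.isCoh_tensor hTc hLic)]
    exact hdT'
  have h1 := finrank_ext_two_simple hdim hG hK hL hTc hLi e hdT hsT
  obtain ⟨w, hS⟩ := shortExact_pullback ι (cokernel.π ι) (cokernel.condition ι)
    (ShortComplex.ShortExact.mk (ShortComplex.exact_cokernel ι)) j
  haveI := Module.finite_of_finrank_pos (show 0 < Module.finrank k (Abelian.Ext N L 1) by omega)
  haveI := Module.finite_of_finrank_pos (show 0 < Module.finrank k (Abelian.Ext T L 2) by omega)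
  let δ : Abelian.Ext N L 1 →ₗ[k] Abelian.Ext T L 2 := hS.extClass.precompOfLinear k L (show 1 + 1 = 2 from rfl)
  have hker : LinearMap.ker δ ≠ ⊥ := fun h0 => by
    have h := LinearMap.finrank_range_add_finrank_ker δ
    rw [h0, finrank_bot, add_zero] at h
    have h' := Submodule.finrank_le (LinearMap.range δ)
    rw [h, h1] at h'
    omega
  obtain ⟨x, hx, hx0⟩ := (Submodule.ne_bot_iff _).1 hker
  obtain ⟨x', hx'⟩ := Abelian.Ext.contravariant_sequence_exact₁ hS L x (show 1 + 1 = 2 from rfl) hx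
  refine ⟨pullback (cokernel.π ι) j, pullback.lift ι 0 (by rw [cokernel.condition, zero_comp]), pullback.fst _ _, x',
    hS.mono_f, inferInstance, Y.ok_ext hS hN hTc, pullback.lift_fst _ _ _, fun hiso => ?_, fun h => hx0 (hx'.symm.trans h)⟩
  haveI := hiso
  haveI : Epi (pullback.snd (cokernel.π ι) j) := hS.epi_g
  have h0 : pullback.snd (cokernel.π ι) j = 0 :=
    (cancel_epi (pullback.lift ι 0 (by rw [cokernel.condition, zero_comp]) : N ⟶ pullback (cokernel.π ι) j)).1
      (w.trans CategoryTheory.Limits.comp_zero.symm)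
  have hT0 : IsZero T := (IsZero.iff_id_eq_zero _).2 ((cancel_epi (pullback.snd (cokernel.π ι) j)).1 (by
    rw [h0, zero_comp, zero_comp]))
  exact hsT.1 (Functor.map_isZero F hT0)

end Groth.Agent.LMSimple8
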