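import Groth.Agent.Lib.LMSimple8.IdealExt
import Groth.Agent.Lib.NumConn10.Main
import Groth.Agent.Lib.AffCompl.Depth

/-!
# Vanishing on a surface with trivial canonical module and cyclic Picard group
-/

set_option autoImplicit false
set_option linter.style.haveILetI false
set_option linter.unusedSectionVars false
set_option backward.isDefEq.respectTransparency false
set_option backward.isDefEq.respectTransparency.types false
set_option maxHeartbeats 1600000

universe u

open CategoryTheory CategoryTheory.Limits AlgebraicGeometry TopologicalSpace Opposite StabCat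
open Groth.Agent.ShStab28 (hilb)

noncomputable section

namespace Groth.Agent.LMSimple8

open Groth.Agent.RH26 (str gsp R1 InStalk Closed1)
open Groth.Agent.SymSq10 (sdot)
open Groth.Agent.SurfRR10 (ncl)

variable {k : Type u} [Field k] [IsAlgClosed k] [CharZero k] {X : Scheme.{u}} [X.Over (Spec (CommRingCat.of k))]
  [IsProper (X ↘ Spec (CommRingCat.of k))] [IsIntegral X] [Smooth (X ↘ Spec (CommRingCat.of k))]
  (hdim : topologicalKrullDim X = 2) {L : X.Modules} (hL : CohB1.IsAmple L)
  (hK : ExtPow.IsExtPow 2 (Omega.sheaf (X ↘ Spec (CommRingCat.of k))) (Coh.structureModule X))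
  [lw : PicGrp.Law X] (hgen : ∀ c : PicLoc.PicSet X, ∃ n : ℤ, c = PicGrp.cls L hL.1 ^ n)
include k hdim hL hK hgen

/-- A proper invertible ideal has class a negative power of the generator. -/
theorem exists_exponent {J : X.IdealSheafData} (hJ : BlowUp.IsEffCartierIdeal J) (hne : J ≠ ⊤) :
    ∃ a : ℕ, 0 < a ∧ PicGrp.cls (ClSub.idealMod J) (M2.isInvertible_idealMod J hJ) = (PicGrp.cls L hL.1 ^ a)⁻¹ := by
  haveI : IsNoetherian X := CohFound.isNoetherian_of_isProper (X ↘ Spec (CommRingCat.of k))
  have hX : Pi1.IsNormalScheme X := RH26.isNormalScheme_of_regular fun x => SurfRR10.regular (k := k) x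
  have hJi := M2.isInvertible_idealMod J hJ
  have hJc := Snapper.isCoh_of_isInvertible hJi
  have hJR := Div21F12.r1_of_invertible hX hJi hJc
  obtain ⟨j, hj⟩ := hgen (PicGrp.cls (ClSub.idealMod J) hJi)
  obtain ⟨g, hg⟩ := hJR.gen
  have hJ0 : ¬ IsZero (ClSub.idealMod J) := fun hz => by
    haveI : Subsingleton ((ClSub.idealMod J).presheaf.stalk (genericPoint X)) :=
      AddCommGrpCat.subsingleton_of_isZero ((M1.stalkAb (genericPoint X)).map_isZero hz)
    exact RH26.ne_zero_of_gen hg (Subsingleton.elim _ _)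
  obtain ⟨hj2, hj1⟩ := alpha_of_cls (k := k) hL.1 hdim hJi hj
  obtain ⟨-, hle⟩ := alpha_ideal (k := k) hdim hL hJc (ClSub.idealModι J) hJ0 hX
  have hO1 := alpha_one_structure (k := k) hdim hL hK
  have ha := alpha_pos_structure (k := k) hdim hL hK
  rw [hj1, hO1, zero_add] at hle
  have hj0 : j ≤ 0 := by
    have : (j : ℚ) ≤ 0 := by nlinarith
    exact_mod_cast this
  have hj0' : j ≠ 0 := fun h0 => hne (by
    subst h0
    rw [Int.cast_zero, zero_mul, add_zero] at hj1
    haveI : IsIso (ClSub.idealModι J) := by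
      have hinj := (M1.mono_iff_stalk (ClSub.idealModι J)).1 inferInstance (genericPoint X)
      have hOcl := RH26.closed1_structure hX
      exact isIso_of_alpha (k := k) hdim hL hJc hJR.closed (M1.isCoh_structureModule X) hOcl.1 _
        (surjective_of_gen _ (show Amp.Gen (str (genericPoint X) 1) from RH26.gen_of_equiv (str (genericPoint X)))
          (a := g) fun h => RH26.ne_zero_of_gen hg (hinj (h.trans (map_zero _).symm)))
        hj1
    refine eq_top_iff.2 fun U s _ => ?_
    refine (M2.range_idealIncl J U).le ⟨(inv (ClSub.idealModι J)).app U.1 s, ?_⟩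
    show ((inv (ClSub.idealModι J)) ≫ ClSub.idealModι J).app U.1 s = s
    rw [IsIso.inv_hom_id]
    rfl)
  refine ⟨(-j).toNat, by omega, ?_⟩
  rw [hj, ← zpow_natCast, ← zpow_neg, show -(((-j).toNat : ℕ) : ℤ) = j by omega]

variable (hq : Module.finrank k (Coh.HH X (Coh.structureModule X) 1) = 0)
include hq

omit hgen in
/-- Positive powers of the generator have sections. -/
theorem exists_sec_pow (n : ℕ) (hn : 0 < n) :
    ∃ s : Coh.structureModule X ⟶ CohB1.tensorPow L n, s ≠ 0 := by
  haveI : IsNoetherian X := CohFound.isNoetherian_of_isProper (X ↘ Spec (CommRingCat.of k))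
  haveI : SmoothOfRelativeDimension 2 (X ↘ Spec (CommRingCat.of k)) := SurfRR10.smoothRelDim (k := k) hdim
  have hP := M2.isInvertible_tensorPow hL.1 n
  have hPc := Snapper.isCoh_of_isInvertible hP
  obtain ⟨M, hM, ⟨e⟩⟩ := M2.exists_inverse hP
  have hd := NumPoly18.dim_support_le (d := 2) (show topologicalKrullDim X ≤ ((2 : ℕ) : WithBot ℕ∞) by rw [hdim]; rfl)
  have h2 : Subsingleton (Coh.HH X (CohB1.tensorPow L n) 2) := by
    haveI := CohFound.finite_HH_of_isProper (A := k) _ hPc 2
    refine (Module.finrank_zero_iff (R := k)).1 ?_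
    rw [SerreDual8.finrank_duality 2 hK hP (M2.tensorComm _ _ ≪≫ e) (p := 2) le_rfl,
      (CurveCoh17.hequiv k (M2.tensorLUnit M) (2 - 2)).finrank_eq]
    have hcl : PicGrp.cls M hM = (PicGrp.cls L hL.1 ^ n)⁻¹ := by
      have h : PicGrp.cls M hM * PicGrp.cls (CohB1.tensorPow L n) hP = 1 :=
        (PicGrp.cls_mul_cls_eq_one_iff hM hP).2 ⟨M2.tensorComm _ _ ≪≫ e⟩
      rw [show PicGrp.cls (CohB1.tensorPow L n) hP = PicGrp.cls L hL.1 ^ n from
        Subtype.ext (by rw [PicGrp.cls_pow_val]; rfl)] at h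
      exact eq_inv_of_mul_eq_one_left h
    by_contra hne
    haveI : Nontrivial (Coh.HH X M (2 - 2)) := Module.nontrivial_of_finrank_pos (R := k) (Nat.pos_of_ne_zero hne)
    obtain ⟨x, hx⟩ := exists_ne (0 : Coh.HH X M 0)
    have hX : Pi1.IsNormalScheme X := RH26.isNormalScheme_of_regular fun x => SurfRR10.regular (k := k) x
    have hs := RankTwo11.secHom_ne_zero (m := CurveCoh17.hh0 M x) fun h => hx ((AddEquiv.map_eq_zero_iff _).1 h)
    have hMR := Div21F12.r1_of_invertible hX hM (Snapper.isCoh_of_isInvertible hM)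
    have hinj := injective_of_ne_zero hMR.closed ⟨_, RH26.gen_of_equiv (str (genericPoint X))⟩ _ hs
    haveI : Mono (M1.secHom (CurveCoh17.hh0 M x)) := mono_of_injective_η (RH26.closed1_structure hX).1 _ hinj
    obtain ⟨g, hg⟩ := hMR.gen
    obtain ⟨-, hle⟩ := alpha_le_of_generic (k := k) hdim hL (M1.isCoh_structureModule X)
      (Snapper.isCoh_of_isInvertible hM) (M1.secHom (CurveCoh17.hh0 M x))
      (surjective_of_gen _ hg (a := str (genericPoint X) 1) fun h =>
        RH26.str_one_ne_zero (hinj (h.trans (map_zero _).symm)))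
    obtain ⟨-, hM1⟩ := alpha_of_cls (k := k) hL.1 hdim hM (n := -(n : ℤ)) (by rw [hcl, zpow_neg, zpow_natCast])
    rw [hM1, alpha_one_structure (k := k) hdim hL hK] at hle
    have ha := alpha_pos_structure (k := k) hdim hL hK
    have : (1 : ℚ) ≤ n := by exact_mod_cast hn
    push_cast at hle
    nlinarith
  refine exists_section (k := k) hdim hPc h2 ?_
  have hev := ShStab28.hilb_spec k hL.1 (M1.isCoh_structureModule X) n
  rw [show ShStab.twist X L (Coh.structureModule X) n = CohB1.tensorMod (Coh.structureModule X) (CohB1.tensorPow L n) from rfl,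
    CurveCoh17.euler_iso (M2.tensorLUnit (CohB1.tensorPow L n))] at hev
  have h0 := ShStab28.hilb_spec k hL.1 (M1.isCoh_structureModule X) 0
  rw [show ShStab.twist X L (Coh.structureModule X) 0 = CohB1.tensorMod (Coh.structureModule X) (Coh.structureModule X) from rfl,
    CurveCoh17.euler_iso (M2.tensorRUnit (Coh.structureModule X))] at h0
  have hO : (1 : ℤ) ≤ Curv2.euler k X (Coh.structureModule X) := by
    haveI := CohFound.finite_HH_of_isProper (A := k) (Coh.structureModule X) (M1.isCoh_structureModule X)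
    rw [Curv2.euler, finsum_eq_finsetSum_of_support_subset (s := Finset.range 3) _ ?_]
    · rw [Finset.sum_range_succ, Finset.sum_range_succ, Finset.sum_range_succ, Finset.sum_range_zero, hq,
        SurfRR10.finrank_h0_eq_one (k := k)]
      push_cast
      norm_num
    · intro p hp
      simp only [Finset.coe_range, Set.mem_Iio]
      by_contra hlt
      haveI : Subsingleton (Coh.HH X (Coh.structureModule X) p) :=
        NumPoly18.subsingleton_HH_of_support (k := k) (M1.isCoh_structureModule X) (hd _) (show 2 < p by omega)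
      exact hp (by simp [Module.finrank_zero_of_subsingleton])
  rw [Nat.cast_zero] at h0
  have hdeg := ShStab28.natDegree_hilb_le k hL.1 (M1.isCoh_structureModule X) (hd (Coh.structureModule X))
  set P := hilb k X L (Coh.structureModule X) with hPdef
  have h1 : P.coeff 1 = 0 := by
    have := alpha_one_structure (k := k) hdim hL hK
    rw [← hPdef] at this
    simpa [alpha] using this
  have h2c : 0 ≤ P.coeff 2 := by
    have := alpha_pos_structure (k := k) hdim hL hK
    rw [← hPdef] at this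
    simp [alpha] at this
    linarith
  rw [Polynomial.eval_eq_sum_range' (n := 3) (Nat.lt_succ_of_le hdeg)] at hev h0
  simp [Finset.sum_range_succ, h1] at hev h0
  have hq' : (1 : ℚ) ≤ (Curv2.euler k X (CohB1.tensorPow L n) : ℚ) := by
    have : (1 : ℚ) ≤ (Curv2.euler k X (Coh.structureModule X) : ℚ) := by exact_mod_cast hO
    nlinarith [mul_nonneg h2c (sq_nonneg (n : ℚ))]
  exact_mod_cast hq'

/-- The generator has positive square. -/
theorem sdot_self_pos : 0 < sdot k (PicGrp.cls L hL.1) (PicGrp.cls L hL.1) := by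
  obtain rfl : lw = M2.law X := Subsingleton.elim _ _
  letI : PicGrp.Law X := M2.law X
  haveI : IsNoetherian X := CohFound.isNoetherian_of_isProper (X ↘ Spec (CommRingCat.of k))
  obtain ⟨s, hs⟩ := exists_sec_pow hdim hL hK hq 1 one_pos
  have hP := M2.isInvertible_tensorPow hL.1 1
  have hX : Pi1.IsNormalScheme X := RH26.isNormalScheme_of_regular fun x => SurfRR10.regular (k := k) x
  have hPR := Div21F12.r1_of_invertible hX hP (Snapper.isCoh_of_isInvertible hP)
  have hcl : PicGrp.cls (CohB1.tensorPow L 1) hP = PicGrp.cls L hL.1 := by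
    rw [← pow_one (PicGrp.cls L hL.1)]
    exact Subtype.ext (by rw [PicGrp.cls_pow_val]; rfl)
  haveI : Nontrivial (Coh.HH X (CohB1.tensorPow L 1) 0) := by
    refine ⟨(CurveCoh17.hh0 (CohB1.tensorPow L 1)).symm (s.app ⊤ (M1.one ⊤)), 0, fun h => hs (M1.unit_hom_ext ?_)⟩
    rw [(AddEquiv.symm_apply_eq _).1 h, map_zero]
    rfl
  obtain ⟨φ, hφ⟩ := SurfRR10.exists_sec_of_nontrivial (k := k) hdim hP inferInstance
  have h0 := SurfRR10.sdot_nonneg_of_sec (k := k) hdim hL hP (SurfRR10.hasMonoSec_of_gen (k := k) hdim hP φ hφ)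
  rw [hcl] at h0
  refine lt_of_le_of_ne h0 fun he => ?_
  have h1 := SurfRR10.eq_one_of_sdot_zero (k := k) hdim hL hP φ hφ (by rw [hcl]; exact he.symm)
  have ha := alpha_pos_structure (k := k) hdim hL hK
  obtain ⟨-, e1⟩ := alpha_of_cls (k := k) hL.1 hdim hP (n := 1) (by rw [zpow_one, hcl])
  obtain ⟨-, e0⟩ := alpha_of_cls (k := k) hL.1 hdim hP (n := 0) (by rw [zpow_zero, h1])
  push_cast at e1 e0
  linarith

/-- The negative powers of the generator have no first cohomology. -/
theorem subsingleton_h1_neg_pow {n : ℕ} {M : X.Modules} (hM : PicF.IsInvertible M)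
    (hcl : PicGrp.cls M hM = (PicGrp.cls L hL.1 ^ n)⁻¹) : Subsingleton (Coh.HH X M 1) := by
  haveI : IsNoetherian X := CohFound.isNoetherian_of_isProper (X ↘ Spec (CommRingCat.of k))
  have hpos := sdot_self_pos hdim hL hK hgen hq
  obtain rfl : lw = M2.law X := Subsingleton.elim _ _
  letI : PicGrp.Law X := M2.law X
  have hX : Pi1.IsNormalScheme X := RH26.isNormalScheme_of_regular fun x => SurfRR10.regular (k := k) x
  have hO := M1.isCoh_structureModule X
  have hO1 : Subsingleton (Coh.HH X (Coh.structureModule X) 1) := by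
    haveI := CohFound.finite_HH_of_isProper (A := k) (Coh.structureModule X) hO 1
    exact (Module.finrank_zero_iff (R := k)).1 hq
  rcases Nat.eq_zero_or_pos n with rfl | hn
  · rw [pow_zero, inv_one] at hcl
    obtain ⟨e⟩ := (PicGrp.cls_eq_one_iff hM).1 hcl
    haveI := hO1
    exact (CurveCoh17.hequiv k e 1).toEquiv.subsingleton
  obtain ⟨s, hs⟩ := exists_sec_pow hdim hL hK hq n hn
  have hP := M2.isInvertible_tensorPow hL.1 n
  have hPR := Div21F12.r1_of_invertible hX hP (Snapper.isCoh_of_isInvertible hP)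
  have hinj := injective_of_ne_zero hPR.closed ⟨_, RH26.gen_of_equiv (str (genericPoint X))⟩ _ hs
  haveI : Mono s := mono_of_injective_η (RH26.closed1_structure hX).1 _ hinj
  have hPcl : PicGrp.cls (CohB1.tensorPow L n) hP = PicGrp.cls L hL.1 ^ n :=
    Subtype.ext (by rw [PicGrp.cls_pow_val]; rfl)
  obtain ⟨e⟩ := (PicGrp.cls_mul_cls_eq_one_iff hP hM).1 (by rw [hPcl, hcl]; exact mul_inv_cancel _)
  obtain ⟨Z, hZ, ⟨eZ⟩, -⟩ := SecDiv.exists_ideal_of_section hP hM e s (AffCompl.isRegularSec_of_mono s inferInstance)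
  have hZcl : PicGrp.cls (ClSub.idealMod Z) (M2.isInvertible_idealMod Z hZ) = (PicGrp.cls L hL.1 ^ n)⁻¹ :=
    ((PicGrp.cls_eq_cls_iff _ hM).2 ⟨eZ.symm⟩).trans hcl
  have ha := alpha_pos_structure (k := k) hdim hL hK
  have hOa := alpha_one_structure (k := k) hdim hL hK
  have hM1 := (alpha_of_cls (k := k) hL.1 hdim hM (n := -(n : ℤ)) (by rw [hcl, zpow_neg, zpow_natCast])).2
  have hn' : (1 : ℚ) ≤ n := by exact_mod_cast hn
  have hne : Z ≠ ⊤ := fun h => by
    have h1 := NumConn10.icl_top hZ h
    rw [show NumConn10.icl hZ = (PicGrp.cls L hL.1 ^ n)⁻¹ from hZcl, ← zpow_natCast, ← zpow_neg] at h1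
    have h2 := (alpha_of_cls (k := k) hL.1 hdim hM (n := 0) (by
      rw [hcl, ← zpow_natCast, ← zpow_neg, h1, zpow_zero])).2
    rw [hM1] at h2
    push_cast at h2
    nlinarith
  have hnc : ∀ (J K : X.IdealSheafData) (hJ : BlowUp.IsEffCartierIdeal J) (hK : BlowUp.IsEffCartierIdeal K),
      J ≠ ⊤ → K ≠ ⊤ → Z = J * K → 0 < sdot k (NumConn10.icl hJ) (NumConn10.icl hK) := by
    intro J K hJ hK' hJn hKn _
    obtain ⟨a, ha0, hJc⟩ := exists_exponent (k := k) hdim hL hK hgen hJ hJn
    obtain ⟨b, hb0, hKc⟩ := exists_exponent (k := k) hdim hL hK hgen hK' hKn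
    rw [show NumConn10.icl hJ = (PicGrp.cls L hL.1 ^ a)⁻¹ from hJc, show NumConn10.icl hK' = (PicGrp.cls L hL.1 ^ b)⁻¹ from hKc,
      SurfRR10.sdot_inv_left (k := k) hdim, SurfRR10.sdot_inv_right (k := k) hdim, neg_neg,
      SurfRR10.sdot_pow_left (k := k) hdim, SymSq10.sdot_comm, SurfRR10.sdot_pow_left (k := k) hdim]
    positivity
  have hdeg : ∀ (ξ : X) (hξ : topologicalKrullDim (closure ({ξ} : Set X)) = 1), Z ≤ NumPoly18.ptIdeal ξ →
      sdot k (ncl (k := k) hdim hξ) (PicGrp.cls (Coh.structureModule X) (PicLoc.isInvertible_structureModule X)) ≤ 0 := by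
    intro ξ hξ _
    rw [PicGrp.cls_structureModule_eq_one, SymSq10.sdot_comm, SymSq10.sdot_one_left]
  have h0 := (NumConn10.finrank_le_one_and_iso (k := k) hdim hZ hnc (PicLoc.isInvertible_structureModule X) hdeg hne).1
  rw [(CurveCoh17.hequiv k (M2.tensorRUnit (ClSub.quotMod Z)) 0).finrank_eq] at h0
  have hqc : Coh.IsCoh (ClSub.quotMod Z) := CohFound.isCoh_push_closedImm Z.subschemeι (M1.isCoh_structureModule _)
  have hIc := Snapper.isCoh_of_isInvertible (M2.isInvertible_idealMod Z hZ)
  have hS := M2.shortExact_idealMod Z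
  haveI := CohFound.finite_HH_of_isProper (A := k) (ClSub.quotMod Z) hqc 0
  haveI := CohFound.finite_HH_of_isProper (A := k) (Coh.structureModule X) hO 0
  let f := CurveCoh17.hmap k (ClSub.toSubscheme Z) 0
  have hzero : Subsingleton (Coh.HH X (ClSub.idealMod Z) 0) := by
    refine not_nontrivial_iff_subsingleton.1 fun hnt => ?_
    obtain ⟨x, hx⟩ := exists_ne (0 : Coh.HH X (ClSub.idealMod Z) 0)
    have ht := RankTwo11.secHom_ne_zero (m := CurveCoh17.hh0 (ClSub.idealMod Z) x) fun h => hx ((AddEquiv.map_eq_zero_iff _).1 h)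
    have hIR := Div21F12.r1_of_invertible hX (M2.isInvertible_idealMod Z hZ) hIc
    have hinjI := injective_of_ne_zero hIR.closed ⟨_, RH26.gen_of_equiv (str (genericPoint X))⟩ _ ht
    haveI : Mono (M1.secHom (CurveCoh17.hh0 (ClSub.idealMod Z) x)) :=
      mono_of_injective_η (RH26.closed1_structure hX).1 _ hinjI
    obtain ⟨g, hg⟩ := hIR.gen
    obtain ⟨-, hle⟩ := alpha_le_of_generic (k := k) hdim hL hO hIc (M1.secHom (CurveCoh17.hh0 (ClSub.idealMod Z) x))
      (surjective_of_gen _ hg (a := str (genericPoint X) 1) fun h =>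
        RH26.str_one_ne_zero (hinjI (h.trans (map_zero _).symm)))
    rw [ShStab28.hilb_iso k hL.1 eZ (Snapper.isCoh_of_isInvertible hM), hM1, hOa] at hle
    push_cast at hle
    nlinarith
  have hfinj : Function.Injective f := (injective_iff_map_eq_zero _).2 fun x hx => by
    obtain ⟨y, rfl⟩ := (CurveCoh17.exact_hmap_hmap k hS 0 x).1 hx
    rw [hzero.elim y 0, map_zero]
  have hsurj : Function.Surjective f := by
    refine LinearMap.range_eq_top.1 (Submodule.eq_top_of_finrank_eq ?_)
    refine le_antisymm (Submodule.finrank_le _) ?_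
    rw [LinearMap.finrank_range_of_inj hfinj, SurfRR10.finrank_h0_eq_one (k := k)]
    exact h0
  haveI : Subsingleton (Coh.HH X (ClSub.idealMod Z) 1) := by
    refine subsingleton_of_forall_eq 0 fun y => ?_
    obtain ⟨x, rfl⟩ := (CurveCoh17.exact_hdelta_hmap k hS 0 y).1 (hO1.elim _ _)
    obtain ⟨z, rfl⟩ := hsurj x
    exact (CurveCoh17.exact_hmap_hdelta k hS 0 _).2 ⟨z, rfl⟩
  exact (CurveCoh17.hequiv k eZ 1).toEquiv.subsingleton

end Groth.Agent.LMSimple8
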