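import Groth.Agent.Lib.BC8.ExtBidual
import Groth.Agent.Lib.BC8.CurveSheafRes
import Groth.Agent.Lib.BC8.ExtOneSheaf
import Groth.Agent.Lib.CohMop.StalkExt
import Groth.Agent.Lib.CohMop.ExtCoh
import Groth.Agent.Lib.AmpleFam11.Factorial
import Groth.Agent.Lib.Exact8.AmpleFam
import Groth.Agent.Lib.DBC9.Main
import Groth.Agent.Lib.WeilExt.Apply

/-!
# Torsion sheaves of projective dimension one on a regular surface
-/

set_option autoImplicit false
set_option linter.style.haveILetI false
set_option linter.unusedSectionVars false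
set_option backward.isDefEq.respectTransparency false
set_option backward.isDefEq.respectTransparency.types false
set_option maxHeartbeats 800000

universe u

open CategoryTheory CategoryTheory.Limits AlgebraicGeometry Abelian

noncomputable section

namespace Groth.Agent.LMSimple8.PureOne

open Groth.Agent

variable {S : Scheme.{u}}

/-- Projective dimension at most one at every point. -/
def PD1 (F : S.Modules) : Prop := ∀ x : S, RegLoc.PD (S.presheaf.stalk x) (F.presheaf.stalk x) 1

/-- A map into an invertible module from a module which is zero at the generic point is zero. -/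
theorem isZero_ihom_of_generic [IsIntegral S] {F : S.Modules}
    (hF : ∀ a : F.presheaf.stalk (genericPoint S), a = 0) {ω : S.Modules} (hω : PicF.IsInvertible ω) :
    IsZero ((CohMop.ihom F).obj ω) := by
  let T := (CohMop.ihom F).obj ω
  have hz : ∀ f : (CohMop.tenR F).obj T ⟶ ω, f = 0 := fun f => by
    haveI : Subsingleton (((CohMop.tenR F).obj T).presheaf.stalk (genericPoint S)) := by
      haveI : Subsingleton (F.presheaf.stalk (genericPoint S)) := subsingleton_of_forall_eq 0 hF
      haveI : Subsingleton (TensorProduct (S.presheaf.stalk (genericPoint S))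
          (T.presheaf.stalk (genericPoint S)) (F.presheaf.stalk (genericPoint S))) :=
        subsingleton_of_forall_eq 0 fun z => by
          induction z using TensorProduct.induction_on with
          | zero => rfl
          | tmul a b => rw [Subsingleton.elim b 0, TensorProduct.tmul_zero]
          | add a b ha hb => rw [ha, hb, add_zero]
      exact (M2.stalkEquiv T F (genericPoint S)).toEquiv.subsingleton
    refine Defo13.hom_eq_zero_of_stalk f fun p v => NumPoly18.germ_eq_zero_of_generic hω p _ ?_
    have hn := ConcreteCategory.congr_hom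
      (TopCat.Presheaf.stalkSpecializes_stalkFunctor_map f.mapPresheaf (genericPoint_specializes p)) v
    refine Eq.trans hn.symm ?_
    refine (congrArg _ (show ((CohMop.tenR F).obj T).presheaf.stalkSpecializes
      (genericPoint_specializes p) v = 0 from Subsingleton.elim _ _)).trans ?_
    exact map_zero (ConcreteCategory.hom ((TopCat.Presheaf.stalkFunctor Ab (genericPoint S)).map f.mapPresheaf))
  rw [IsZero.iff_id_eq_zero]
  apply ((CohMop.ihomAdj F).homEquiv T ω).symm.injective
  exact (hz _).trans (hz _).symm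

variable [IsLocallyNoetherian S]

/-- Stalks of Ext sheaves of a module which is zero there. -/
theorem stalk_extSh_eq_zero [HasInjectiveResolutions S.Modules] {F : S.Modules} (hF : Coh.IsCoh F) (x : S)
    (h : ∀ a : F.presheaf.stalk x, a = 0) (G : S.Modules) (i : ℕ)
    (a : (((CohMop.ihom F).rightDerived i).obj G).presheaf.stalk x) : a = 0 := by
  obtain ⟨e⟩ := CohMop.nonempty_stalk_extSh x hF G i
  haveI : Subsingleton ((CohMop.stFun x).obj F) := ⟨fun p q => by
    obtain ⟨p, rfl⟩ := (CohMop.modCmp x F).surjective p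
    obtain ⟨q, rfl⟩ := (CohMop.modCmp x F).surjective q
    rw [h p, h q]⟩
  haveI : Subsingleton (Ext ((CohMop.stFun x).obj F) ((CohMop.stFun x).obj G) i) :=
    subsingleton_of_forall_eq 0 fun z => by
      rw [← Ext.mk₀_id_comp z, (ModuleCat.isZero_of_subsingleton ((CohMop.stFun x).obj F)).eq_of_src (𝟙 _) 0,
        Ext.mk₀_zero, Ext.zero_comp]
  have hs : Subsingleton ((CohMop.stFun x).obj (((CohMop.ihom F).rightDerived i).obj G)) :=
    e.toLinearEquiv.toEquiv.subsingleton
  exact (CohMop.modCmp x _).injective (hs.elim _ _)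

variable (hreg : ∀ x : S, IsRegularLocalRing (S.presheaf.stalk x)) (hdim : topologicalKrullDim S ≤ 2)

include hreg hdim in
/-- Submodules. -/
theorem pd1_of_mono {B G : S.Modules} (hB : Coh.IsCoh B) (hG : Coh.IsCoh G) (i : B ⟶ G) [Mono i]
    (h : PD1 G) : PD1 B := fun x => by
  haveI := hreg x
  haveI : Module.Finite (S.presheaf.stalk x) (B.presheaf.stalk x) :=
    M1.finite_stalk hB.1 (M1.isFP_isFT (M1.isFP_of_isCoh hB)) x
  haveI : Module.Finite (S.presheaf.stalk x) (G.presheaf.stalk x) :=
    M1.finite_stalk hG.1 (M1.isFP_isFT (M1.isFP_of_isCoh hG)) x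
  rcases subsingleton_or_nontrivial (B.presheaf.stalk x) with hs | hs
  · haveI : Module.Projective (S.presheaf.stalk x) (B.presheaf.stalk x) := inferInstance
    exact RegLoc.PD.of_projective 1
  let f := CurveCoh17.stalkLin i x
  have hf : Function.Injective f := (M1.mono_iff_stalk i).1 inferInstance x
  haveI : Nontrivial (G.presheaf.stalk x) := hf.nontrivial
  obtain ⟨t, ht⟩ : ∃ t : ℕ, ringKrullDim (S.presheaf.stalk x) = t :=
    ⟨_, (IsRegularLocalRing.spanFinrank_maximalIdeal (R := S.presheaf.stalk x)).symm⟩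
  have ht2 : t ≤ 2 := by
    have h := (VB17.ringKrullDim_stalk_le_topologicalKrullDim x).trans hdim
    rw [ht] at h
    exact_mod_cast h
  obtain ⟨d, hd⟩ := DepthLib.exists_depth_eq_natCast (R := S.presheaf.stalk x) (M := B.presheaf.stalk x)
  obtain ⟨d', hd'⟩ := DepthLib.exists_depth_eq_natCast (R := S.presheaf.stalk x) (M := G.presheaf.stalk x)
  refine (AB5.pd_iff_of_regular ht hd 1).2 ?_
  have h' := (AB5.pd_iff_of_regular ht hd' 1).1 (h x)
  rcases Nat.eq_zero_or_pos d with hd0 | hd0
  · by_contra hlt
    have hm : IsLocalRing.maximalIdeal (S.presheaf.stalk x) ∈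
        associatedPrimes (S.presheaf.stalk x) (B.presheaf.stalk x) :=
      Depth3.depth_eq_zero_iff.1 (by rw [hd, hd0]; rfl)
    have hm' := associatedPrimes.subset_of_injective hf hm
    have := Depth3.depth_eq_zero_iff.2 hm'
    rw [hd'] at this
    have : d' = 0 := by exact_mod_cast this
    omega
  · omega

/-- Kernels of locally free presentations. -/
theorem isFinLocFree_kernel {F : S.Modules} (hF : Coh.IsCoh F) (h : PD1 F) {E : S.Modules}
    (hE : FlatMod.IsFinLocFree E) (π : E ⟶ F) [Epi π] : FlatMod.IsFinLocFree (kernel π) := by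
  have hE' : Coh.IsCoh E := (M1.isCoh_iff_isFP E).2 (M1.isFP_of_isFinLocFree hE)
  have hK : Coh.IsCoh (kernel π) := M1.isCoh_kernel hE' hF.1 π
  refine (M1.isFinLocFree_iff _).2 ⟨M1.isFP_of_isCoh hK, fun x => ?_⟩
  haveI := M1.finite_stalk hK.1 (M1.isFP_isFT (M1.isFP_of_isCoh hK)) x
  haveI : Module.Free (S.presheaf.stalk x) (E.presheaf.stalk x) := ((M1.isFinLocFree_iff E).1 hE).2 x
  let f := CurveCoh17.stalkLin π x
  let i := CurveCoh17.stalkLin (kernel.ι π) x
  have hf : Function.Surjective f := (M1.epi_iff_stalk π).1 inferInstance x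
  have hi : Function.Injective i := (M1.mono_iff_stalk (kernel.ι π)).1 inferInstance x
  have hex : Function.Exact i f := fun b => ⟨fun hb =>
    (M1.exact_iff_stalk_eq_zero (ShortComplex.mk (kernel.ι π) π (kernel.condition π))).1
      (ShortComplex.exact_kernel π) x b hb, fun ⟨a, ha⟩ => by
      rw [← ha]
      show (M1.stalkAb x).map π ((M1.stalkAb x).map (kernel.ι π) a) = 0
      rw [← ConcreteCategory.comp_apply, ← Functor.map_comp, kernel.condition, Functor.map_zero]
      rfl⟩
  have h0 : RegLoc.PD (S.presheaf.stalk x) (LinearMap.ker f) 0 := (RegLoc.pd_succ_iff f hf).1 (h x)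
  haveI := RegLoc.pd_zero_iff.1 h0
  let e : (kernel π).presheaf.stalk x ≃ₗ[S.presheaf.stalk x] LinearMap.ker f :=
    (LinearEquiv.ofInjective i hi).trans (LinearEquiv.ofEq _ _ hex.linearMap_ker_eq.symm)
  haveI := Module.Projective.of_equiv e.symm
  exact Module.free_of_flat_of_isLocalRing

/-- Cokernels of monomorphisms of locally free modules. -/
theorem pd1_of_shortExact {T : ShortComplex S.Modules} (hT : T.ShortExact) (h₁ : FlatMod.IsFinLocFree T.X₁)
    (h₂ : FlatMod.IsFinLocFree T.X₂) : PD1 T.X₃ := fun x => by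
  haveI := hT.mono_f
  haveI := hT.epi_g
  haveI : Module.Free (S.presheaf.stalk x) (T.X₁.presheaf.stalk x) := ((M1.isFinLocFree_iff _).1 h₁).2 x
  haveI : Module.Free (S.presheaf.stalk x) (T.X₂.presheaf.stalk x) := ((M1.isFinLocFree_iff _).1 h₂).2 x
  let f := CurveCoh17.stalkLin T.g x
  let i := CurveCoh17.stalkLin T.f x
  have hex : Function.Exact i f := fun b => ⟨fun hb =>
    (M1.exact_iff_stalk_eq_zero T).1 hT.exact x b hb, fun ⟨a, ha⟩ => by
      rw [← ha]
      show (M1.stalkAb x).map T.g ((M1.stalkAb x).map T.f a) = 0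
      rw [← ConcreteCategory.comp_apply, ← Functor.map_comp, T.zero, Functor.map_zero]
      rfl⟩
  exact RegLoc.PD.quotient i f ((M1.mono_iff_stalk T.f).1 inferInstance x)
    ((M1.epi_iff_stalk T.g).1 inferInstance x) hex (RegLoc.PD.of_projective 0) (RegLoc.PD.of_projective 1)

variable [IsIntegral S] [CompactSpace S] [HasInjectiveResolutions S.Modules]
  (hΔ : ∀ V W : S.Opens, IsAffineOpen V → IsAffineOpen W → IsAffineOpen (V ⊓ W))
  {ω : S.Modules} (hω : PicF.IsInvertible ω)

include hreg hΔ hω in
/-- The dual `ℰxt¹(F, ω)` of such a sheaf again has projective dimension one, and its dual is `F`. -/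
theorem exists_dual {F : S.Modules} (hF : Coh.IsCoh F) (h : PD1 F)
    (h0 : ∀ a : F.presheaf.stalk (genericPoint S), a = 0) :
    PD1 (((CohMop.ihom F).rightDerived 1).obj ω) ∧
      Nonempty (((CohMop.ihom (((CohMop.ihom F).rightDerived 1).obj ω)).rightDerived 1).obj ω ≅ F) := by
  haveI : HasInjectiveResolutions (ModSite.Mod S.sheaf) := inferInstanceAs (HasInjectiveResolutions S.Modules)
  obtain ⟨E, π, hE, hπ⟩ := Exact8.AmpleFam.hasResolutionProperty
    (AmpleFam11.hasAmpleFamily_of_regular S hΔ hreg) F hF.1 (M1.isFP_isFT (M1.isFP_of_isCoh hF))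
  haveI := hπ
  have hK := isFinLocFree_kernel hF h hE π
  let T := ShortComplex.mk (kernel.ι π) π (kernel.condition π)
  have hT : T.ShortExact := { exact := ShortComplex.exact_kernel π }
  have hloc : ∀ {N : S.Modules}, FlatMod.IsFinLocFree N → FlatMod.IsFinLocFree ((CohMop.ihom N).obj ω) := by
    intro N hN
    haveI : ModSite.HasSheafHom (O := S.sheaf) N := CohMop.isLeftAdjoint_tenR _
    haveI := CohMop.isIso_bidual hN
    haveI : ModSite.HasSheafHom (O := S.sheaf) (CohMop.dual N) := CohMop.isLeftAdjoint_tenR _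
    exact M2.isFinLocFree_of_iso
      (((CohMop.ihomIso (asIso (CohMop.bidual N))).app ω) ≪≫
        ((CohMop.tenRIhomIso (CohMop.dual N) (CohMop.isFinLocFree_dual hN)).app ω).symm ≪≫
        (ES11.tenRIso _).app ω).symm
      (M2.isFinLocFree_tensor (M2.isFinLocFree_of_isInvertible hω) (CohMop.isFinLocFree_dual hN))
  have h0' := isZero_ihom_of_generic h0 hω
  refine ⟨?_, BC8.BidualW.nonempty_extOne_extOne hT hK hE hω h0' (hloc hK)⟩
  obtain ⟨c⟩ := BC8.BidualW.nonempty_extOne_cokernel hT hE ω
  let a := (CohMop.ihomNat T.f).app ω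
  obtain ⟨hl⟩ := CohMop.nonempty_isLimit_ihomSeq hT.exact ω
  haveI : Mono a := (ShortComplex.exact_of_f_is_kernel
    (ShortComplex.mk ((CohMop.ihomNat T.g).app ω) a (CohMop.ihomNat_zero T ω)) hl).mono_g (h0'.eq_of_src _ _)
  let U := ShortComplex.mk a (cokernel.π a ≫ c.hom)
    (by rw [← Category.assoc, cokernel.condition, zero_comp])
  have hU : U.ShortExact :=
    { exact := ShortComplex.exact_of_g_is_cokernel _
        (IsColimit.ofIsoColimit (cokernelIsCokernel a) (Cofork.ext c (by rfl)))
      mono_f := inferInstanceAs (Mono a)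
      epi_g := inferInstanceAs (Epi (cokernel.π a ≫ c.hom)) }
  exact pd1_of_shortExact hU (hloc hE) (hloc hK)

end Groth.Agent.LMSimple8.PureOne
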