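import Groth.Agent.Lib.LMSimple8.PureOne
import Groth.Agent.Lib.LMSimple8.CBEval3
import Groth.Agent.Lib.Curve17.Basic
import Groth.Agent.Lib.ProjDual12.GenRank
import Groth.Agent.Lib.SmDim19.Basic

/-!
# Sheaves of projective dimension one supported on an integral curve in a surface
-/

set_option autoImplicit false
set_option linter.style.haveILetI false
set_option linter.unusedSectionVars false
set_option backward.isDefEq.respectTransparency false
set_option backward.isDefEq.respectTransparency.types false
set_option maxHeartbeats 800000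

universe u

open CategoryTheory CategoryTheory.Limits AlgebraicGeometry Abelian IsLocalRing TopologicalSpace

noncomputable section

namespace Groth.Agent.LMSimple8.PureOne

open Groth.Agent

variable {S : Scheme.{u}} [IsLocallyNoetherian S] (hreg : ∀ x : S, IsRegularLocalRing (S.presheaf.stalk x))

include hreg in
/-- No sections supported at isolated points of dimension two. -/
theorem eq_zero_of_isolated {F : S.Modules} (hF : Coh.IsCoh F) (h : PD1 F) {x : S}
    (hx : ringKrullDim (S.presheaf.stalk x) = 2) (W : S.Opens) (hxW : x ∈ W)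
    (hW : ∀ y ∈ W, y ≠ x → ∀ a : F.presheaf.stalk y, a = 0) (a : F.presheaf.stalk x) : a = 0 := by
  classical
  haveI := hF.1
  haveI := hreg x
  haveI : Module.Finite (S.presheaf.stalk x) (F.presheaf.stalk x) :=
    M1.finite_stalk hF.1 (M1.isFP_isFT (M1.isFP_of_isCoh hF)) x
  rcases subsingleton_or_nontrivial (F.presheaf.stalk x) with hs | hs
  · exact Subsingleton.elim _ _
  obtain ⟨d, hd⟩ := DepthLib.exists_depth_eq_natCast (R := S.presheaf.stalk x) (M := F.presheaf.stalk x)
  have hd1 := (AB5.pd_iff_of_regular (t := 2) (by exact_mod_cast hx) hd 1).1 (h x)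
  obtain ⟨r, hr, hreg'⟩ : ∃ r ∈ maximalIdeal (S.presheaf.stalk x), IsSMulRegular (F.presheaf.stalk x) r := by
    by_contra hall
    push Not at hall
    have h0 := Depth3.depth_eq_zero_iff.2 (Depth3.forall_not_regular_iff_mem_associatedPrimes.1 hall)
    rw [hd] at h0
    have : d = 0 := by exact_mod_cast h0
    omega
  obtain ⟨U₁, hU₁, g, rfl⟩ := S.presheaf.exists_germ_eq r
  obtain ⟨U₀, hU₀, s, rfl⟩ := F.presheaf.exists_germ_eq a
  obtain ⟨V, hV, hxV, hle⟩ := exists_isAffineOpen_mem_and_subset (x := x) (U := U₀ ⊓ U₁ ⊓ W)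
    ⟨⟨hU₀, hU₁⟩, hxW⟩
  have h01 : V ≤ U₀ := fun y hy => (hle hy).1.1
  have h11 : V ≤ U₁ := fun y hy => (hle hy).1.2
  let g' : Γ(S, V) := S.presheaf.map (homOfLE h11).op g
  have hg' : S.presheaf.germ V x hxV g' = S.presheaf.germ U₁ x hU₁ g :=
    S.presheaf.germ_res_apply (homOfLE h11) x hxV g
  have hxg : x ∉ S.basicOpen g' := fun hm => by
    have hu := (S.mem_basicOpen g' x hxV).1 hm
    rw [hg'] at hu
    exact (IsLocalRing.mem_maximalIdeal _).1 hr hu
  obtain ⟨n, hn⟩ := M1.exists_pow_smul_eq_zero_affine F hV g' (M1.mres F h01 s)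
    (M1.section_ext _ _ fun y hy => by
      have hyx : y ≠ x := fun e => hxg (e ▸ hy)
      rw [hW y (hle (S.basicOpen_le g' hy)).2 hyx (F.presheaf.germ _ y hy _), map_zero])
  have hz : (S.presheaf.germ U₁ x hU₁ g) ^ n • F.presheaf.germ U₀ x hU₀ s = 0 := by
    rw [← hg', ← map_pow, ← M1.germ_mres F h01 hxV s, ← M1.germ_smul, hn, map_zero]
  exact (hreg'.pow n) (hz.trans (smul_zero _).symm)

variable {C : Scheme.{u}} [IsIntegral C] (j : C ⟶ S) [IsClosedImmersion j] (hC : topologicalKrullDim C = 1)
  {k : Type u} [Field k] [S.Over (Spec (CommRingCat.of k))] [IsProper (S ↘ Spec (CommRingCat.of k))]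
  [SmoothOfRelativeDimension 2 (S ↘ Spec (CommRingCat.of k))]

include k hC in
/-- A module supported on the curve and zero at its generic point is supported at finitely many points. -/
theorem exists_suppIn {F : S.Modules} (hF : Coh.IsCoh F)
    (hsupp : ∀ x ∉ Set.range j, ∀ a : F.presheaf.stalk x, a = 0)
    (hξ : ∀ a : F.presheaf.stalk (j (genericPoint C)), a = 0) : ∃ Z : Finset S, CurveCoh17.SuppIn F Z := by
  haveI : IsNoetherian S := CohFound.isNoetherian_of_isProper (S ↘ Spec (CommRingCat.of k))
  haveI : IsLocallyNoetherian C := LocallyOfFiniteType.isLocallyNoetherian j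
  haveI : CompactSpace C := QuasiCompact.compactSpace_of_compactSpace j
  haveI : IsNoetherian C := {}
  have hcl : IsClosed (CohB1.support F) := M1.isClosed_support (M1.isFP_isFT (M1.isFP_of_isCoh hF))
  have hne : (j ⁻¹' CohB1.support F : Set C) ≠ Set.univ := fun h => by
    have h1 : genericPoint C ∈ j ⁻¹' CohB1.support F := h.ge (Set.mem_univ _)
    exact h1 (subsingleton_of_forall_eq 0 hξ)
  have hf : (j ⁻¹' CohB1.support F : Set C).Finite :=
    Curve17.finite_of_isClosed hC.le (hcl.preimage j.continuous) hne
  have hfin : (CohB1.support F).Finite := (hf.image j).subset fun x hx => by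
    by_cases hxr : x ∈ Set.range j
    · obtain ⟨z, rfl⟩ := hxr
      exact ⟨z, hx, rfl⟩
    · exact absurd (subsingleton_of_forall_eq 0 (hsupp x hxr)) hx
  exact ⟨hfin.toFinset, fun x hx => isClosed_points_of_finite (k := k) hcl hfin x (hfin.mem_toFinset.1 hx),
    fun x hx => CurveCoh17.stalk_eq_zero_of_notMem_support fun h => hx (hfin.mem_toFinset.2 h)⟩

include k hreg in
/-- Finitely supported modules of projective dimension one are zero. -/
theorem eq_zero_of_suppIn {F : S.Modules} (hF : Coh.IsCoh F) (h : PD1 F) {Z : Finset S}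
    (hZ : CurveCoh17.SuppIn F Z) (x : S) (a : F.presheaf.stalk x) : a = 0 := by
  by_cases hx : x ∈ Z
  · haveI : Smooth (S ↘ Spec (CommRingCat.of k)) := SmoothOfRelativeDimension.smooth 2 _
    exact eq_zero_of_isolated hreg hF h
      (SmDim19.ringKrullDim_stalk_of_isClosed (n := 2) (f := S ↘ Spec (CommRingCat.of k)) (hZ.closed x hx))
      (hZ.compl (some x)) (hZ.mem_compl_self x)
      (fun y hy hyx => hZ.zero y fun hyZ => hyx (hZ.eq_of_mem_compl_some hy hyZ)) a
  · exact hZ.zero x hx a

include hC in
theorem genericPoint_notMem [IsIntegral S] (hdim : topologicalKrullDim S = 2) :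
    genericPoint S ∉ Set.range j := fun ⟨y, hy⟩ => by
  have hsurj : Function.Surjective j := fun x => by
    have hx : x ∈ closure ({genericPoint S} : Set S) := by rw [genericPoint_spec S |>.def]; trivial
    exact (j.isClosedEmbedding.isClosed_range.closure_subset_iff.2 (by simpa [← hy] using ⟨y, rfl⟩) hx :)
  have := (j.isClosedEmbedding.isEmbedding.toHomeomorphOfSurjective hsurj).isHomeomorph.topologicalKrullDim_eq
  rw [hC, hdim] at this
  norm_cast at this

include hC in
/-- The generic point of the curve has height one. -/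
theorem ringKrullDim_stalk_xi [IsIntegral S] (hdim : topologicalKrullDim S = 2) :
    ringKrullDim (S.presheaf.stalk (j (genericPoint C))) = ((1 : ℕ) : WithBot ℕ∞) := by
  obtain ⟨z', hz'⟩ : ∃ z' : C, z' ≠ genericPoint C := by
    by_contra hall
    push Not at hall
    exact Curve17.not_isClosed_genericPoint hC (by
      convert isClosed_univ (X := C) using 1
      exact Set.eq_univ_iff_forall.2 fun z => hall z)
  have hlt : j z' < j (genericPoint C) := by
    have hsp : genericPoint C ⤳ z' := genericPoint_specializes z'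
    exact ⟨hsp.map j.continuous, fun h => hz' (j.isClosedEmbedding.injective
      (Specializes.antisymm (h :) (hsp.map j.continuous)).eq)⟩
  have h1 := Order.coheight_add_one_le hlt
  have h2 := (VB17.ringKrullDim_stalk_le_topologicalKrullDim (j z')).trans hdim.le
  rw [ringKrullDim_stalk_eq_coheight] at h2
  have h2' : Order.coheight (j z') ≤ 2 := WithBot.coe_le_coe.1 h2
  have hη := genericPoint_notMem j hC hdim
  have hlt' : j (genericPoint C) < genericPoint S := by
    have hsp : genericPoint S ⤳ j (genericPoint C) := genericPoint_specializes _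
    exact ⟨hsp, fun h => hη ⟨genericPoint C, (Specializes.antisymm (h :) hsp).eq⟩⟩
  have h3 := Order.coheight_add_one_le hlt'
  rw [ringKrullDim_stalk_eq_coheight]
  have h4 : Order.coheight (j (genericPoint C)) + 1 ≤ 1 + 1 := h1.trans h2'
  have h5 := (ENat.add_le_add_iff_right (by simp)).1 h4
  have h6 : (1 : ℕ∞) ≤ Order.coheight (j (genericPoint C)) := le_trans le_add_self h3
  rw [le_antisymm h5 h6]
  rfl

include hC in
/-- Ext sheaves of modules of length one at the generic point of the curve. -/
theorem length_extSh [IsIntegral S] [HasInjectiveResolutions S.Modules] (hdim : topologicalKrullDim S = 2)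
    (hr : IsRegularLocalRing (S.presheaf.stalk (j (genericPoint C))))
    {F : S.Modules} (hF : Coh.IsCoh F)
    (h1 : Module.length (S.presheaf.stalk (j (genericPoint C))) (F.presheaf.stalk (j (genericPoint C))) = 1)
    {ω : S.Modules} (hω : PicF.IsInvertible ω) :
    Module.length (S.presheaf.stalk (j (genericPoint C)))
      ((((CohMop.ihom F).rightDerived 1).obj ω).presheaf.stalk (j (genericPoint C))) = 1 := by
  let ξ := j (genericPoint C)
  haveI : IsRegularLocalRing (ModSite.stalkRing (CohMop.pt ξ) S.sheaf) :=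
    IsRegularLocalRing.of_ringEquiv (CohMop.ringCmp ξ)
  obtain ⟨e⟩ := CohMop.nonempty_stalk_extSh ξ hF ω 1
  obtain ⟨eN⟩ := ProjDual12.nonempty_stFun_equiv ((M2.isInvertible_iff_isFinLocFreeOfRank_one ω).1 hω) ξ
  rw [← ProjDual12.length_stFun, e.toLinearEquiv.length_eq]
  refine ProjDual12.length_ext_of_length_one (c := 1) ?_ ((ProjDual12.length_stFun ξ F).trans h1) eN
  rw [← ringKrullDim_eq_of_ringEquiv (CohMop.ringCmp ξ)]
  exact ringKrullDim_stalk_xi j hC hdim

end Groth.Agent.LMSimple8.PureOne
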