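import Groth.Agent.Lib.LMSimple8.PureOne
import Groth.Agent.Lib.RDSeq.Basic
import Groth.Agent.Lib.CurveCoh17.Integral

/-!
# The map of dual sheaves induced by a submodule
-/

set_option autoImplicit false
set_option linter.style.haveILetI false
set_option linter.unusedSectionVars false
set_option backward.isDefEq.respectTransparency false
set_option backward.isDefEq.respectTransparency.types false
set_option maxHeartbeats 800000

universe u

open CategoryTheory CategoryTheory.Limits AlgebraicGeometry

noncomputable section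

namespace Groth.Agent.LMSimple8.PureOne

open Groth.Agent

variable {S : Scheme.{u}} [IsLocallyNoetherian S] [HasInjectiveResolutions S.Modules]

/-- The map `ℰxt¹(G, ω) ⟶ ℰxt¹(B, ω)` induced by `B ⊂ G`. -/
def dualMap {B G : S.Modules} (ι : B ⟶ G) (ω : S.Modules) :
    ((CohMop.ihom G).rightDerived 1).obj ω ⟶ ((CohMop.ihom B).rightDerived 1).obj ω :=
  (NatTrans.rightDerived (CohMop.ihomNat ι) 1).app ω

/-- It is bijective away from the support of the quotient. -/
theorem bijective_dualMap {B G : S.Modules} (hB : Coh.IsCoh B) (hG : Coh.IsCoh G) (ι : B ⟶ G) [Mono ι]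
    (ω : S.Modules) (x : S) (hx : ∀ a : (cokernel ι).presheaf.stalk x, a = 0) :
    Function.Bijective ((M1.stalkAb x).map (dualMap ι ω)) := by
  haveI : HasInjectiveResolutions (ModSite.Mod S.sheaf) := inferInstanceAs (HasInjectiveResolutions S.Modules)
  let T := ShortComplex.mk ι (cokernel.π ι) (cokernel.condition ι)
  have hT : T.ShortExact := { exact := ShortComplex.exact_of_g_is_cokernel _ (cokernelIsCokernel ι) }
  let hI := CohMop.shortExact_ihom_of_injective hT
  let a := CohMop.ihomNat T.g
  let b := CohMop.ihomNat T.f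
  have w : ∀ X, a.app X ≫ b.app X = 0 := fun X => CohMop.ihomNat_zero T X
  let R := injectiveResolution ω
  have hC : Coh.IsCoh T.X₃ := M1.isCoh_cokernel hB.1 hG ι
  have h1 := stalk_extSh_eq_zero hC x hx ω 1
  have h2 := stalk_extSh_eq_zero hC x hx ω 2
  have hsurj : Function.Surjective ((M1.stalkAb x).map (dualMap ι ω)) := fun y =>
    (M1.exact_iff_stalk_eq_zero _).1 (RDSeq.exact_rightDerived_delta a b w hI 1 ω) x y (h2 _)
  let L := RDSeq.cxSeq a b w R.cocomplex
  have hL := RDSeq.cxSeq_shortExact a b w hI R.cocomplex R.injective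
  have hz : HomologicalComplex.homologyMap L.f 1 ≫ HomologicalComplex.homologyMap L.g 1 = 0 := by
    rw [← HomologicalComplex.homologyMap_comp, L.zero, HomologicalComplex.homologyMap_zero]
  have hz' : (NatTrans.rightDerived a 1).app ω ≫ dualMap ι ω = 0 := by
    show _ ≫ (NatTrans.rightDerived b 1).app ω = 0
    rw [R.rightDerived_app_eq, R.rightDerived_app_eq]
    simp only [Category.assoc, Iso.inv_hom_id_assoc]
    refine (congrArg (_ ≫ ·) (Category.assoc _ _ _).symm).trans ?_
    erw [hz]
    rw [zero_comp, comp_zero]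
  have hex : (ShortComplex.mk _ _ hz').Exact := by
    refine ShortComplex.exact_of_iso (ShortComplex.isoMk
      (R.isoRightDerivedObj _ 1).symm (R.isoRightDerivedObj _ 1).symm (R.isoRightDerivedObj _ 1).symm ?_ ?_)
      (hL.homology_exact₂ 1)
    · dsimp
      rw [R.rightDerived_app_eq]
      exact RDSeq.inv_hom_cancel _ _
    · dsimp [dualMap]
      rw [R.rightDerived_app_eq]
      exact RDSeq.inv_hom_cancel _ _
  refine ⟨fun p q hpq => ?_, hsurj⟩
  have h0 : ((M1.stalkAb x).map (dualMap ι ω)) (p - q) = 0 := by rw [map_sub, hpq, sub_self]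
  obtain ⟨c, hc⟩ := (M1.exact_iff_stalk_eq_zero _).1 hex x (p - q) h0
  rw [h1 c, map_zero] at hc
  exact sub_eq_zero.1 hc.symm

end Groth.Agent.LMSimple8.PureOne
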