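import Groth.Agent.Lib.LMSimple8.PureOne
import Groth.Agent.Lib.BC8.ExtOneSheaf
import Groth.Agent.Lib.FundIso12.SmoothProj
import Groth.Agent.Lib.HilbObs3.Vanish
import Groth.Agent.Lib.CurveCoh17.Euler
import Groth.Agent.Lib.CMReg18.GG
import Groth.Agent.Lib.CohFound.ProperFinite

/-!
# Cohomological lemmas for dual sheaves
-/

set_option autoImplicit false
set_option linter.style.haveILetI false
set_option linter.unusedSectionVars false
set_option backward.isDefEq.respectTransparency false
set_option backward.isDefEq.respectTransparency.types false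
set_option maxHeartbeats 800000

universe u

open CategoryTheory CategoryTheory.Limits AlgebraicGeometry

noncomputable section

namespace Groth.Agent.LMSimple8.PureOne

open Groth.Agent

variable {k : Type u} [Field k] {S : Scheme.{u}} [S.Over (Spec (CommRingCat.of k))]

/-- The two `ℰxt¹`. -/
def extIso [HasInjectiveResolutions S.Modules] (F ω : S.Modules) [DCoh.HasSheafHom F]
    [(DCoh.sheafHom F).Additive] :
    ((DCoh.sheafHom F).rightDerived 1).obj ω ≅ ((CohMop.ihom F).rightDerived 1).obj ω :=
  haveI : HasInjectiveResolutions (ModSite.Mod S.sheaf) := inferInstanceAs (HasInjectiveResolutions S.Modules)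
  (InjectiveResolution.of ω).isoRightDerivedObj _ 1 ≪≫ (HomologicalComplex.homologyFunctor _ _ 1).mapIso
    ((NatIso.mapHomologicalComplex (BC8.ExtOne.sheafHomIso F) _).app (InjectiveResolution.of ω).cocomplex) ≪≫
    ((InjectiveResolution.of ω).isoRightDerivedObj _ 1).symm

/-- `h⁰` of the dual sheaf is `h¹` of the sheaf. -/
theorem finrank_h0_extSh [IsIntegral S] [IsLocallyNoetherian S] [HasInjectiveResolutions S.Modules]
    [SmoothOfRelativeDimension 2 (S ↘ Spec (CommRingCat.of k))]
    {N : ℕ} (ι : S ⟶ CohB1.ProjSpace N k) [IsClosedImmersion ι]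
    (hι : ι ≫ CohB1.ProjSpace.toSpec N k = S ↘ Spec (CommRingCat.of k))
    {ω : S.Modules} (hω : Canon.IsTopDiff (S ↘ Spec (CommRingCat.of k)) 2 ω)
    {F : S.Modules} (hF : Coh.IsCoh F) (h0 : ∀ a : F.presheaf.stalk (genericPoint S), a = 0) :
    Module.finrank k (Coh.HH S (((CohMop.ihom F).rightDerived 1).obj ω) 0) =
      Module.finrank k (Coh.HH S F 1) := by
  haveI : HasExt.{u} S.Modules := hasExt_of_enoughInjectives.{u} _
  haveI := HilbObs3.hasSheafHom F
  haveI : (DCoh.sheafHom F).Additive := Functor.additive_of_iso (BC8.ExtOne.sheafHomIso F).symm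
  obtain ⟨e⟩ := BC8.ExtOne.nonempty_ext_one_linearEquiv (k := k) F ω
    (isZero_ihom_of_generic h0 (FundIso12.isInvertible_omega (n := 2) hω))
  obtain ⟨d⟩ := FundIso12.nonempty_ext_omega ι hω hι F hF 1 one_le_two
  rw [← (CurveCoh17.hequiv k (extIso F ω) 0).finrank_eq, ← e.finrank_eq, d.finrank_eq, Subspace.dual_finrank_eq]

/-- Cohomology of degree one surjects along an injection with finitely supported cokernel. -/
theorem surjective_h1 {P Q : S.Modules} (f : P ⟶ Q) [Mono f] {Z : Finset S}
    (hZ : CurveCoh17.SuppIn (cokernel f) Z) : Function.Surjective (CurveCoh17.hmap k f 1) := by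
  let T := ShortComplex.mk f (cokernel.π f) (cokernel.condition f)
  have hT : T.ShortExact := { exact := ShortComplex.exact_of_g_is_cokernel _ (cokernelIsCokernel f) }
  haveI := hZ.subsingleton_HH 0
  exact fun y => (CurveCoh17.exact_hmap_hmap k hT 1 y).1 (Subsingleton.elim _ _)

/-- A module with all stalks zero has no cohomology in degree zero. -/
theorem subsingleton_h0 {P : S.Modules} (h : ∀ (x : S) (a : P.presheaf.stalk x), a = 0) :
    Subsingleton (Coh.HH S P 0) :=
  (CurveCoh17.hh0 P).toEquiv.subsingleton_congr.2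
    ⟨fun s t => M1.section_ext s t fun x _ => (h x _).trans (h x _).symm⟩

/-- An extension of a finitely supported module by a generated one is generated when sections lift. -/
theorem isGloballyGenerated_of_mono {P Q : S.Modules} (f : P ⟶ Q) [Mono f] {Z : Finset S}
    (hZ : CurveCoh17.SuppIn (cokernel f) Z) (hP : Curv2.IsGloballyGenerated P)
    (hs : Function.Surjective (CurveCoh17.hmap k (cokernel.π f) 0)) : Curv2.IsGloballyGenerated Q := by
  refine CMReg18.isGloballyGenerated_of_forall_kills fun N q hq => ?_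
  have h1 : f ≫ q = 0 := CMReg18.eq_zero_of_kills hP fun t => by
    rw [Scheme.Modules.Hom.comp_app, ConcreteCategory.comp_apply]
    exact hq _
  let q' := cokernel.desc f q h1
  have hq' : q = cokernel.π f ≫ q' := (cokernel.π_desc f q h1).symm
  suffices q' = 0 by rw [hq', this, comp_zero]
  refine Defo13.hom_eq_zero_of_stalk q' fun x a => ?_
  by_cases hx : x ∈ Z
  · classical
    obtain ⟨s, hsx⟩ := hZ.exists_section ⊤ fun y => if h : y = x then h ▸ a else 0
    have hsa : (cokernel f).presheaf.germ ⊤ x trivial s = a := by rw [hsx x hx trivial, dif_pos rfl]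
    obtain ⟨z, hz⟩ := hs ((CurveCoh17.hh0 (cokernel f)).symm s)
    have h2 : (cokernel.π f).app ⊤ (CurveCoh17.hh0 Q z) = s := by
      rw [← CurveCoh17.hh0_hmap k (cokernel.π f) z, hz, AddEquiv.apply_symm_apply]
    have h3 : q'.app ⊤ s = 0 := by
      have h4 := hq (CurveCoh17.hh0 Q z)
      rw [hq', Scheme.Modules.Hom.comp_app, ConcreteCategory.comp_apply, h2] at h4
      exact h4
    rw [← hsa]
    refine (M1.germ_naturality q' ⊤ x trivial s).trans ?_
    rw [h3, map_zero]
  · rw [hZ.zero x hx a, map_zero]

end Groth.Agent.LMSimple8.PureOne
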