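import Groth.Agent.S7635
import Groth.Agent.S0843
import Groth.Agent.S0844
import Groth.Agent.Lib.Euler2.PnDet
import Groth.Agent.Lib.CMReg18.PullVb
import Groth.Agent.Lib.CMReg18.Resolution
import Groth.Agent.Lib.CMReg18.Linear
import Groth.Agent.Lib.CMReg18.Vanish
import Groth.Agent.Lib.CMReg18.Hypersurface
import Groth.Agent.Lib.ProjDual12.Serre
import Groth.Agent.Lib.ExtFil4.Uniq
import Groth.Agent.Lib.Twist.Tensor
import Groth.Agent.Lib.Twist.Pullback
import Groth.Agent.Lib.TensorNat17.Basic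
import Groth.Agent.Lib.CohFound.SerreVan

/-!
# Multiplication by pencils and the cohomology of bidegrees on the quadric surface
-/

set_option autoImplicit false
set_option linter.style.haveILetI false
set_option linter.unusedSectionVars false
set_option maxHeartbeats 1000000

universe u

open CategoryTheory CategoryTheory.Limits AlgebraicGeometry TopologicalSpace Opposite
open scoped TensorProduct

noncomputable section

namespace Groth.Agent.LMSimple8.Quad

variable (k : Type u) [Field k]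

section general

variable {X : Scheme.{u}} [X.Over (Spec (CommRingCat.of k))]

/-- Left tensoring by a fixed module, as a functor. -/
def tensorL (M : X.Modules) : X.Modules ⥤ X.Modules where
  obj N := CohB1.tensorMod M N
  map f := M2.tensorMap (𝟙 M) f
  map_id N := M2.tensorMap_id M N
  map_comp f g := by rw [← M2.tensorMap_comp, Category.comp_id]

def tensorLIso (M : X.Modules) : M2.tensorR M ≅ tensorL M :=
  NatIso.ofComponents (fun N => M2.tensorComm N M) fun f => M2.tensorComm_natural f (𝟙 M)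

instance (M : X.Modules) : (tensorL M).Additive := Functor.additive_of_iso (tensorLIso M)

theorem whisker_exchange {A B C D : X.Modules} (φ : A ⟶ B) (g : C ⟶ D) :
    M2.tensorMap (𝟙 A) g ≫ M2.tensorMap φ (𝟙 D) = M2.tensorMap φ (𝟙 C) ≫ M2.tensorMap (𝟙 B) g := by
  rw [← M2.tensorMap_comp, ← M2.tensorMap_comp, Category.id_comp, Category.comp_id, Category.id_comp,
    Category.comp_id]

/-- A decomposition of the identity. -/
theorem decomp {r : ℕ} {A : X.Modules} {L : Fin r → X.Modules} (e : A ≅ ∐ L) :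
    ∃ (π : ∀ j, A ⟶ L j) (ι : ∀ j, L j ⟶ A), ∑ j, π j ≫ ι j = 𝟙 A := by
  classical
  haveI : HasFiniteBiproducts X.Modules := Abelian.hasFiniteBiproducts
  let f := e ≪≫ (biproduct.isoCoproduct L).symm
  refine ⟨fun j => f.hom ≫ biproduct.π L j, fun j => biproduct.ι L j ≫ f.inv, ?_⟩
  simp only [Category.assoc]
  rw [← Preadditive.comp_sum]
  simp only [← Category.assoc (biproduct.π L _)]
  rw [← Preadditive.sum_comp, biproduct.total, Category.id_comp, f.hom_inv_id]

theorem eq_sum {F : X.Modules ⥤ X.Modules} [F.Additive] {r : ℕ} {A : X.Modules} {L : Fin r → X.Modules}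
    (π : ∀ j, A ⟶ L j) (ι : ∀ j, L j ⟶ A) (h : ∑ j, π j ≫ ι j = 𝟙 A) (n : ℕ) (y : Coh.HH X (F.obj A) n) :
    y = ∑ j, CurveCoh17.hmap k (F.map (ι j)) n (CurveCoh17.hmap k (F.map (π j)) n y) := by
  conv_lhs => rw [← CurveCoh17.hmap_id k (F.obj A) n y, ← F.map_id, ← h, F.map_sum]
  simp only [F.map_comp]
  refine (CMReg18.hmap_sum k _ _ n y).trans (Finset.sum_congr rfl fun j _ => ?_)
  exact CurveCoh17.hmap_comp k _ _ n y

include k in
/-- Vanishing through a decomposition. -/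
theorem subsingleton_tensor_coprod {r : ℕ} {A N L : X.Modules} (e : A ≅ ∐ fun _ : Fin r => L) {n : ℕ}
    (h : Subsingleton (Coh.HH X (CohB1.tensorMod L N) n)) : Subsingleton (Coh.HH X (CohB1.tensorMod A N) n) := by
  obtain ⟨π, ι, hπ⟩ := decomp e
  refine subsingleton_of_forall_eq 0 fun y => ?_
  refine (eq_sum k (F := M2.tensorR N) π ι hπ n y).trans (Finset.sum_eq_zero fun j _ => ?_)
  exact (congrArg _ (h.elim _ 0)).trans (map_zero _)

include k in
theorem subsingleton_tensor_biprod {A B N : X.Modules} {n : ℕ}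
    (hA : Subsingleton (Coh.HH X (CohB1.tensorMod A N) n)) (hB : Subsingleton (Coh.HH X (CohB1.tensorMod B N) n)) :
    Subsingleton (Coh.HH X (CohB1.tensorMod (A ⊞ B) N) n) := by
  refine subsingleton_of_forall_eq 0 fun y => ?_
  let T := M2.tensorR N
  have hsum : T.map (biprod.fst : A ⊞ B ⟶ A) ≫ T.map biprod.inl +
      T.map (biprod.snd : A ⊞ B ⟶ B) ≫ T.map biprod.inr = 𝟙 (CohB1.tensorMod (A ⊞ B) N) := by
    refine (congrArg₂ (· + ·) (T.map_comp _ _).symm (T.map_comp _ _).symm).trans ?_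
    exact (Functor.map_add T).symm.trans ((congrArg T.map biprod.total).trans (T.map_id _))
  refine (CurveCoh17.hmap_id k _ n y).symm.trans ?_
  refine (congrArg (fun a => CurveCoh17.hmap k a n y) hsum.symm).trans ?_
  refine (CMReg18.hmap_add k _ _ n y).trans ?_
  refine (congrArg₂ (· + ·) (CurveCoh17.hmap_comp k _ _ n y) (CurveCoh17.hmap_comp k _ _ n y)).trans ?_
  refine (congrArg₂ (· + ·) ((congrArg _ (hA.elim _ 0)).trans (map_zero _))
    ((congrArg _ (hB.elim _ 0)).trans (map_zero _))).trans (add_zero 0)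

variable {Q P : X.Modules} (g : Q ⟶ P)

/-- Surjectivity on sections after tensoring. -/
def Surj (M : X.Modules) : Prop :=
  Function.Surjective (CurveCoh17.hmap k ((tensorL M).map g) 0)

/-- The surjectivity passes along maps surjective against the summand. -/
theorem surj_of_surjective {r : ℕ} {L : X.Modules} (eP : P ≅ ∐ fun _ : Fin r => L) {M N : X.Modules}
    (φ : M ⟶ N) (hφ : Function.Surjective (CurveCoh17.hmap k ((M2.tensorR L).map φ) 0)) (h : Surj k g M) :
    Surj k g N := by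
  obtain ⟨π, ι, hπ⟩ := decomp eP
  intro y
  choose x hx using fun j => hφ (CurveCoh17.hmap k ((tensorL N).map (π j)) 0 y)
  obtain ⟨z, hz⟩ := h (∑ j, CurveCoh17.hmap k ((tensorL M).map (ι j)) 0 (x j))
  refine ⟨CurveCoh17.hmap k ((M2.tensorR Q).map φ) 0 z, ?_⟩
  refine (CurveCoh17.hmap_comp k _ _ 0 z).symm.trans ?_
  refine (congrArg (fun a => CurveCoh17.hmap k a 0 z) (whisker_exchange φ g).symm).trans ?_
  refine (CurveCoh17.hmap_comp k _ _ 0 z).trans ?_
  refine (congrArg (CurveCoh17.hmap k _ 0) hz).trans ((map_sum _ _ _).trans ?_)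
  refine Eq.trans (Finset.sum_congr rfl fun j _ => ?_) (eq_sum k (F := tensorL N) π ι hπ 0 y).symm
  rw [← hx j]
  refine (CurveCoh17.hmap_comp k _ _ 0 _).symm.trans (Eq.trans ?_ (CurveCoh17.hmap_comp k _ _ 0 _))
  exact congrArg (fun a => CurveCoh17.hmap k a 0 (x j)) (whisker_exchange φ (ι j))

theorem surj_coprod {s : ℕ} {M A : X.Modules} (e : A ≅ ∐ fun _ : Fin s => M) (h : Surj k g M) : Surj k g A := by
  obtain ⟨π, ι, hπ⟩ := decomp e
  intro y
  choose z hz using fun j => h (CurveCoh17.hmap k ((M2.tensorR P).map (π j)) 0 y)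
  refine ⟨∑ j, CurveCoh17.hmap k ((M2.tensorR Q).map (ι j)) 0 (z j), ?_⟩
  refine (map_sum _ _ _).trans ?_
  refine Eq.trans (Finset.sum_congr rfl fun j _ => ?_) (eq_sum k (F := M2.tensorR P) π ι hπ 0 y).symm
  rw [← hz j]
  refine (CurveCoh17.hmap_comp k _ _ 0 _).symm.trans (Eq.trans ?_ (CurveCoh17.hmap_comp k _ _ 0 _))
  exact congrArg (fun a => CurveCoh17.hmap k a 0 (z j)) (whisker_exchange (ι j) g).symm

theorem surj_of_iso {r : ℕ} {L : X.Modules} (eP : P ≅ ∐ fun _ : Fin r => L) {M N : X.Modules} (e : M ≅ N)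
    (h : Surj k g M) : Surj k g N :=
  surj_of_surjective k g eP e.hom
    (CurveCoh17.hequiv k ((M2.tensorR L).mapIso e) 0).surjective h

theorem surj_of_subsingleton {M : X.Modules} (h : Subsingleton (Coh.HH X (CohB1.tensorMod P M) 0)) :
    Surj k g M := fun y => by
  exact ⟨0, ((CurveCoh17.hequiv k (M2.tensorComm M P) 0).toEquiv.subsingleton_congr.2 h).elim _ _⟩

theorem surj_structure (h : Function.Surjective (CurveCoh17.hmap k g 0)) :
    Surj k g (Coh.structureModule X) := fun y => by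
  obtain ⟨z, hz⟩ := h (CurveCoh17.hmap k (M2.tensorLUnit P).hom 0 y)
  refine ⟨CurveCoh17.hmap k (M2.tensorLUnit Q).inv 0 z, ?_⟩
  apply (CurveCoh17.hequiv k (M2.tensorLUnit P) 0).injective
  show CurveCoh17.hmap k (M2.tensorLUnit P).hom 0 _ = CurveCoh17.hmap k (M2.tensorLUnit P).hom 0 y
  refine (CurveCoh17.hmap_comp k _ _ 0 _).symm.trans ?_
  refine (congrArg (fun a => CurveCoh17.hmap k a 0 _) (M2.tensorLUnit_natural g)).trans ?_
  refine (CurveCoh17.hmap_comp k _ _ 0 _).trans ?_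
  rw [← hz]
  refine congrArg (CurveCoh17.hmap k g 0) ?_
  exact (CurveCoh17.hequiv k (M2.tensorLUnit Q) 0).apply_symm_apply z

include k in
/-- The vanishing for the kernel. -/
theorem kernel_h1 [Epi g] {M : X.Modules} (hM : PicF.IsInvertible M) (h : Surj k g M)
    (hQ : Subsingleton (Coh.HH X (CohB1.tensorMod Q M) 1)) :
    Subsingleton (Coh.HH X (CohB1.tensorMod (kernel g) M) 1) := by
  let S : ShortComplex X.Modules := ShortComplex.mk (kernel.ι g) g (kernel.condition g)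
  have hS : S.ShortExact := ShortComplex.ShortExact.mk' (ShortComplex.exact_kernel g) inferInstance ‹_›
  have hT := CohFound.shortExact_tensor_invertible hS hM
  refine subsingleton_of_forall_eq 0 fun x => ?_
  obtain ⟨y, rfl⟩ := (CurveCoh17.exact_hdelta_hmap k hT 0 x).1 (hQ.elim _ _)
  obtain ⟨z, hz⟩ := h (CurveCoh17.hmap k (M2.tensorComm P M).hom 0 y)
  have hy : CurveCoh17.hmap k ((M2.tensorR M).map g) 0
      (CurveCoh17.hmap k (M2.tensorComm Q M).inv 0 z) = y := by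
    apply (CurveCoh17.hequiv k (M2.tensorComm P M) 0).injective
    show CurveCoh17.hmap k (M2.tensorComm P M).hom 0 _ = CurveCoh17.hmap k (M2.tensorComm P M).hom 0 y
    refine (CurveCoh17.hmap_comp k _ _ 0 _).symm.trans ?_
    refine (congrArg (fun a => CurveCoh17.hmap k a 0 _) (M2.tensorComm_natural g (𝟙 M))).trans ?_
    refine (CurveCoh17.hmap_comp k _ _ 0 _).trans ?_
    rw [← hz]
    refine congrArg (CurveCoh17.hmap k _ 0) ?_
    exact (CurveCoh17.hequiv k (M2.tensorComm Q M) 0).apply_symm_apply z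
  exact (CurveCoh17.exact_hmap_hdelta k hT 0 y).2 ⟨_, hy⟩

include k in
theorem kernel_h2 [Epi g] {M : X.Modules} (hM : PicF.IsInvertible M)
    (hP : Subsingleton (Coh.HH X (CohB1.tensorMod P M) 1))
    (hQ : Subsingleton (Coh.HH X (CohB1.tensorMod Q M) 2)) :
    Subsingleton (Coh.HH X (CohB1.tensorMod (kernel g) M) 2) := by
  let S : ShortComplex X.Modules := ShortComplex.mk (kernel.ι g) g (kernel.condition g)
  have hS : S.ShortExact := ShortComplex.ShortExact.mk' (ShortComplex.exact_kernel g) inferInstance ‹_›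
  have hT := CohFound.shortExact_tensor_invertible hS hM
  refine subsingleton_of_forall_eq 0 fun x => ?_
  obtain ⟨y, rfl⟩ := (CurveCoh17.exact_hdelta_hmap k hT 1 x).1 (hQ.elim _ _)
  exact (congrArg _ (hP.elim y 0)).trans (map_zero _)

end general

/-- The pencil sequence on the line. -/
theorem exists_pencil {X : Scheme.{u}} (q : X ⟶ CohB1.ProjSpace 1 k) :
    ∃ S : ShortComplex X.Modules, S.ShortExact ∧
      Nonempty (S.X₁ ≅ (Scheme.Modules.pullback q).obj (_root_.Twist.twistProjSpace 1 k (-1))) ∧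
      Nonempty (S.X₂ ≅ FlatMod.freeMod X 2) ∧
      Nonempty (S.X₃ ≅ (Scheme.Modules.pullback q).obj (_root_.Twist.twistProjSpace 1 k 1)) := by
  let p := CohB1.ProjSpace.toSpec 1 k
  haveI : IsProper p := ProjSpace.isProper_toSpec 1 k
  haveI := ProjSpace.smoothOfRelativeDimension_toSpec 1 k
  have hd := Omega12.isUniversal_dOmega (f := p)
  obtain ⟨u, hu, ⟨α⟩⟩ := Euler2.exists_euler_projSpace 1 k hd
  haveI := hu
  obtain ⟨ω⟩ := Euler2.nonempty_det_omega_projSpace 1 k (ExtFil4.isExtPow_one (Omega.sheaf p))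
  let S : ShortComplex (CohB1.ProjSpace 1 k).Modules := ShortComplex.mk (kernel.ι u) u (kernel.condition u)
  have hS : S.ShortExact := ShortComplex.ShortExact.mk' (ShortComplex.exact_kernel u) inferInstance hu
  obtain ⟨t⟩ := Twist.nonempty_tensor_iso (CohB1.polyGrading 1 k) (-((1 : ℕ) : ℤ) - 1) 1
    (Twist.iSup_basicOpen_one 1 k)
  refine ⟨S.map (Scheme.Modules.pullback q), CMReg18.shortExact_pullback q S hS
      (KFlat.Sch.isFlat_of_isFinLocFree (M2.isFinLocFree_of_isInvertible (Twist.isInvertible_twistProjSpace 1 k 1))),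
    ⟨(Scheme.Modules.pullback q).mapIso (α.symm ≪≫ M2.tensorIso ω (Iso.refl _) ≪≫ t ≪≫
      eqToIso (congrArg (_root_.Twist.twist (CohB1.polyGrading 1 k)) (by norm_num)))⟩,
    ⟨(Scheme.Modules.pullback q).mapIso (M2.freeModPullbackIso p 2) ≪≫ M2.freeModPullbackIso q 2⟩, ⟨Iso.refl _⟩⟩

/-- A step of the induction along a pencil. -/
theorem surj_step {X : Scheme.{u}} [X.Over (Spec (CommRingCat.of k))] (q : X ⟶ CohB1.ProjSpace 1 k)
    {Q P : X.Modules} (g : Q ⟶ P) {r : ℕ} {L : X.Modules} (eP : P ≅ ∐ fun _ : Fin r => L) {M : X.Modules}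
    (hM : PicF.IsInvertible M) (hL : PicF.IsInvertible L) (h : Surj k g M)
    (hv : Subsingleton (Coh.HH X (CohB1.tensorMod (CohB1.tensorMod
      ((Scheme.Modules.pullback q).obj (_root_.Twist.twistProjSpace 1 k (-1))) M) L) 1)) :
    Surj k g (CohB1.tensorMod ((Scheme.Modules.pullback q).obj (_root_.Twist.twistProjSpace 1 k 1)) M) := by
  obtain ⟨S, hS, ⟨e₁⟩, ⟨e₂⟩, ⟨e₃⟩⟩ := exists_pencil k q
  have hT := CohFound.shortExact_tensor_invertible hS hM
  have hU := CohFound.shortExact_tensor_invertible hT hL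
  refine surj_of_iso k g eP (M2.tensorIso e₃ (Iso.refl M)) ?_
  refine surj_of_surjective k g eP ((M2.tensorR M).map S.g) ?_
    (surj_coprod k g (M2.tensorIso e₂ (Iso.refl M) ≪≫ M2.freeModTensorIso X 2 M) h)
  intro y
  haveI := (CurveCoh17.hequiv k (M2.tensorIso (M2.tensorIso e₁ (Iso.refl M)) (Iso.refl L)) 1).toEquiv.subsingleton_congr.2 hv
  exact (CurveCoh17.exact_hmap_hdelta k hU 0 y).1 (Subsingleton.elim (α := Coh.HH X (CohB1.tensorMod (CohB1.tensorMod S.X₁ M) L) 1) _ _)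

section quadric

abbrev XX : Scheme.{u} := pullback (CohB1.ProjSpace.toSpec 1 k) (CohB1.ProjSpace.toSpec 1 k)

abbrev p₁ : XX k ⟶ CohB1.ProjSpace 1 k := pullback.fst (CohB1.ProjSpace.toSpec 1 k) (CohB1.ProjSpace.toSpec 1 k)

abbrev p₂ : XX k ⟶ CohB1.ProjSpace 1 k := pullback.snd (CohB1.ProjSpace.toSpec 1 k) (CohB1.ProjSpace.toSpec 1 k)

/-- `O(a, b)`. -/
abbrev Ob (a b : ℤ) : (XX k).Modules :=
  CohB1.tensorMod ((Scheme.Modules.pullback (p₁ k)).obj (_root_.Twist.twistProjSpace 1 k a))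
    ((Scheme.Modules.pullback (p₂ k)).obj (_root_.Twist.twistProjSpace 1 k b))

instance : (XX k).Over (Spec (CommRingCat.of k)) := ⟨p₁ k ≫ CohB1.ProjSpace.toSpec 1 k⟩

theorem isInvertible_Ob (a b : ℤ) : PicF.IsInvertible (Ob k a b) :=
  M2.isInvertible_tensor (Twist.isInvertible_pullback _ (Twist.isInvertible_twistProjSpace 1 k a))
    (Twist.isInvertible_pullback _ (Twist.isInvertible_twistProjSpace 1 k b))

theorem nonempty_Ob_tensor (a b c d : ℤ) :
    Nonempty (CohB1.tensorMod (Ob k a b) (Ob k c d) ≅ Ob k (a + c) (b + d)) := by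
  have hcov := Twist.iSup_basicOpen_one 1 k
  obtain ⟨t⟩ := Twist.nonempty_tensor_iso (CohB1.polyGrading 1 k) a c hcov
  obtain ⟨t'⟩ := Twist.nonempty_tensor_iso (CohB1.polyGrading 1 k) b d hcov
  exact ⟨M2.tensorInterchange _ _ _ _ ≪≫ M2.tensorIso
    ((M2.pullTensorIso (p₁ k) _ _).symm ≪≫ (Scheme.Modules.pullback (p₁ k)).mapIso t)
    ((M2.pullTensorIso (p₂ k) _ _).symm ≪≫ (Scheme.Modules.pullback (p₂ k)).mapIso t')⟩

theorem nonempty_pull_zero {X : Scheme.{u}} (q : X ⟶ CohB1.ProjSpace 1 k) :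
    Nonempty ((Scheme.Modules.pullback q).obj (_root_.Twist.twistProjSpace 1 k 0) ≅ Coh.structureModule X) := by
  obtain ⟨z⟩ := Twist.nonempty_twist_zero_iso (CohB1.polyGrading 1 k)
  exact ⟨(Scheme.Modules.pullback q).mapIso z ≪≫ PicLoc.pullbackStructureIso q⟩

theorem nonempty_pull_fst (a : ℤ) :
    Nonempty ((Scheme.Modules.pullback (p₁ k)).obj (_root_.Twist.twistProjSpace 1 k a) ≅ Ob k a 0) :=
  (nonempty_pull_zero k (p₂ k)).map fun z => (M2.tensorRUnit _).symm ≪≫ M2.tensorIso (Iso.refl _) z.symm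

theorem nonempty_pull_snd (b : ℤ) :
    Nonempty ((Scheme.Modules.pullback (p₂ k)).obj (_root_.Twist.twistProjSpace 1 k b) ≅ Ob k 0 b) :=
  (nonempty_pull_zero k (p₁ k)).map fun z => (M2.tensorLUnit _).symm ≪≫ M2.tensorIso z.symm (Iso.refl _)

theorem nonempty_Ob_zero : Nonempty (Ob k 0 0 ≅ Coh.structureModule (XX k)) := by
  obtain ⟨z₁⟩ := nonempty_pull_zero k (p₁ k)
  obtain ⟨z₂⟩ := nonempty_pull_zero k (p₂ k)
  exact ⟨M2.tensorIso z₁ z₂ ≪≫ M2.tensorLUnit _⟩

theorem nonempty_kunneth (a b : ℤ) (n : ℕ) :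
    letI : (CohB1.ProjSpace 1 k).Over (Spec (CommRingCat.of k)) := ⟨CohB1.ProjSpace.toSpec 1 k⟩
    Nonempty ((Π p : Fin (n + 1), Coh.HH (CohB1.ProjSpace 1 k) (_root_.Twist.twistProjSpace 1 k a) (p : ℕ) ⊗[k]
      Coh.HH (CohB1.ProjSpace 1 k) (_root_.Twist.twistProjSpace 1 k b) (n - (p : ℕ))) ≃ₗ[k]
      Coh.HH (XX k) (Ob k a b) n) := by
  letI : (CohB1.ProjSpace 1 k).Over (Spec (CommRingCat.of k)) := ⟨CohB1.ProjSpace.toSpec 1 k⟩
  haveI : IsProper ((CohB1.ProjSpace 1 k) ↘ Spec (CommRingCat.of k)) := ProjSpace.isProper_toSpec 1 k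
  haveI : CompactSpace ↥(CohB1.ProjSpace 1 k) :=
    QuasiCompact.compactSpace_of_compactSpace ((CohB1.ProjSpace 1 k) ↘ Spec (CommRingCat.of k))
  exact Groth.Agent.S7635.result k (CohB1.ProjSpace 1 k) (CohB1.ProjSpace 1 k) _
    (Twist.isQCoh_twistProjSpace 1 k a) _ (Twist.isQCoh_twistProjSpace 1 k b) n

theorem subsingleton_Ob (a b : ℤ) (n : ℕ)
    (h : ∀ p ≤ n, (¬ (p = 0 ∧ 0 ≤ a) ∧ ¬ (p = 1 ∧ a ≤ -2)) ∨ (¬ (n - p = 0 ∧ 0 ≤ b) ∧ ¬ (n - p = 1 ∧ b ≤ -2))) :
    Subsingleton (Coh.HH (XX k) (Ob k a b) n) := by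
  letI : (CohB1.ProjSpace 1 k).Over (Spec (CommRingCat.of k)) := ⟨CohB1.ProjSpace.toSpec 1 k⟩
  obtain ⟨e⟩ := nonempty_kunneth k a b n
  refine e.toEquiv.subsingleton_congr.1 (@Pi.instSubsingleton _ _ fun p => ?_)
  rcases h p (Nat.le_of_lt_succ p.2) with ⟨h0, h1⟩ | ⟨h0, h1⟩
  · haveI := Groth.Agent.S0844.result k 1 a p h0 (by simpa using h1)
    infer_instance
  · haveI := Groth.Agent.S0844.result k 1 b (n - p) h0 (by simpa using h1)
    infer_instance

theorem h0_Ob_eq (a b : ℕ) : Module.finrank k (Coh.HH (XX k) (Ob k a b) 0) = (a + 1) * (b + 1) := by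
  letI : (CohB1.ProjSpace 1 k).Over (Spec (CommRingCat.of k)) := ⟨CohB1.ProjSpace.toSpec 1 k⟩
  obtain ⟨e⟩ := nonempty_kunneth k (a : ℤ) (b : ℤ) 0
  have h : ∀ c : ℕ, Module.finrank k
      (Coh.HH (CohB1.ProjSpace 1 k) (_root_.Twist.twistProjSpace 1 k (c : ℤ)) 0) = c + 1 := fun c => by
    rw [CMReg18.finrank_twist_h0 k 1 (c : ℤ), if_pos (Or.inl one_pos)]
    simp [show ((c : ℤ) + ((1 : ℕ) : ℤ)).toNat = c + 1 by omega]
  letI : Unique (Fin (0 + 1)) := { default := ⟨0, Nat.one_pos⟩, uniq := fun a => Fin.ext (Nat.lt_one_iff.1 a.2) }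
  let f := LinearEquiv.piUnique k fun p : Fin (0 + 1) =>
    Coh.HH (CohB1.ProjSpace 1 k) (_root_.Twist.twistProjSpace 1 k (a : ℤ)) (p : ℕ) ⊗[k]
      Coh.HH (CohB1.ProjSpace 1 k) (_root_.Twist.twistProjSpace 1 k (b : ℤ)) (0 - (p : ℕ))
  rw [← e.finrank_eq, f.finrank_eq, Module.finrank_tensorProduct]
  exact congrArg₂ (· * ·) (h a) (h b)

end quadric

end Groth.Agent.LMSimple8.Quad
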