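import Groth.Agent.Lib.LMSimple8.Ext2
import Groth.Agent.Lib.ShStab28.Stab
import Groth.Agent.Lib.NumPoly18.BigNef
import Groth.Agent.Lib.NumPoly18.InterLen
import Groth.Agent.Lib.NumPoly18.HodgeIndex
import Groth.Agent.Lib.VB17.Setup
import Groth.Agent.Lib.SerreDual8.RR
import Groth.Agent.Lib.LMEuler8.HomSheaf
import Groth.Agent.Lib.CohMop.Bidual
import Groth.Agent.Lib.SurfRR10.Proj

/-!
# Sections and second cohomology of torsion free modules on a surface with trivial canonical module
-/

set_option autoImplicit false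
set_option linter.style.haveILetI false
set_option linter.unusedSectionVars false
set_option backward.isDefEq.respectTransparency false
set_option backward.isDefEq.respectTransparency.types false
set_option maxHeartbeats 1600000

universe u

open CategoryTheory CategoryTheory.Limits AlgebraicGeometry TopologicalSpace Opposite StabCat
open Groth.Agent.ShStab28 (hilb)

noncomputable section

namespace Groth.Agent.LMSimple8

open Groth.Agent.RH26 (str gsp R1 InStalk Closed1)

theorem stalk_eq_zero_of_inj {X : Scheme.{u}} [IsIntegral X] {A B : X.Modules}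
    (hB : ∀ x, Function.Injective (B.presheaf.stalkSpecializes (gsp x))) (f : A ⟶ B)
    (h : ∀ a, RefHull.stalkMapₗ f (genericPoint X) a = 0) : f = 0 :=
  RankTwo11.hom_eq_zero_of_stalk f fun x a => hB x ((RH26.stalkMapₗ_stalkSpecializes f (gsp x) a).trans
    ((h _).trans (map_zero _).symm))

variable {k : Type u} [Field k] {X : Scheme.{u}} [X.Over (Spec (CommRingCat.of k))]
  [IsProper (X ↘ Spec (CommRingCat.of k))] [IsIntegral X] (hdim : topologicalKrullDim X = 2)
include k hdim

/-- A cokernel supported in codimension two has finite support. -/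
theorem dim_support_cokernel_le_zero {A B : X.Modules} (hA : Coh.IsCoh A) (hB : Coh.IsCoh B) (f : A ⟶ B)
    (h : ∀ x : X, ringKrullDim (X.presheaf.stalk x) ≤ 1 → Function.Surjective (RefHull.stalkMapₗ f x)) :
    topologicalKrullDim (CohB1.support (cokernel f)) ≤ 0 := by
  haveI : IsNoetherian X := CohFound.isNoetherian_of_isProper (X ↘ Spec (CommRingCat.of k))
  have hQ : Coh.IsCoh (cokernel f) := M1.isCoh_cokernel hA.1 hB f
  refine NumPoly18.dim_le_of_points (M1.isClosed_support hQ.2) fun x hx => ?_
  have hx1 : ¬ ringKrullDim (X.presheaf.stalk x) ≤ 1 := fun h1 => by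
    refine (M1.notMem_support_iff _ _).2 (fun q => ?_) hx
    obtain ⟨b, rfl⟩ := ((M1.epi_iff_stalk (cokernel.π f)).1 inferInstance _ q)
    obtain ⟨a, rfl⟩ := h x h1 b
    show RefHull.stalkMapₗ (cokernel.π f) _ (RefHull.stalkMapₗ f _ a) = 0
    rw [← stalkMap_comp, cokernel.condition]
    show (M1.stalkAb _).map (0 : A ⟶ cokernel f) a = 0
    rw [Functor.map_zero]; rfl
  have hcl : closure ({x} : Set X) = {x} := by
    refine Set.Subset.antisymm (fun z hz => ?_) subset_closure
    have hspec : x ⤳ z := specializes_iff_mem_closure.2 hz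
    by_contra hne
    have h2 := RH26.two_le_of_not_le_one hx1
    have hzle : ringKrullDim (X.presheaf.stalk z) ≤ 2 :=
      (VB17.ringKrullDim_stalk_le_topologicalKrullDim z).trans hdim.le
    rw [ringKrullDim_stalk_eq_coheight] at h2 hzle
    have hlt : z < x := lt_of_le_not_ge hspec fun h' =>
      hne (Set.mem_singleton_iff.2 (Specializes.antisymm (show z ⤳ x from h') hspec).eq)
    have h2' : (2 : ℕ∞) ≤ Order.coheight x := WithBot.coe_le_coe.1 h2
    have hz' : Order.coheight z ≤ (2 : ℕ∞) := WithBot.coe_le_coe.1 hzle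
    have hfin : Order.coheight z < ⊤ := lt_of_le_of_lt hz' (by decide)
    have h3 := Order.coheight_strictAnti hlt (lt_of_le_of_lt (Order.coheight_anti hlt.le) hfin)
    exact absurd (lt_of_le_of_lt h2' h3) (not_lt.2 hz')
  rw [hcl]
  exact InterLen.dim_le_zero_of_finite (k := k) (hcl ▸ isClosed_closure) (Set.finite_singleton x)

variable {L : X.Modules} (hL : CohB1.IsAmple L)
include hL

/-- The multiplicity is the generic rank times that of the structure sheaf. -/
theorem alpha_two_eq {F : X.Modules} (hF : Coh.IsCoh F) :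
    alpha 2 (hilb k X L F) = NumPoly18.lenAt F (genericPoint X) * alpha 2 (hilb k X L (Coh.structureModule X)) := by
  haveI : IsNoetherian X := CohFound.isNoetherian_of_isProper (X ↘ Spec (CommRingCat.of k))
  have key : ∀ {G : X.Modules}, Coh.IsCoh G → alpha 2 (hilb k X L G) =
      NumPoly18.lenAt G (genericPoint X) * NumPoly18.md k (fun _ : Fin 2 => L) (NumPoly18.ptMod (genericPoint X)) :=
    fun {G} hG => by
    rw [← NumPoly18.md_eq_rank_mul (k := k) hdim (L := fun _ : Fin 2 => L) (fun _ => hL.1) hG,
      NumPoly18.md_const_eq_coeff (ShStab28.natDegree_hilb_le k hL.1 hG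
        (le_trans Topology.IsInducing.subtypeVal.topologicalKrullDim_le (by rw [hdim]; rfl))) (ShStab28.hilb_spec k hL.1 hG)]
    rfl
  have hO : NumPoly18.lenAt (Coh.structureModule X) (genericPoint X) = 1 := by
    rw [NumPoly18.lenAt, ← (str (genericPoint X)).length_eq]
    letI := (RH26.isField_η (X := X)).toField
    rw [show Module.length (X.presheaf.stalk (genericPoint X)) (X.presheaf.stalk (genericPoint X)) = 1 from
      Module.length_eq_one _ _]
    rfl
  rw [key hF, key (M1.isCoh_structureModule X), hO, one_mul]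

variable [IsAlgClosed k] [CharZero k] [Smooth (X ↘ Spec (CommRingCat.of k))]
  (hK : ExtPow.IsExtPow 2 (Omega.sheaf (X ↘ Spec (CommRingCat.of k))) (Coh.structureModule X))
include hK

/-- The Hilbert polynomial of the structure sheaf is even. -/
theorem alpha_one_structure : alpha 1 (hilb k X L (Coh.structureModule X)) = 0 := by
  haveI : SmoothOfRelativeDimension 2 (X ↘ Spec (CommRingCat.of k)) := SurfRR10.smoothRelDim (k := k) hdim
  haveI : IsNoetherian X := CohFound.isNoetherian_of_isProper (X ↘ Spec (CommRingCat.of k))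
  have hd : topologicalKrullDim X ≤ ((2 : ℕ) : WithBot ℕ∞) := by rw [hdim]; rfl
  set P := hilb k X L (Coh.structureModule X) with hP
  have heul : ∀ {M : X.Modules}, Coh.IsCoh M → Curv2.euler k X M = (Module.finrank k (Coh.HH X M 0) : ℤ) -
      Module.finrank k (Coh.HH X M 1) + Module.finrank k (Coh.HH X M 2) := fun {M} hM => by
    rw [Curv2.euler, finsum_eq_finsetSum_of_support_subset (s := Finset.range 3)]
    · simp [Finset.sum_range_succ]; ring
    · intro p hp
      simp only [Finset.coe_range, Set.mem_Iio]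
      by_contra hlt
      haveI : Subsingleton (Coh.HH X M p) :=
        NumPoly18.subsingleton_HH_of_support (k := k) hM (NumPoly18.dim_support_le hd _) (show 2 < p by omega)
      exact hp (by simp [Module.finrank_zero_of_subsingleton])
  have hsym : ∀ d : ℕ, P.eval (-(d : ℚ)) = P.eval (d : ℚ) := fun d => by
    obtain ⟨M, hM, ⟨e⟩⟩ := M2.exists_inverse (M2.isInvertible_tensorPow hL.1 d)
    let e' : CohB1.tensorMod M (CohB1.tensorPow L d) ≅ Coh.structureModule X := M2.tensorComm _ _ ≪≫ e
    have h := congrArg (Polynomial.eval (-(d : ℚ))) (hilb_inverse (k := k) hL.1 (Snapper.isCoh_of_isInvertible hM) d e')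
    rw [Polynomial.eval_comp, Polynomial.eval_add, Polynomial.eval_X, Polynomial.eval_C, neg_add_cancel] at h
    have h0 := ShStab28.hilb_spec k hL.1 (Snapper.isCoh_of_isInvertible hM) 0
    rw [Nat.cast_zero, h] at h0
    rw [← hP] at h0
    rw [← h0, hP, ← ShStab28.hilb_spec k hL.1 (M1.isCoh_structureModule X) d]
    congr 1
    refine (CurveCoh17.euler_iso (M2.tensorRUnit M)).trans ?_
    rw [show ShStab.twist X L (Coh.structureModule X) d = CohB1.tensorMod (Coh.structureModule X) (CohB1.tensorPow L d) from rfl,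
      CurveCoh17.euler_iso (M2.tensorLUnit (CohB1.tensorPow L d)),
      heul (Snapper.isCoh_of_isInvertible hM), heul (Snapper.isCoh_of_isInvertible (M2.isInvertible_tensorPow hL.1 d))]
    have hdual : ∀ p : ℕ, p ≤ 2 → Module.finrank k (Coh.HH X M p) =
        Module.finrank k (Coh.HH X (CohB1.tensorPow L d) (2 - p)) := fun p hp => by
      rw [SerreDual8.finrank_duality 2 hK hM e (p := p) hp, (CurveCoh17.hequiv k (M2.tensorLUnit _) (2 - p)).finrank_eq]
    rw [hdual 0 (by omega), hdual 1 (by omega), hdual 2 le_rfl]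
    ring
  have heq : P.comp (-Polynomial.X) = P := by
    refine Polynomial.eq_of_infinite_eval_eq _ _ (Set.Infinite.mono (s := Set.range (Nat.cast : ℕ → ℚ)) ?_
      (Set.infinite_range_of_injective Nat.cast_injective))
    rintro _ ⟨d, rfl⟩
    show (P.comp (-Polynomial.X)).eval (d : ℚ) = P.eval (d : ℚ)
    rw [Polynomial.eval_comp, Polynomial.eval_neg, Polynomial.eval_X, hsym]
  have h2 := ShStab28.natDegree_hilb_le k hL.1 (M1.isCoh_structureModule X) (d := 2) (NumPoly18.dim_support_le hd _)
  have h1 : P.coeff 1 = 0 := by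
    have hP' : P = Polynomial.C (P.coeff 0) + Polynomial.C (P.coeff 1) * Polynomial.X + Polynomial.C (P.coeff 2) * Polynomial.X ^ 2 := by
      conv_lhs => rw [P.as_sum_range_C_mul_X_pow' (Nat.lt_succ_of_le h2)]
      simp [Finset.sum_range_succ]
    have e1 := congrArg (Polynomial.eval 1) heq
    rw [Polynomial.eval_comp, Polynomial.eval_neg, Polynomial.eval_X, hP'] at e1
    simp at e1
    linarith
  simp [alpha, h1]

/-- No maps to the structure sheaf means no second cohomology. -/
theorem subsingleton_h2 {V : X.Modules} (hV : Coh.IsCoh V)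
    (hsp : ∀ x, Function.Injective (V.presheaf.stalkSpecializes (gsp x)))
    (hhom : ∀ f : V ⟶ Coh.structureModule X, f = 0) : Subsingleton (Coh.HH X V 2) := by
  haveI : SmoothOfRelativeDimension 2 (X ↘ Spec (CommRingCat.of k)) := SurfRR10.smoothRelDim (k := k) hdim
  haveI : IsNoetherian X := CohFound.isNoetherian_of_isProper (X ↘ Spec (CommRingCat.of k))
  have hX : Pi1.IsNormalScheme X := RH26.isNormalScheme_of_regular fun x => SurfRR10.regular (k := k) x
  let W := RefHull.ddual V
  let β : V ⟶ W := RefHull.bidualMap V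
  have hWc : Coh.IsCoh W := RH26.isCoh_dual (RH26.isCoh_dual hV)
  have hWcl : Closed1 W := RH26.closed1_dual hX (RH26.isCoh_dual hV)
  have hWr := (RH26.isReflexive_iff_stalks hWc).1 ((RH26.isReflexive_iff_closed1 hX hWc).2 hWcl)
  have hWf : FlatMod.IsFinLocFree W := RH26.isFinLocFree_of_stalks hWc fun x => by
    haveI := SurfRR10.regular (k := k) x
    haveI : Module.IsReflexive (X.presheaf.stalk x) (W.presheaf.stalk x) := hWr x
    haveI := M1.finite_stalk hWc.1 hWc.2 x
    exact RH26.free_of_isReflexive_regular ((VB17.ringKrullDim_stalk_le_topologicalKrullDim x).trans hdim.le) _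
  have hβη := (RH26.bijective_bidual_stalk_iff hV _).2 (RH26.isReflexiveAt_generic hV)
  haveI : Mono β := mono_of_injective_η hsp β hβη.1
  have hQd := dim_support_cokernel_le_zero (k := k) hdim hV hWc β fun x hx =>
    ((RH26.bijective_bidual_stalk_iff hV x).2 (RH26.isReflexiveAt_of_dim_le_one hX hV (hsp x) hx)).2
  have hQ : Coh.IsCoh (cokernel β) := M1.isCoh_cokernel hV.1 hWc β
  have hS : (ShortComplex.mk β (cokernel.π β) (cokernel.condition β)).ShortExact :=
    { exact := ShortComplex.exact_cokernel β }
  haveI hQ1 : Subsingleton (Coh.HH X (cokernel β) 1) :=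
    NumPoly18.subsingleton_HH_of_support (k := k) hQ (d := 0) hQd Nat.one_pos
  have hW2 : Subsingleton (Coh.HH X W 2) := by
    haveI := CohFound.finite_HH_of_isProper (A := k) W hWc 2
    refine (Module.finrank_zero_iff (R := k)).1 ?_
    rw [SerreDual8.finrank_duality_locFree (k := k) 2 hK hWf (p := 2) le_rfl]
    haveI : ModSite.HasSheafHom (O := X.sheaf) W := CohMop.isLeftAdjoint_tenR _
    haveI := LMEuler8.isIso_toIhom W (Coh.structureModule X) (M1.isFP_of_isFinLocFree hWf)
    rw [(CurveCoh17.hequiv k (asIso (LMEuler8.toIhom W (Coh.structureModule X))).symm (2 - 2)).finrank_eq]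
    haveI : Subsingleton (Coh.HH X (RefHull.homSh W (Coh.structureModule X)) 0) := by
      refine subsingleton_of_forall_eq 0 fun w => ?_
      obtain ⟨θ, rfl⟩ := (CurveCoh17.hh0 (RefHull.homSh W (Coh.structureModule X))).symm.surjective w
      obtain ⟨φ, hφ⟩ := RH26.exists_hom_of_stalkFamily W (Coh.structureModule X) (fun x => θ.1 ⟨x, trivial⟩) fun U m x hx => by
        obtain ⟨U', hU', j, n, hn⟩ := RefHull.isLocSect_of_mem θ U (homOfLE le_top) m ⟨x, hx⟩
        exact ⟨U', hU', j.le, n, fun y hy => (hn ⟨y, hy⟩).symm⟩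
      have h0 : φ = 0 := stalk_eq_zero_of_inj (RH26.closed1_structure hX).1 φ fun a => by
        obtain ⟨v, rfl⟩ := hβη.2 a
        rw [← stalkMap_comp, hhom (β ≫ φ)]
        show (M1.stalkAb _).map (0 : V ⟶ Coh.structureModule X) v = 0
        rw [Functor.map_zero]; rfl
      rw [show θ = 0 from Subtype.ext (funext fun p => LinearMap.ext fun v => by
        rw [← hφ p.1, h0]
        show (M1.stalkAb _).map (0 : W ⟶ Coh.structureModule X) v = 0
        rw [Functor.map_zero]; rfl), map_zero]
    exact Module.finrank_zero_of_subsingleton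
  refine subsingleton_of_forall_eq 0 fun x => ?_
  obtain ⟨y, rfl⟩ := (CurveCoh17.exact_hdelta_hmap k hS 1 x).1 (hW2.elim _ _)
  rw [hQ1.elim y 0]
  exact map_zero _

end Groth.Agent.LMSimple8
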