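import Groth.Agent.Lib.LMSimple8.Sat
import Groth.Agent.Lib.SmDim19.RelDimVariety
import Groth.Agent.Lib.RankTwo11.Proj

/-!
# Saturated line subsheaves of stable rank two modules
-/

set_option autoImplicit false
set_option linter.style.haveILetI false
set_option linter.unusedSectionVars false
set_option backward.isDefEq.respectTransparency false
set_option backward.isDefEq.respectTransparency.types false
set_option maxHeartbeats 1600000

universe u

open CategoryTheory CategoryTheory.Limits AlgebraicGeometry TopologicalSpace Opposite StabCat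
open Groth.Agent.ShStab28 (hilb)

noncomputable section

namespace Groth.Agent.LMSimple8

open Groth.Agent.RH26 (str gsp R1 InStalk Closed1)

theorem stalkMap_zero_apply {X : Scheme.{u}} {A B : X.Modules} (x : X) (a : A.presheaf.stalk x) :
    RefHull.stalkMapₗ (0 : A ⟶ B) x a = 0 := by
  show (M1.stalkAb _).map (0 : A ⟶ B) a = 0
  rw [Functor.map_zero]; rfl

/-- A module of generic length one has a generator. -/
theorem exists_gen_of_lenAt {X : Scheme.{u}} [IsIntegral X] {F : X.Modules}
    (h : NumPoly18.lenAt F (genericPoint X) = 1) :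
    ∃ g : F.presheaf.stalk (genericPoint X), Amp.Gen g := by
  have hl : Module.length (X.presheaf.stalk (genericPoint X)) (F.presheaf.stalk (genericPoint X)) = 1 := by
    unfold NumPoly18.lenAt at h
    have h' : (Module.length (X.presheaf.stalk (genericPoint X)) (F.presheaf.stalk (genericPoint X))).toNat = 1 := by
      exact_mod_cast h
    rcases ENat.ne_top_iff_exists.1 (show Module.length (X.presheaf.stalk (genericPoint X))
      (F.presheaf.stalk (genericPoint X)) ≠ ⊤ from fun e => by rw [e] at h'; simp at h') with ⟨n, hn⟩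
    rw [← hn] at h' ⊢
    simp only [ENat.toNat_coe] at h'
    rw [h']; rfl
  haveI : IsSimpleModule (X.presheaf.stalk (genericPoint X)) (F.presheaf.stalk (genericPoint X)) :=
    Module.length_eq_one_iff.1 hl
  haveI := IsSimpleModule.nontrivial (X.presheaf.stalk (genericPoint X)) (F.presheaf.stalk (genericPoint X))
  obtain ⟨g, hg⟩ := exists_ne (0 : F.presheaf.stalk (genericPoint X))
  refine ⟨g, fun r r' e => sub_eq_zero.1 ?_, fun b => ?_⟩
  · by_contra hr
    obtain ⟨c, hc⟩ := (RH26.isField_η (X := X)).mul_inv_cancel hr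
    apply hg
    simp only at e
    rw [← one_smul (X.presheaf.stalk (genericPoint X)) g, ← hc, mul_comm, mul_smul, sub_smul, e, sub_self, smul_zero]
  · exact IsSimpleModule.toSpanSingleton_surjective (X.presheaf.stalk (genericPoint X)) hg b

/-- A nonzero generic image in a module with a generator is everything. -/
theorem surjective_of_gen {X : Scheme.{u}} [IsIntegral X] {A B : X.Modules} (f : A ⟶ B)
    {g : B.presheaf.stalk (genericPoint X)} (hg : Amp.Gen g) {a : A.presheaf.stalk (genericPoint X)}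
    (ha : RefHull.stalkMapₗ f (genericPoint X) a ≠ 0) :
    Function.Surjective (RefHull.stalkMapₗ f (genericPoint X)) := fun b => by
  obtain ⟨r, hr⟩ := hg.2 (RefHull.stalkMapₗ f (genericPoint X) a)
  obtain ⟨t, ht⟩ := hg.2 b
  simp only at hr ht
  have hr0 : r ≠ 0 := fun h0 => ha (by rw [← hr, h0, zero_smul])
  obtain ⟨c, hc⟩ := (RH26.isField_η (X := X)).mul_inv_cancel hr0
  refine ⟨(t * c) • a, ?_⟩
  rw [map_smul, ← hr, smul_smul, mul_assoc, mul_comm c, hc, mul_one, ht]

variable {k : Type u} [Field k] {X : Scheme.{u}} [X.Over (Spec (CommRingCat.of k))]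
  [IsProper (X ↘ Spec (CommRingCat.of k))] [IsIntegral X] (hdim : topologicalKrullDim X = 2)
include k hdim

/-- Finite sets contain no point of codimension one. -/
theorem notMem_of_dim_le_zero {C : Set X} (hC : IsClosed C) (hd : topologicalKrullDim C ≤ 0) {x : X}
    (hx : ringKrullDim (X.presheaf.stalk x) ≤ 1) : x ∉ C := fun hxC => by
  have hsub : closure ({x} : Set X) ⊆ C := closure_minimal (Set.singleton_subset_iff.2 hxC) hC
  have h1 : topologicalKrullDim (closure ({x} : Set X)) ≤ 0 :=
    (Topology.IsInducing.topologicalKrullDim_le (f := Set.inclusion hsub)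
      (Topology.IsEmbedding.inclusion hsub).isInducing).trans hd
  rw [VarDim.dim_closure_singleton (X ↘ Spec (CommRingCat.of k))] at h1
  have h0 : VarDim.sdim (X ↘ Spec (CommRingCat.of k)) x = 0 := Nat.le_zero.1 (by exact_mod_cast h1)
  rw [SmDim19.ringKrullDim_stalk_closed (X ↘ Spec (CommRingCat.of k)) (d := 2) (by rw [hdim]; rfl)
    ((VarDim.sdim_eq_zero_iff_isClosed (X ↘ Spec (CommRingCat.of k)) x).1 h0)] at hx
  exact absurd hx (by decide)

omit hdim in
/-- Stalk surjectivity away from the support of the cokernel. -/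
theorem surjective_of_notMem_support {A B : X.Modules} (f : A ⟶ B) {x : X}
    (hx : x ∉ CohB1.support (cokernel f)) : Function.Surjective (RefHull.stalkMapₗ f x) := fun b => by
  have hS : (ShortComplex.mk f (cokernel.π f) (cokernel.condition f)).Exact := ShortComplex.exact_cokernel f
  have := (hS.map (M1.stalkAb x))
  exact ((ShortComplex.ab_exact_iff _).1 this) b ((M1.notMem_support_iff _ _).1 hx _)

variable {L : X.Modules} (hL : CohB1.IsAmple L)
include hL

/-- Vanishing of both top coefficients means finite support. -/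
theorem dim_support_le_zero_of_alpha {Q : X.Modules} (hQ : Coh.IsCoh Q) (h2 : alpha 2 (hilb k X L Q) = 0)
    (h1 : alpha 1 (hilb k X L Q) = 0) : topologicalKrullDim (CohB1.support Q) ≤ 0 := by
  by_cases h0 : IsZero Q
  · haveI : IsEmpty (CohB1.support Q) := Set.isEmpty_coe_sort.mpr (Set.eq_empty_of_forall_notMem fun x hx =>
      hx (AddCommGrpCat.subsingleton_of_isZero ((M1.stalkAb x).map_isZero h0)))
    haveI : IsEmpty (IrreducibleCloseds (CohB1.support Q)) :=
      ⟨fun s => IsEmpty.false (α := CohB1.support Q) s.isIrreducible'.nonempty.some⟩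
    rw [topologicalKrullDim, Order.krullDim_eq_bot]
    exact bot_le
  · obtain ⟨e, he⟩ := ShStab28.exists_dim_supp k hQ h0
    have hp := ShStab28.alpha_pos ((ShStab28.positive k hL) _ hQ e he).1 ((ShStab28.positive k hL) _ hQ e he).2
    have he2 : e ≤ 2 := by
      have := NumPoly18.dim_support_le (d := 2) (by rw [hdim]; rfl) Q
      rw [he] at this
      exact_mod_cast this
    interval_cases e
    · rw [he]; rfl
    · rw [h1] at hp; exact absurd hp (lt_irrefl _)
    · rw [h2] at hp; exact absurd hp (lt_irrefl _)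

/-- The slope inequality of a stable module. -/
theorem slope_le_of_stable {V G : X.Modules} (hst : ShStab.IsStable k X L V 2) (ι : G ⟶ V) [Mono ι]
    (hG : Coh.IsCoh G) (h0 : ¬ IsZero G) :
    alpha 2 (hilb k X L V) * alpha 1 (hilb k X L G) ≤ alpha 2 (hilb k X L G) * alpha 1 (hilb k X L V) := by
  by_cases hiso : IsIso ι
  · rw [ShStab28.hilb_iso k hL.1 (asIso ι) hG]
  obtain ⟨hV, -, -, hS⟩ := hst
  obtain ⟨N, hN⟩ := hS G ι inferInstance hG h0 hiso _ _ (ShStab28.hilb_spec k hL.1 hG) (ShStab28.hilb_spec k hL.1 hV)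
  have hev : ∀ {E : X.Modules}, Coh.IsCoh E → ∀ q : ℚ, (hilb k X L E).eval q =
      (hilb k X L E).coeff 0 + (hilb k X L E).coeff 1 * q + (hilb k X L E).coeff 2 * q ^ 2 := fun {E} hE q => by
    rw [Polynomial.eval_eq_sum_range' (n := 3) (Nat.lt_succ_of_le (ShStab28.natDegree_hilb_le k hL.1 hE
      (NumPoly18.dim_support_le (d := 2) (by rw [hdim]; rfl) E)))]
    simp [Finset.sum_range_succ]
  by_contra hlt
  simp only [alpha, Nat.factorial_one, Nat.factorial_two, Nat.cast_one, Nat.cast_ofNat, one_mul, not_le] at hlt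
  set c1 := 2 * (hilb k X L V).coeff 2 * (hilb k X L G).coeff 1 - 2 * (hilb k X L G).coeff 2 * (hilb k X L V).coeff 1 with hc1
  set c0 := 2 * (hilb k X L V).coeff 2 * (hilb k X L G).coeff 0 - 2 * (hilb k X L G).coeff 2 * (hilb k X L V).coeff 0 with hc0
  have hc1pos : 0 < c1 := by rw [hc1]; linarith
  obtain ⟨m, hm⟩ := exists_nat_ge (-c0 / c1)
  have h := hN (max N m) (le_max_left _ _)
  simp only [alpha, Nat.factorial_two, Nat.cast_ofNat, Polynomial.eval_smul, smul_eq_mul, hev hG, hev hV] at h
  have hm' : -c0 / c1 ≤ ((max N m : ℕ) : ℚ) := hm.trans (by exact_mod_cast le_max_right N m)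
  rw [div_le_iff₀ hc1pos] at hm'
  nlinarith

variable [IsAlgClosed k] [CharZero k] [Smooth (X ↘ Spec (CommRingCat.of k))]
  (hK : ExtPow.IsExtPow 2 (Omega.sheaf (X ↘ Spec (CommRingCat.of k))) (Coh.structureModule X))
include hK

theorem alpha_pos_structure : 0 < alpha 2 (hilb k X L (Coh.structureModule X)) := by
  haveI : IsNoetherian X := CohFound.isNoetherian_of_isProper (X ↘ Spec (CommRingCat.of k))
  have hO0 : ¬ IsZero (Coh.structureModule X) := fun hz => by
    haveI : Subsingleton ((Coh.structureModule X).presheaf.stalk (genericPoint X)) :=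
      AddCommGrpCat.subsingleton_of_isZero ((M1.stalkAb (genericPoint X)).map_isZero hz)
    exact RH26.str_one_ne_zero (X := X) (Subsingleton.elim _ _)
  have hX : Pi1.IsNormalScheme X := RH26.isNormalScheme_of_regular fun x => SurfRR10.regular (k := k) x
  have hd : topologicalKrullDim (CohB1.support (Coh.structureModule X)) = ((2 : ℕ) : WithBot ℕ∞) :=
    isPure_of_injective_sp (RH26.closed1_structure hX).1 hdim _ (𝟙 _) inferInstance (M1.isCoh_structureModule X) hO0
  exact ShStab28.alpha_pos ((ShStab28.positive k hL) _ (M1.isCoh_structureModule X) 2 hd).1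
    ((ShStab28.positive k hL) _ (M1.isCoh_structureModule X) 2 hd).2

variable [PicGrp.Law X] {V : X.Modules} (hV : Coh.IsCoh V) (hst : ShStab.IsStable k X L V 2)
  (hV2 : alpha 2 (hilb k X L V) = 2 * alpha 2 (hilb k X L (Coh.structureModule X)))
  (hV1 : alpha 1 (hilb k X L V) = alpha 2 (hilb k X L (Coh.structureModule X)))
include hV hst hV2 hV1

/-- A stable module of slope one half has no maps to non-positive line bundles. -/
theorem hom_eq_zero_of_stable {B : X.Modules} (hB : PicF.IsInvertible B) {j : ℤ}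
    (hj : PicGrp.cls B hB = PicGrp.cls L hL.1 ^ j) (hj0 : j ≤ 0) (f : V ⟶ B) : f = 0 := by
  haveI : IsNoetherian X := CohFound.isNoetherian_of_isProper (X ↘ Spec (CommRingCat.of k))
  by_contra hf
  have hX : Pi1.IsNormalScheme X := RH26.isNormalScheme_of_regular fun x => SurfRR10.regular (k := k) x
  have ha := alpha_pos_structure hdim hL hK
  have hBc := Snapper.isCoh_of_isInvertible hB
  have hBR := Div21F12.r1_of_invertible hX hB hBc
  let Y := ShStab28.sys k X L hL.1 (ShStab28.positive k hL)
  have hJ : Coh.IsCoh (Abelian.image f) := ShStab28.Sys.ok_image Y f hV hBc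
  have hKc : Coh.IsCoh (kernel f) := Y.ok_ker f hV hBc
  obtain ⟨g, hg⟩ := hBR.gen
  obtain ⟨v, hv⟩ : ∃ v, RefHull.stalkMapₗ f (genericPoint X) v ≠ 0 := by
    by_contra h
    push Not at h
    exact hf (stalk_eq_zero_of_closed1 hBR.closed f h)
  obtain ⟨hB2, hB1⟩ := alpha_of_cls (k := k) hL.1 hdim hB hj
  obtain ⟨hJ2, hJ1⟩ := alpha_le_of_generic (k := k) hdim hL hJ hBc (Abelian.image.ι f)
    (surjective_of_gen _ hg (a := RefHull.stalkMapₗ (Abelian.factorThruImage f) _ v)
      (by rw [← stalkMap_comp, Abelian.image.fac]; exact hv))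
  have hsum : hilb k X L V = hilb k X L (kernel f) + hilb k X L (Abelian.image f) := by
    refine ShStab28.Sys.hp_of_ker Y (kernel.ι f) (Abelian.factorThruImage f) ?_ (fun t ht => ?_) hV hJ
    · rw [← cancel_mono (Abelian.image.ι f), Category.assoc, Abelian.image.fac, kernel.condition, zero_comp]
    · exact ⟨kernel.lift f t (by rw [← Abelian.image.fac f, ← Category.assoc, ht, zero_comp]), kernel.lift_ι _ _ _⟩
  rw [alpha_one_structure hdim hL hK, zero_add] at hB1
  have e2 := congrArg (alpha 2) hsum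
  have e1 := congrArg (alpha 1) hsum
  rw [ShStab28.alpha_add, hJ2, hB2, hV2] at e2
  rw [ShStab28.alpha_add, hV1] at e1
  have hK0 : ¬ IsZero (kernel f) := fun hz => by
    rw [show hilb k X L (kernel f) = 0 from ShStab28.Sys.hp_zero Y hz, ShStab28.alpha_zero, zero_add] at e2
    linarith
  have hs := slope_le_of_stable hdim hL hst (kernel.ι f) hKc hK0
  rw [hV2, hV1, show alpha 2 (hilb k X L (kernel f)) = alpha 2 (hilb k X L (Coh.structureModule X)) by linarith] at hs
  have hjq : (j : ℚ) ≤ 0 := by exact_mod_cast hj0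
  nlinarith

/-- Saturation of a line subsheaf. -/
theorem exists_saturated (hsp : ∀ x, Function.Injective (V.presheaf.stalkSpecializes (gsp x)))
    (hgen : ∀ c : PicLoc.PicSet X, ∃ n : ℤ, c = PicGrp.cls L hL.1 ^ n)
    {A : X.Modules} (hA : PicF.IsInvertible A) {i : ℤ} (hi : PicGrp.cls A hA = PicGrp.cls L hL.1 ^ i)
    (s : A ⟶ V) (hs0 : s ≠ 0) :
    ∃ (M : X.Modules) (hM : PicF.IsInvertible M) (n : ℤ) (_ : PicGrp.cls M hM = PicGrp.cls L hL.1 ^ n)
      (N : X.Modules) (ι : N ⟶ M) (_ : Mono ι) (_ : Coh.IsCoh N)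
      (_ : topologicalKrullDim (CohB1.support (cokernel ι)) ≤ 0) (b : V ⟶ N) (_ : Epi b)
      (s' : A ⟶ kernel b), Mono s' ∧ s' ≫ kernel.ι b = s ∧ Coh.IsCoh (kernel b) ∧ 1 ≤ n ∧ i ≤ 1 - n ∧
      alpha 2 (hilb k X L (kernel b)) = alpha 2 (hilb k X L (Coh.structureModule X)) ∧
      alpha 1 (hilb k X L (kernel b)) = (1 - n) * alpha 2 (hilb k X L (Coh.structureModule X)) ∧
      Function.Surjective (RefHull.stalkMapₗ s' (genericPoint X)) := by
  haveI : IsNoetherian X := CohFound.isNoetherian_of_isProper (X ↘ Spec (CommRingCat.of k))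
  have hX : Pi1.IsNormalScheme X := RH26.isNormalScheme_of_regular fun x => SurfRR10.regular (k := k) x
  have hU : ∀ x : X, UniqueFactorizationMonoid (X.presheaf.stalk x) := fun x => by
    haveI := SurfRR10.regular (k := k) x
    haveI := Groth.Agent.RegLoc.isDomain (X.presheaf.stalk x)
    exact Groth.Agent.RegLoc.ufd_of_isRegularLocalRing (X.presheaf.stalk x)
  have ha := alpha_pos_structure hdim hL hK
  have hO1 := alpha_one_structure hdim hL hK
  let Y := ShStab28.sys k X L hL.1 (ShStab28.positive k hL)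
  have hAc := Snapper.isCoh_of_isInvertible hA
  have hAR := Div21F12.r1_of_invertible hX hA hAc
  obtain ⟨hA2, hA1⟩ := alpha_of_cls (k := k) hL.1 hdim hA hi
  rw [hO1, zero_add] at hA1
  obtain ⟨g₀, hg₀⟩ := hAR.gen
  obtain ⟨v₀, hv₀⟩ : ∃ v, RefHull.stalkMapₗ s (genericPoint X) v ≠ 0 := by
    by_contra h
    push Not at h
    exact hs0 (stalk_eq_zero_of_inj hsp s h)
  have hsinj : Function.Injective (RefHull.stalkMapₗ s (genericPoint X)) := by
    rw [injective_iff_map_eq_zero]
    intro a ha0
    by_contra hane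
    obtain ⟨r, hr⟩ := (RH26.gen_of_ne_zero hAR hane).2 v₀
    simp only at hr
    exact hv₀ (by rw [← hr, map_smul, ha0, smul_zero])
  haveI : Mono s := mono_of_injective_η hAR.closed.1 s hsinj
  have hN0 : Coh.IsCoh (cokernel s) := Y.ok_coker s hAc hV
  have hsum0 : hilb k X L V = hilb k X L A + hilb k X L (cokernel s) := ShStab28.Sys.hp_mono Y s hAc hV
  have hN02 : alpha 2 (hilb k X L (cokernel s)) = alpha 2 (hilb k X L (Coh.structureModule X)) := by
    have e2 := congrArg (alpha 2) hsum0
    rw [ShStab28.alpha_add, hA2, hV2] at e2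
    linarith
  have hlen : NumPoly18.lenAt (cokernel s) (genericPoint X) = 1 := by
    have h := alpha_two_eq (k := k) hdim hL hN0
    rw [hN02] at h
    exact mul_right_cancel₀ ha.ne' (h.symm.trans (one_mul _).symm)
  have hMR : R1 (RefHull.ddual (cokernel s)) := R1.ddual hX hN0 (exists_gen_of_lenAt hlen)
  let M := RefHull.ddual (cokernel s)
  have hM : PicF.IsInvertible M := RH26.isInvertible_of_gen hMR.coh fun x => by
    haveI := hU x
    obtain ⟨g', hg'⟩ := hMR.gen
    exact RH26.exists_gen_of_isReflexiveAt_ufd hMR.coh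
      ((RH26.isReflexive_iff_stalks hMR.coh).1 ((RH26.isReflexive_iff_closed1 hX hMR.coh).2 hMR.closed) x) hg'
  obtain ⟨n, hn⟩ := hgen (PicGrp.cls M hM)
  obtain ⟨hM2, hM1⟩ := alpha_of_cls (k := k) hL.1 hdim hM hn
  rw [hO1, zero_add] at hM1
  let q : V ⟶ M := cokernel.π s ≫ RefHull.bidualMap (cokernel s)
  have hq : ∀ x : X, ringKrullDim (X.presheaf.stalk x) ≤ 1 → Function.Surjective (RefHull.stalkMapₗ q x) := fun x hx m => by
    haveI := RH26.isPrincipalIdealRing_stalk hX hx
    haveI := (hX x).1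
    obtain ⟨z, rfl⟩ := RH26.surjective_bidual_of_pid hN0 x m
    obtain ⟨v, rfl⟩ := ((M1.epi_iff_stalk (cokernel.π s)).1 inferInstance x z)
    exact ⟨v, (stalkMap_comp _ _ _ _).trans rfl⟩
  have hsq : s ≫ q = 0 := by rw [← Category.assoc, cokernel.condition, zero_comp]
  let N := Abelian.coimage q
  let b : V ⟶ N := Abelian.coimage.π q
  let ι : N ⟶ M := Abelian.factorThruCoimage q
  have hfac : b ≫ ι = q := Abelian.coimage.fac q
  have hN : Coh.IsCoh N := Y.ok_coker _ (Y.ok_ker q hV hMR.coh) hV
  have hKc : Coh.IsCoh (kernel b) := Y.ok_ker b hV hN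
  have hι : topologicalKrullDim (CohB1.support (cokernel ι)) ≤ 0 :=
    dim_support_cokernel_le_zero (k := k) hdim hN hMR.coh ι fun x hx m => by
      obtain ⟨v, rfl⟩ := hq x hx m
      exact ⟨RefHull.stalkMapₗ b x v, by rw [← stalkMap_comp, hfac]⟩
  have hQ : Coh.IsCoh (cokernel ι) := Y.ok_coker ι hN hMR.coh
  have hQd := ShStab28.natDegree_hilb_le k hL.1 hQ (d := 0) hι
  have hsumM : hilb k X L M = hilb k X L N + hilb k X L (cokernel ι) := ShStab28.Sys.hp_mono Y ι hN hMR.coh
  have hsumV : hilb k X L V = hilb k X L (kernel b) + hilb k X L N := ShStab28.Sys.hp_epi Y b hV hN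
  have hK2 : alpha 2 (hilb k X L (kernel b)) = alpha 2 (hilb k X L (Coh.structureModule X)) := by
    have e := congrArg (alpha 2) hsumV
    have e' := congrArg (alpha 2) hsumM
    rw [ShStab28.alpha_add, ShStab28.alpha_eq_zero_of_lt (P := hilb k X L (cokernel ι)) (by omega), hM2] at e'
    rw [ShStab28.alpha_add, hV2] at e
    linarith
  have hK1 : alpha 1 (hilb k X L (kernel b)) = (1 - n) * alpha 2 (hilb k X L (Coh.structureModule X)) := by
    have e := congrArg (alpha 1) hsumV
    have e' := congrArg (alpha 1) hsumM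
    rw [ShStab28.alpha_add, ShStab28.alpha_eq_zero_of_lt (P := hilb k X L (cokernel ι)) (by omega), hM1] at e'
    rw [ShStab28.alpha_add, hV1] at e
    linarith
  let s' : A ⟶ kernel b := kernel.lift b s (by
    rw [← cancel_mono ι, Category.assoc, hfac, hsq, zero_comp])
  have hs' : s' ≫ kernel.ι b = s := kernel.lift_ι _ _ _
  haveI : Mono s' := mono_of_mono_fac hs'
  have hK0 : ¬ IsZero (kernel b) := fun hz => hs0 (by rw [← hs', hz.eq_of_tgt s' 0, zero_comp])
  have hlenK : NumPoly18.lenAt (kernel b) (genericPoint X) = 1 := by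
    have h := alpha_two_eq (k := k) hdim hL hKc
    rw [hK2] at h
    exact mul_right_cancel₀ ha.ne' (h.symm.trans (one_mul _).symm)
  obtain ⟨gK, hgK⟩ := exists_gen_of_lenAt hlenK
  have hsurj : Function.Surjective (RefHull.stalkMapₗ s' (genericPoint X)) :=
    surjective_of_gen s' hgK (a := v₀) fun h0 => hv₀ (by rw [← hs', stalkMap_comp, h0, map_zero])
  have hle := (alpha_le_of_generic (k := k) hdim hL hAc hKc s' hsurj).2
  have hslope := slope_le_of_stable hdim hL hst (kernel.ι b) hKc hK0
  rw [hK1, hA1] at hle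
  rw [hK1, hK2, hV2, hV1] at hslope
  refine ⟨M, hM, n, hn, N, ι, inferInstance, hN, hι, b, inferInstance, s', inferInstance, hs', hKc, ?_, ?_, hK2, hK1, hsurj⟩
  · have h12 : (1 : ℚ) / 2 ≤ n := by nlinarith [mul_pos ha ha]
    have : (0 : ℚ) < n := by linarith
    exact_mod_cast this
  · have : (i : ℚ) ≤ 1 - n := le_of_mul_le_mul_right hle ha
    exact_mod_cast this

end Groth.Agent.LMSimple8
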