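import Groth.Agent.Lib.LMSimple8.Sat2

/-!
# Sections from a positive Euler characteristic
-/

set_option autoImplicit false
set_option linter.style.haveILetI false
set_option linter.unusedSectionVars false
set_option backward.isDefEq.respectTransparency false
set_option backward.isDefEq.respectTransparency.types false
set_option maxHeartbeats 1600000

universe u

open CategoryTheory CategoryTheory.Limits AlgebraicGeometry TopologicalSpace Opposite StabCat
open Groth.Agent.ShStab28 (hilb)

noncomputable section

namespace Groth.Agent.LMSimple8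

open Groth.Agent.RH26 (str gsp R1 InStalk Closed1)

variable {k : Type u} [Field k] {X : Scheme.{u}} [X.Over (Spec (CommRingCat.of k))]
  [IsProper (X ↘ Spec (CommRingCat.of k))] [IsIntegral X] (hdim : topologicalKrullDim X = 2)
include k hdim

/-- A module with positive Euler characteristic and no second cohomology has a section. -/
theorem exists_section {V : X.Modules} (hV : Coh.IsCoh V) (h2 : Subsingleton (Coh.HH X V 2))
    (hχ : 1 ≤ Curv2.euler k X V) : ∃ s : Coh.structureModule X ⟶ V, s ≠ 0 := by
  haveI : IsNoetherian X := CohFound.isNoetherian_of_isProper (X ↘ Spec (CommRingCat.of k))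
  have hd : topologicalKrullDim X ≤ ((2 : ℕ) : WithBot ℕ∞) := by rw [hdim]; rfl
  rw [Curv2.euler, finsum_eq_finsetSum_of_support_subset (s := Finset.range 3) _ ?_] at hχ
  · rw [Finset.sum_range_succ, Finset.sum_range_succ, Finset.sum_range_succ, Finset.sum_range_zero,
      Module.finrank_zero_of_subsingleton (R := k) (M := Coh.HH X V 2)] at hχ
    obtain ⟨x, hx⟩ : ∃ x : Coh.HH X V 0, x ≠ 0 := by
      by_contra hne
      push Not at hne
      haveI : Subsingleton (Coh.HH X V 0) := subsingleton_of_forall_eq 0 hne
      rw [Module.finrank_zero_of_subsingleton (R := k) (M := Coh.HH X V 0)] at hχ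
      norm_num at hχ
      omega
    refine ⟨M1.secHom (CurveCoh17.hh0 V x), RankTwo11.secHom_ne_zero fun h => hx ?_⟩
    exact (AddEquiv.map_eq_zero_iff _).1 h
  · intro p hp
    simp only [Finset.coe_range, Set.mem_Iio]
    by_contra hlt
    haveI : Subsingleton (Coh.HH X V p) :=
      NumPoly18.subsingleton_HH_of_support (k := k) hV (NumPoly18.dim_support_le hd _) (show 2 < p by omega)
    exact hp (by simp [Module.finrank_zero_of_subsingleton])

/-- A submodule which is generically everything and agrees in both top coefficients is everything, when it is closed. -/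
theorem isIso_of_alpha [Smooth (X ↘ Spec (CommRingCat.of k))] {L : X.Modules} (hL : CohB1.IsAmple L) {A K : X.Modules}
    (hA : Coh.IsCoh A) (hAcl : Closed1 A) (hK : Coh.IsCoh K)
    (hKsp : ∀ x, Function.Injective (K.presheaf.stalkSpecializes (gsp x))) (f : A ⟶ K) [Mono f]
    (hη : Function.Surjective (RefHull.stalkMapₗ f (genericPoint X)))
    (h1 : alpha 1 (hilb k X L A) = alpha 1 (hilb k X L K)) : IsIso f := by
  haveI : IsNoetherian X := CohFound.isNoetherian_of_isProper (X ↘ Spec (CommRingCat.of k))
  let Y := ShStab28.sys k X L hL.1 (ShStab28.positive k hL)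
  have hQ : Coh.IsCoh (cokernel f) := Y.ok_coker f hA hK
  have hsum : hilb k X L K = hilb k X L A + hilb k X L (cokernel f) := ShStab28.Sys.hp_mono Y f hA hK
  have h2' := (alpha_le_of_generic (k := k) hdim hL hA hK f hη).1
  have hQd : topologicalKrullDim (CohB1.support (cokernel f)) ≤ 0 := by
    refine dim_support_le_zero_of_alpha (k := k) hdim hL hQ ?_ ?_
    · have e := congrArg (alpha 2) hsum
      rw [ShStab28.alpha_add] at e
      linarith
    · have e := congrArg (alpha 1) hsum
      rw [ShStab28.alpha_add] at e
      linarith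
  have hinj := (M1.mono_iff_stalk f).1 inferInstance
  let ef := LinearEquiv.ofBijective (RefHull.stalkMapₗ f (genericPoint X)) ⟨hinj _, hη⟩
  obtain ⟨φ, hφ⟩ := RH26.exists_hom_of_generic hAcl ef.symm.toLinearMap fun x hx a ha => by
    obtain ⟨v, hv⟩ := ha
    obtain ⟨w, rfl⟩ := surjective_of_notMem_support (k := k) f
      (notMem_of_dim_le_zero (k := k) hdim (M1.isClosed_support hQ.2) hQd hx.le) v
    refine ⟨w, ?_⟩
    show _ = ef.symm a
    refine ef.eq_symm_apply.2 ?_
    rw [← hv]
    exact (RH26.stalkMapₗ_stalkSpecializes f (gsp x) w).symm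
  have hfφ : f ≫ φ = 𝟙 A := by
    refine sub_eq_zero.1 (stalk_eq_zero_of_closed1 hAcl _ fun a => ?_)
    show (M1.stalkAb _).map (f ≫ φ - 𝟙 A) a = 0
    rw [Functor.map_sub, CategoryTheory.Functor.map_id]
    show RefHull.stalkMapₗ (f ≫ φ) _ a - a = 0
    rw [stalkMap_comp, hφ, sub_eq_zero]
    exact ef.symm_apply_apply a
  haveI : Mono φ := mono_of_injective_η hKsp φ (by
    rw [show (RefHull.stalkMapₗ φ (genericPoint X) : _ → _) = ef.symm from funext hφ]
    exact ef.symm.injective)
  haveI : IsSplitEpi φ := IsSplitEpi.mk' ⟨f, hfφ⟩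
  haveI : IsIso φ := isIso_of_mono_of_isSplitEpi φ
  rw [(IsIso.eq_comp_inv φ).2 hfφ]
  infer_instance

end Groth.Agent.LMSimple8
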