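import Groth.Agent.Lib.LMSimple8.SerreSetup
import Groth.Prelude.Def_SGA7IX

/-!
# The idempotent of an automorphism congruent to one on small torsion
-/

set_option autoImplicit false
set_option linter.unusedSectionVars false
set_option linter.style.haveILetI false
set_option backward.isDefEq.respectTransparency.types false
set_option maxHeartbeats 1000000

universe u

open CategoryTheory CategoryTheory.Limits AlgebraicGeometry MonObj MonoidalCategory CartesianMonoidalCategory

noncomputable section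

namespace Groth.Agent.LMSimple8.SerreLemma

open Groth.Agent.AbelGrp20 (und ofHom)

variable {k : Type u} [Field k] {G : Over (Spec (CommRingCat.of k))} [GrpObj G] [IsCommMonObj G] [Smooth G.hom]
  [ConnectedSpace ↥G.left]

/-- The idempotent and the decomposition it gives. -/
theorem exists_idem_decomposition (hG : SGA7.FibresUnipotentRankZero G) (u : Aut G) [IsMonHom u.hom]
    (h : (u * u = 1 ∧ ∀ (T : Over (Spec (CommRingCat.of k))) (x : T ⟶ G), x ^ 2 = 1 → x ≫ u.hom = x) ∨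
      (u * u = 1 ∧ ∀ (T : Over (Spec (CommRingCat.of k))) (x : T ⟶ G), x ^ 4 = 1 →
        (((x ≫ u.hom) * x⁻¹) ≫ u.hom) * ((x ≫ u.hom) * x⁻¹)⁻¹ = 1) ∨
      (u * u * u = 1 ∧ ∀ (T : Over (Spec (CommRingCat.of k))) (x : T ⟶ G), x ^ 3 = 1 →
        (((x ≫ u.hom) * x⁻¹) ≫ u.hom) * ((x ≫ u.hom) * x⁻¹)⁻¹ = 1)) :
    ∃ (p : G ⟶ G) (G₁ G₂ : Over (Spec (CommRingCat.of k))) (_ : GrpObj G₁) (_ : GrpObj G₂)
      (i₁ : G₁ ⟶ G) (i₂ : G₂ ⟶ G),
      IsMonHom p ∧ p ≫ p = p ∧
      (u * u = 1 → p * p = 𝟙 G * u.hom) ∧ (u * u * u = 1 → p * p * p = 𝟙 G * u.hom * (u * u).hom) ∧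
      IsMonHom i₁ ∧ IsMonHom i₂ ∧ IsClosedImmersion i₁.left ∧ IsClosedImmersion i₂.left ∧
      AlgGrp.IsKernel i₁ (𝟙 G * p⁻¹) ∧ AlgGrp.IsKernel i₂ p ∧
      ConnectedSpace ↥G₁.left ∧ ConnectedSpace ↥G₂.left ∧
      IsIso ((i₁ ⊗ₘ i₂) ≫ μ[G]) := by
  haveI := qc_hom (G := G)
  have hS := isSA_of_rankZero hG
  letI : ∀ T : Over (Spec (CommRingCat.of k)), CommGroup (T ⟶ G) := fun _ => Hom.commGroup
  set U := toEnd u with hU
  have hsq : ∀ (T : Over (Spec (CommRingCat.of k))) (x : T ⟶ G),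
      x ≫ und ((U - 1) * (U - 1)) = (((x ≫ u.hom) * x⁻¹) ≫ u.hom) * ((x ≫ u.hom) * x⁻¹)⁻¹ := fun T x => by
    rw [und_mul, ← Category.assoc, comp_und_toEnd_sub_one, comp_und_toEnd_sub_one]
  have hcancel : ∀ (m : ℕ), 0 < m → ∀ a b : CategoryTheory.End (CommGrp.mk G),
      (m : CategoryTheory.End (CommGrp.mk G)) * a = (m : CategoryTheory.End (CommGrp.mk G)) * b → a = b :=
    fun m hm a b hab => sub_eq_zero.1 (eq_zero_of_natCast_mul hS hm _ (by rw [mul_sub, hab, sub_self]))
  have h2 : u * u = 1 → U * U = 1 := fun e => by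
    rw [← pow_two]; exact toEnd_pow_eq_one u (by rw [pow_two]; exact e)
  have h3 : u * u * u = 1 → U * (U * U) = 1 := fun e => by
    rw [← _root_.mul_assoc, ← pow_three']; exact toEnd_pow_eq_one u (by rw [pow_three']; exact e)
  -- the idempotent
  obtain ⟨P, hP1, hP2, hP3⟩ : ∃ P : CategoryTheory.End (CommGrp.mk G), P * P = P ∧
      (u * u = 1 → P + P = 1 + U) ∧ (u * u * u = 1 → P + P + P = 1 + U + U * U) := by
    have key : ∀ P : CategoryTheory.End (CommGrp.mk G), u * u = 1 → P + P = 1 + U →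
        P * P = P ∧ (u * u * u = 1 → P + P + P = 1 + U + U * U) := fun P e eP => by
      refine ⟨hcancel 4 (by norm_num) _ _ ?_, fun e' => ?_⟩
      · calc ((4 : ℕ) : CategoryTheory.End (CommGrp.mk G)) * (P * P) = (P + P) * (P + P) := by push_cast; noncomm_ring
          _ = 1 + U + U + U * U := by rw [eP]; noncomm_ring
          _ = (1 + U) + (1 + U) := by rw [h2 e]; abel
          _ = _ := by rw [← eP]; push_cast; noncomm_ring
      · have hU1 : U = 1 := by rw [← h3 e', h2 e, _root_.mul_one]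
        rw [hU1] at eP ⊢
        have : P = 1 := hcancel 2 two_pos _ _ (by push_cast; rw [two_mul, two_mul]; exact eP)
        rw [this, _root_.one_mul]
    rcases h with ⟨e, hx⟩ | ⟨e, hx⟩ | ⟨e, hx⟩
    · obtain ⟨v, hv⟩ := exists_div hS two_pos (U - 1) fun T x hx2 => by
        rw [comp_und_toEnd_sub_one, hx T x hx2, mul_inv_cancel]
      have eP : (1 + v) + (1 + v) = 1 + U := by
        rw [sub_eq_iff_eq_add.1 hv]; push_cast; noncomm_ring
      exact ⟨1 + v, (key _ e eP).1, fun _ => eP, (key _ e eP).2⟩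
    · obtain ⟨v, hv⟩ := exists_div hS (show 0 < 4 by norm_num) ((U - 1) * (U - 1)) fun T x hx4 => by
        rw [hsq, hx T x hx4]
      have h1 : ((2 : ℕ) : CategoryTheory.End (CommGrp.mk G)) * (1 - U) = (2 : ℕ) * ((2 : ℕ) * v) := by
        calc ((2 : ℕ) : CategoryTheory.End (CommGrp.mk G)) * (1 - U) = U * U - U - U + 1 := by
              rw [h2 e]; push_cast; noncomm_ring
          _ = (U - 1) * (U - 1) := by noncomm_ring
          _ = _ := by rw [hv]; push_cast; noncomm_ring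
      have h1' := hcancel 2 two_pos _ _ h1
      have eP : (1 - v) + (1 - v) = 1 + U := by
        have : U = 1 - ((2 : ℕ) : CategoryTheory.End (CommGrp.mk G)) * v := by rw [← h1']; abel
        rw [this]; push_cast; noncomm_ring
      exact ⟨1 - v, (key _ e eP).1, fun _ => eP, (key _ e eP).2⟩
    · obtain ⟨v, hv⟩ := exists_div hS (show 0 < 3 by norm_num) ((U - 1) * (U - 1)) fun T x hx3 => by
        rw [hsq, hx T x hx3]
      have eP : (v + U) + (v + U) + (v + U) = 1 + U + U * U := by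
        calc (v + U) + (v + U) + (v + U) = ((3 : ℕ) : CategoryTheory.End (CommGrp.mk G)) * v + (U + U + U) := by
              push_cast; noncomm_ring
          _ = _ := by rw [← hv]; noncomm_ring
      refine ⟨v + U, hcancel 9 (by norm_num) _ _ ?_, fun e2 => ?_, fun _ => eP⟩
      · calc ((9 : ℕ) : CategoryTheory.End (CommGrp.mk G)) * ((v + U) * (v + U))
            = ((v + U) + (v + U) + (v + U)) * ((v + U) + (v + U) + (v + U)) := by push_cast; noncomm_ring
          _ = 1 + U + U * U + U + U * U + U * (U * U) + U * U + U * (U * U) + U * (U * (U * U)) := by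
              rw [eP]; noncomm_ring
          _ = (1 + U + U * U) + (1 + U + U * U) + (1 + U + U * U) := by
              rw [h3 e, _root_.mul_one]; abel
          _ = _ := by rw [← eP]; push_cast; noncomm_ring
      · have hU1 : U = 1 := by rw [← h3 e, h2 e2, _root_.mul_one]
        rw [hU1] at eP ⊢
        have : v + 1 = 1 := hcancel 3 (by norm_num) _ _ (by
          push_cast
          calc (3 : CategoryTheory.End (CommGrp.mk G)) * (v + 1) = (v + 1) + (v + 1) + (v + 1) := by noncomm_ring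
            _ = _ := by rw [eP]; noncomm_ring)
        rw [this]
  let p : G ⟶ G := und P
  haveI hpm : IsMonHom p := inferInstance
  haveI hqm : IsMonHom (𝟙 G * p⁻¹) := by
    haveI := Semiab15.isMonHom_inv p
    exact Semiab15.isMonHom_mul _ _
  have hpp : p ≫ p = p := by rw [← und_mul, hP1]
  have e1 : ∀ f : CategoryTheory.End (CommGrp.mk G), und (1 + f) = 𝟙 G * und f := fun f => by
    rw [und_add, und_one]
  obtain ⟨G₁, _, i₁, hi₁, hi₁c, hk₁⟩ := CharTorus15.exists_kernel (𝟙 G * p⁻¹)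
  obtain ⟨G₂, _, i₂, hi₂, hi₂c, hk₂⟩ := CharTorus15.exists_kernel p
  haveI := hi₁c; haveI := hi₂c
  haveI : Mono i₁ := Over.mono_of_mono_left i₁
  haveI : Mono i₂ := Over.mono_of_mono_left i₂
  have hq : ∀ {T : Over (Spec (CommRingCat.of k))} (x : T ⟶ G), x ≫ (𝟙 G * p⁻¹) = x * (x ≫ p)⁻¹ := fun x => by
    rw [MonObj.comp_mul, Category.comp_id, GrpObj.comp_inv]
  obtain ⟨c₁, hc₁⟩ := CharTorus15.exists_lift hk₁ p (by rw [hq, hpp, mul_inv_cancel])
  obtain ⟨c₂, hc₂⟩ := CharTorus15.exists_lift hk₂ (𝟙 G * p⁻¹) (by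
    rw [MonObj.mul_comp, Category.id_comp, GrpObj.inv_comp, hpp, mul_inv_cancel])
  have hi1p : i₁ ≫ p = i₁ := by
    have := CharTorus15.comp_eq_one hk₁
    rw [hq, mul_inv_eq_one] at this
    exact this.symm
  have hi2p : i₂ ≫ p = 1 := CharTorus15.comp_eq_one hk₂
  have hr₁ : i₁ ≫ c₁ = 𝟙 _ := by rw [← cancel_mono i₁, Category.assoc, hc₁, hi1p, Category.id_comp]
  have hr₂ : i₂ ≫ c₂ = 𝟙 _ := by
    rw [← cancel_mono i₂, Category.assoc, hc₂, hq, hi2p, inv_one, _root_.mul_one, Category.id_comp]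
  have conn : ∀ {H : Over (Spec (CommRingCat.of k))} (i : H ⟶ G) (c : G ⟶ H), i ≫ c = 𝟙 H → ConnectedSpace ↥H.left :=
    fun {H} i c hic => by
      have hs : Function.Surjective c.left := fun y => ⟨i.left y, by
        rw [← AbRigid.left_comp_apply, hic]; rfl⟩
      exact hs.connectedSpace c.left.continuous
  refine ⟨p, G₁, G₂, inferInstance, inferInstance, i₁, i₂, hpm, hpp, fun e => ?_, fun e => ?_, hi₁, hi₂, hi₁c, hi₂c,
    hk₁, hk₂, conn i₁ c₁ hr₁, conn i₂ c₂ hr₂, ⟨lift c₁ c₂, ?_, ?_⟩⟩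
  · show und P * und P = _
    rw [← und_add, hP2 e, e1]
    rfl
  · show und P * und P * und P = _
    rw [← und_add, ← und_add, hP3 e, und_add, e1, und_mul]
    rfl
  · have ha : ((i₁ ⊗ₘ i₂) ≫ μ[G]) = (fst G₁ G₂ ≫ i₁) * (snd G₁ G₂ ≫ i₂) := by
      rw [Hom.mul_def, lift_fst_comp_snd_comp]
    refine CartesianMonoidalCategory.hom_ext _ _ ?_ ?_
    · rw [Category.assoc, lift_fst, Category.id_comp, ← cancel_mono i₁, Category.assoc, hc₁, ha, MonObj.mul_comp,
        Category.assoc, hi1p, Category.assoc, hi2p, MonObj.comp_one, _root_.mul_one]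
    · rw [Category.assoc, lift_snd, Category.id_comp, ← cancel_mono i₂, Category.assoc, hc₂, ha, hq, MonObj.mul_comp,
        Category.assoc (fst _ _) i₁ p, hi1p, Category.assoc (snd _ _) i₂ p, hi2p, MonObj.comp_one, _root_.mul_one,
        mul_comm (fst _ _ ≫ i₁), mul_inv_cancel_right]
  · rw [← Category.assoc, lift_map, hc₁, hc₂, ← Hom.mul_def, mul_comm, inv_mul_cancel_right]

end Groth.Agent.LMSimple8.SerreLemma
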