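import Groth.Agent.Lib.LMSimple8.SerreLemma
import Groth.Prelude.Def_SGA7IX

/-!
# Groups of vanishing unipotent rank over a field and their automorphisms
-/

set_option autoImplicit false
set_option linter.unusedSectionVars false
set_option linter.style.haveILetI false
set_option backward.isDefEq.respectTransparency.types false
set_option maxHeartbeats 1000000

universe u

open CategoryTheory CategoryTheory.Limits AlgebraicGeometry MonObj MonoidalCategory CartesianMonoidalCategory

noncomputable section

namespace Groth.Agent.LMSimple8.SerreLemma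

open Groth.Agent.AbelGrp20 (und ofHom)

variable {k : Type u} [Field k] {G : Over (Spec (CommRingCat.of k))} [GrpObj G] [IsCommMonObj G] [Smooth G.hom]
  [ConnectedSpace ↥G.left]

theorem qc_hom : QuasiCompact G.hom := GrpGen20.quasiCompact_of_connected G

/-- Vanishing unipotent rank means semiabelian. -/
theorem isSA_of_rankZero [QuasiCompact G.hom] (hG : SGA7.FibresUnipotentRankZero G) : Semiab15.IsSA G := by
  let s : ↥(Spec (CommRingCat.of k)) := IsLocalRing.closedPoint k
  let π := Red.geomPt s
  haveI : Smooth (Red.bc π G).hom := inferInstanceAs (Smooth (pullback.snd G.hom π))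
  haveI : QuasiCompact (Red.bc π G).hom := inferInstanceAs (QuasiCompact (pullback.snd G.hom π))
  haveI := GrpGen20.geometricallyConnected_of_connected G
  haveI : ConnectedSpace ↥(Red.bc π G).left :=
    GeometricallyConnected.geometrically_connectedSpace _ _ _ (IsPullback.of_hasPullback G.hom π)
  exact Semiab15.isSA_of_bc π G (SemiNhd19.isSA_of_noGa (hG s))

variable [QuasiCompact G.hom] (u : Aut G) [IsMonHom u.hom]

/-- The automorphism as an element of the endomorphism ring. -/
abbrev toEnd : CategoryTheory.End (CommGrp.mk G) := ofHom (A := CommGrp.mk G) (B := CommGrp.mk G) u.hom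

theorem und_toEnd_pow : ∀ m : ℕ, und (toEnd u ^ m) = (u ^ m).hom
  | 0 => by rw [pow_zero, pow_zero]; rfl
  | m + 1 => by
    rw [pow_succ, pow_succ, und_mul, und_toEnd_pow m]
    rfl

theorem toEnd_pow_eq_one {m : ℕ} (h : u ^ m = 1) : toEnd u ^ m = 1 := by
  refine CommGrp.hom_ext _ _ ?_
  show und (toEnd u ^ m) = und (1 : CategoryTheory.End (CommGrp.mk G))
  rw [und_toEnd_pow, h]
  rfl

theorem eq_one_of_toEnd {m : ℕ} (h : toEnd u ^ m = 1) : u ^ m = 1 := by
  refine Iso.ext ?_
  rw [← und_toEnd_pow, h]
  rfl

theorem comp_und_toEnd_sub_one {T : Over (Spec (CommRingCat.of k))} (x : T ⟶ G) :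
    x ≫ und (toEnd u - 1) = (x ≫ u.hom) * x⁻¹ := by
  have h : toEnd u - 1 + 1 = toEnd u := sub_add_cancel _ _
  have h1 : x ≫ und ((toEnd u - 1 : CategoryTheory.End (CommGrp.mk G)) + 1) = x ≫ und (toEnd u) := by rw [h]
  erw [und_add, MonObj.comp_mul, Category.comp_id] at h1
  exact eq_mul_inv_of_mul_eq h1

end Groth.Agent.LMSimple8.SerreLemma
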