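import Groth.Agent.Lib.LMSimple8.Main
import Groth.Agent.Lib.VB17.Scalar

/-!
# Lazarsfeld-Mukai bundles on surfaces with cyclic Picard group are simple
-/

set_option autoImplicit false
set_option linter.style.haveILetI false
set_option linter.unusedSectionVars false
set_option backward.isDefEq.respectTransparency false
set_option backward.isDefEq.respectTransparency.types false
set_option maxHeartbeats 1600000

universe u

open CategoryTheory CategoryTheory.Limits AlgebraicGeometry TopologicalSpace Opposite Matrix

noncomputable section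

namespace Groth.Agent.LMSimple8

open Groth.Agent.RH26 (str gsp ordv InStalk)

variable {X C : Scheme.{u}} [IsIntegral X] [IsLocallyNoetherian X] (hX : Pi1.IsNormalScheme X)
  (hf : IsField (Γ(X, ⊤) : Type u))
  (i : C ⟶ X) [IsClosedImmersion i] [IsIntegral C] (hη : genericPoint X ∉ Set.range i)
  {e : ℕ} {A : C.Modules} (lam : FlatMod.freeMod X e ⟶ (Coh.push i).obj A) [Epi lam]
  (hF : FlatMod.IsFinLocFreeOfRank e (kernel lam))

include hX hf hη hF in
/-- An endomorphism injective at the generic point is invertible: its determinant is a constant. -/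
theorem isIso_of_injective (ψ : kernel lam ⟶ kernel lam)
    (hψ : Function.Injective (RefHull.stalkMapₗ ψ (genericPoint X))) : IsIso ψ := by
  classical
  let F := kernel lam
  let η := genericPoint X
  obtain ⟨hji, hjr, -⟩ := exact_coord lam η
  haveI := Cyc26.subsingleton_stalk_push i A ⟨(Set.range i)ᶜ, i.isClosedEmbedding.isClosed_range.isOpen_compl⟩
    hη fun z hz => hz ⟨z, rfl⟩
  have hjs : Function.Surjective (jx lam η) := fun v =>
    LinearMap.mem_range.1 (hjr.ge (LinearMap.mem_ker.2 (Subsingleton.elim _ _)))
  let jη : F.presheaf.stalk η ≃ₗ[X.presheaf.stalk η] (Fin e → X.presheaf.stalk η) :=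
    LinearEquiv.ofBijective (jx lam η) ⟨hji, hjs⟩
  let T : (Fin e → X.functionField) →ₗ[X.functionField] (Fin e → X.functionField) :=
    jη.toLinearMap.comp ((RefHull.stalkMapₗ ψ η).comp jη.symm.toLinearMap)
  have hTinj : Function.Injective T := jη.injective.comp (hψ.comp jη.symm.injective)
  let d : X.functionField := LinearMap.det T
  have hd0 : d ≠ 0 := fun h0 => (LinearMap.det_eq_zero_iff_ker_ne_bot (f := T)).1 h0 (LinearMap.ker_eq_bot.2 hTinj)
  have key : ∀ y : X, ∃ (b : Module.Basis (Fin e) (X.presheaf.stalk y) (F.presheaf.stalk y)),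
      (X.presheaf.stalkSpecializes (gsp y) (LinearMap.toMatrix b b (RefHull.stalkMapₗ ψ y)).det : X.functionField) = d := by
    intro y
    obtain ⟨b0⟩ := CurveCoh17.nonempty_stalk_equiv hF y
    let b := Module.Basis.ofEquivFun b0
    refine ⟨b, ?_⟩
    let M := LinearMap.toMatrix b b (RefHull.stalkMapₗ ψ y)
    let B : Matrix (Fin e) (Fin e) (X.presheaf.stalk y) := Matrix.of fun r c => jx lam y (b c) r
    let spx : X.presheaf.stalk y →+* X.functionField := (X.presheaf.stalkSpecializes (gsp y)).hom
    have hspi : Function.Injective spx := fun a a' h => RH26.sp_injective y h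
    have hBv : B.mulVecLin = (jx lam y).comp b.equivFun.symm.toLinearMap := by
      refine LinearMap.pi_ext' fun c => LinearMap.ext_ring ?_
      funext r
      simp [B, Matrix.mulVec_single_one, Module.Basis.equivFun_symm_apply, Pi.single_apply]
    have hB0 : B.det ≠ 0 := fun h0 => by
      obtain ⟨v, hv, hv0⟩ := Matrix.exists_mulVec_eq_zero_iff.2 h0
      have h1 : B.mulVecLin v = 0 := hv0
      rw [hBv] at h1
      exact hv (b.equivFun.symm.injective (((exact_coord lam y).1 (h1.trans (map_zero _).symm)).trans (map_zero _).symm))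
    have hmat : LinearMap.toMatrix' T * B.map spx = B.map spx * M.map spx := by
      ext r c
      have h1 : (fun s => spx (B s c)) = jη (F.presheaf.stalkSpecializes (gsp y) (b c)) :=
        funext fun s => (jx_sp lam (gsp y) (b c) s).symm
      have h2 : (LinearMap.toMatrix' T * B.map spx) r c = T (fun s => spx (B s c)) r := by
        rw [← LinearMap.toMatrix'_mulVec]; rfl
      rw [h2, h1]
      have h3 : T (jη (F.presheaf.stalkSpecializes (gsp y) (b c))) =
          jη (F.presheaf.stalkSpecializes (gsp y) (RefHull.stalkMapₗ ψ y (b c))) := by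
        show jη (RefHull.stalkMapₗ ψ η (jη.symm (jη (F.presheaf.stalkSpecializes (gsp y) (b c))))) = _
        rw [jη.symm_apply_apply, stalkMap_sp]
      rw [h3]
      refine (jx_sp lam (gsp y) _ r).trans ?_
      show spx (jx lam y (RefHull.stalkMapₗ ψ y (b c)) r) = _
      rw [← b.sum_repr (RefHull.stalkMapₗ ψ y (b c)), map_sum, Finset.sum_apply, map_sum, Matrix.mul_apply]
      refine Finset.sum_congr rfl fun s _ => ?_
      rw [map_smul, Pi.smul_apply, smul_eq_mul, map_mul, Matrix.map_apply, Matrix.map_apply, mul_comm]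
      rw [show M s c = b.repr (RefHull.stalkMapₗ ψ y (b c)) s from LinearMap.toMatrix_apply _ _ _ _ _]
      rfl
    have h := congrArg Matrix.det hmat
    rw [Matrix.det_mul, Matrix.det_mul, LinearMap.det_toMatrix', ← RingHom.mapMatrix_apply, ← RingHom.mapMatrix_apply,
      ← RingHom.map_det, ← RingHom.map_det, mul_comm (spx B.det)] at h
    exact (mul_right_cancel₀ (fun h' => hB0 (hspi (h'.trans (map_zero spx).symm))) h).symm
  choose b hb using key
  have hR := RH26.R1.structureModule hX
  let a : (Coh.structureModule X).presheaf.stalk η := str η d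
  have hv : ∀ y : X, (Coh.structureModule X).presheaf.stalkSpecializes (gsp y)
      (str y (LinearMap.toMatrix (b y) (b y) (RefHull.stalkMapₗ ψ y)).det) = a := fun y => by
    refine (str η).symm.injective ?_
    rw [RH26.str_symm_stalkSpecializes, LinearEquiv.symm_apply_apply, LinearEquiv.symm_apply_apply]
    exact hb y
  obtain ⟨s, hs⟩ := RH26.exists_section_of_inStalk (F := Coh.structureModule X) ⊤ (fun y _ => hR.closed.1 y) a
    fun y _ => ⟨_, hv y⟩
  have hgerm : ∀ y : X, X.presheaf.germ ⊤ y trivial (show Γ(X, ⊤) from s) =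
      (LinearMap.toMatrix (b y) (b y) (RefHull.stalkMapₗ ψ y)).det := fun y => by
    have h := hR.closed.1 y ((hs y trivial).trans (hv y).symm)
    rw [← RH26.str_symm_germ (W := (⊤ : X.Opens)) trivial s, h, LinearEquiv.symm_apply_apply]
  have hs0 : (show Γ(X, ⊤) from s) ≠ 0 := fun h0 => hd0 (by
    have h := hb η
    rw [← hgerm η, h0, map_zero, map_zero] at h
    exact h.symm)
  obtain ⟨c, hc⟩ := hf.mul_inv_cancel hs0
  refine (RH26.isIso_iff_stalkMapₗ ψ).2 fun y => ?_
  have hu : IsUnit (LinearMap.toMatrix (b y) (b y) (RefHull.stalkMapₗ ψ y)).det := by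
    rw [← hgerm y]
    exact (IsUnit.of_mul_eq_one _ hc).map (X.presheaf.germ ⊤ y trivial).hom
  have hM := (Matrix.isUnit_iff_isUnit_det _).2 hu
  exact (Module.End.isUnit_iff _).1 ((MulEquiv.isUnit_map (LinearMap.toMatrixAlgEquiv (b y))).1 hM)

end Groth.Agent.LMSimple8
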