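import Groth.Agent.Lib.LMSimple8.Stable

/-!
# The slope bound
-/

set_option autoImplicit false
set_option linter.style.haveILetI false
set_option linter.unusedSectionVars false
set_option backward.isDefEq.respectTransparency false
set_option backward.isDefEq.respectTransparency.types false
set_option maxHeartbeats 1600000

universe u

open CategoryTheory CategoryTheory.Limits AlgebraicGeometry TopologicalSpace Opposite StabCat
open Groth.Agent.ShStab28 (hilb)

noncomputable section

namespace Groth.Agent.LMSimple8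

open Groth.Agent.RH26 (str gsp R1 InStalk Closed1)

variable {k : Type u} [Field k] {X : Scheme.{u}} [X.Over (Spec (CommRingCat.of k))]
  [IsProper (X ↘ Spec (CommRingCat.of k))] [IsIntegral X] (hdim : topologicalKrullDim X = 2)
  {H : X.Modules} (hH : CohB1.IsAmple H)
include hdim hH

/-- A submodule agreeing generically has the same multiplicity and no larger next coefficient. -/
theorem alpha_le_of_generic {G B : X.Modules} (hG : Coh.IsCoh G) (hB : Coh.IsCoh B) (f : G ⟶ B) [Mono f]
    (hf : Function.Surjective (RefHull.stalkMapₗ f (genericPoint X))) :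
    alpha 2 (hilb k X H G) = alpha 2 (hilb k X H B) ∧ alpha 1 (hilb k X H G) ≤ alpha 1 (hilb k X H B) := by
  have hpos := ShStab28.positive k hH
  let S := ShStab28.sys k X H hH.1 hpos
  have hQ : Coh.IsCoh (cokernel f) := S.ok_coker f hG hB
  have hsum : hilb k X H B = hilb k X H G + hilb k X H (cokernel f) := ShStab28.Sys.hp_mono S f hG hB
  have hgen : genericPoint X ∉ CohB1.support (cokernel f) := by
    refine (M1.notMem_support_iff _ _).2 fun q => ?_
    obtain ⟨b, rfl⟩ := ((M1.epi_iff_stalk (cokernel.π f)).1 inferInstance _ q)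
    obtain ⟨a, rfl⟩ := hf b
    show RefHull.stalkMapₗ (cokernel.π f) _ (RefHull.stalkMapₗ f _ a) = 0
    rw [← stalkMap_comp, cokernel.condition]
    show (M1.stalkAb _).map (0 : G ⟶ cokernel f) a = 0
    rw [Functor.map_zero]; rfl
  have hd : topologicalKrullDim (CohB1.support (cokernel f)) ≤ ((1 : ℕ) : WithBot ℕ∞) := by
    refine Snapper.le_of_lt_natCast_succ ?_
    refine lt_of_lt_of_le (TopDimLib.dim_lt_of_closed_ssubset (by rw [hdim]; decide) _
      (M1.isClosed_support hQ.2) fun h => hgen (h ▸ Set.mem_univ _)) ?_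
    rw [hdim]; rfl
  have hdeg := ShStab28.natDegree_hilb_le k hH.1 hQ hd
  have h2 : alpha 2 (hilb k X H (cokernel f)) = 0 := ShStab28.alpha_eq_zero_of_lt (hdeg.trans_lt Nat.one_lt_two)
  have h1 : 0 ≤ alpha 1 (hilb k X H (cokernel f)) := ShStab28.alpha_nonneg hdeg (ShStab28.Sys.lc_nonneg S hQ)
  rw [hsum, ShStab28.alpha_add, ShStab28.alpha_add, h2, add_zero]
  exact ⟨rfl, by linarith⟩

/-- A nonzero ideal. -/
theorem alpha_ideal {G : X.Modules} (hG : Coh.IsCoh G) (u : G ⟶ Coh.structureModule X) [Mono u] (hG0 : ¬ IsZero G)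
    (hX : Pi1.IsNormalScheme X) :
    alpha 2 (hilb k X H G) = alpha 2 (hilb k X H (Coh.structureModule X)) ∧
      alpha 1 (hilb k X H G) ≤ alpha 1 (hilb k X H (Coh.structureModule X)) := by
  haveI : IsNoetherian X := CohFound.isNoetherian_of_isProper (X ↘ Spec (CommRingCat.of k))
  refine alpha_le_of_generic hdim hH hG (M1.isCoh_structureModule X) u fun b => ?_
  have hu0 : u ≠ 0 := fun h => hG0 ((IsZero.iff_id_eq_zero G).2 (Mono.right_cancellation (f := u) _ _
    (by rw [h, comp_zero, comp_zero])))
  obtain ⟨a₀, ha₀⟩ : ∃ a, RefHull.stalkMapₗ u (genericPoint X) a ≠ 0 := by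
    by_contra h
    push Not at h
    exact hu0 (stalk_eq_zero_of_closed1 (RH26.closed1_structure hX) u h)
  set z := RefHull.stalkMapₗ u (genericPoint X) a₀ with hz
  obtain ⟨c, hc⟩ := (RH26.isField_η (X := X)).mul_inv_cancel (a := (str (genericPoint X)).symm z)
    fun h0 => ha₀ ((LinearEquiv.map_eq_zero_iff _).1 h0)
  refine ⟨((str (genericPoint X)).symm b * c) • a₀, (str (genericPoint X)).symm.injective ?_⟩
  rw [map_smul, map_smul, ← hz, smul_eq_mul, mul_assoc, mul_comm c, hc, mul_one]

variable (hX : Pi1.IsNormalScheme X) (hU : ∀ x : X, UniqueFactorizationMonoid (X.presheaf.stalk x))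
  [PicGrp.Law X] {I : X.Modules} (hI : PicF.IsInvertible I) (ιI : I ⟶ Coh.structureModule X)
  [Mono ιI] (hιI : ιI ≠ 0) (hgen : ∀ c : PicLoc.PicSet X, ∃ n : ℤ, c = PicGrp.cls I hI ^ n)
  {R : ℚ} (hR : 0 ≤ R) (hIR : alpha 1 (hilb k X H I) ≤ alpha 1 (hilb k X H (Coh.structureModule X)) - R)
  {F : X.Modules} (hF : Closed1 F) (hno : ∀ s : Coh.structureModule X ⟶ F, s = 0)
include hX hU hιI hgen hR hIR hF hno

/-- Submodules of a free module which embed in a module without sections. -/
theorem slope_bound : ∀ (m : ℕ) (G : X.Modules) (_ : Coh.IsCoh G) (f : Fin m → (G ⟶ Coh.structureModule X)),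
    (∀ (T : X.Modules) (t : T ⟶ G), (∀ i, t ≫ f i = 0) → t = 0) →
    alpha 2 (hilb k X H (Coh.structureModule X)) * alpha 1 (hilb k X H G) ≤
        alpha 1 (hilb k X H (Coh.structureModule X)) * alpha 2 (hilb k X H G) ∧
      (¬ IsZero G → ∀ ι : G ⟶ F, Mono ι →
        alpha 2 (hilb k X H (Coh.structureModule X)) * alpha 1 (hilb k X H G) ≤
          alpha 1 (hilb k X H (Coh.structureModule X)) * alpha 2 (hilb k X H G) -
            alpha 2 (hilb k X H (Coh.structureModule X)) * R) := by
  haveI : IsNoetherian X := CohFound.isNoetherian_of_isProper (X ↘ Spec (CommRingCat.of k))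
  have hpos := ShStab28.positive k hH
  let S := ShStab28.sys k X H hH.1 hpos
  set a := alpha 2 (hilb k X H (Coh.structureModule X)) with ha
  set b := alpha 1 (hilb k X H (Coh.structureModule X)) with hb
  have hOc := M1.isCoh_structureModule X
  have ha0 : 0 ≤ a := by
    refine ShStab28.alpha_nonneg (ShStab28.natDegree_hilb_le k hH.1 hOc ?_) (ShStab28.Sys.lc_nonneg S hOc)
    exact le_trans Topology.IsInducing.subtypeVal.topologicalKrullDim_le (by rw [hdim]; rfl)
  intro m
  induction m with
  | zero =>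
    intro G hG f hf
    have hz : IsZero G := (IsZero.iff_id_eq_zero G).2 (hf G (𝟙 G) fun i => i.elim0)
    rw [show hilb k X H G = 0 from ShStab28.Sys.hp_zero S hz, ShStab28.alpha_zero, ShStab28.alpha_zero]
    exact ⟨by simp, fun h => absurd hz h⟩
  | succ m ih =>
    intro G hG f hf
    let g := f (Fin.last m)
    let K := kernel g
    have hK : Coh.IsCoh K := S.ok_ker g hG hOc
    have hJ : Coh.IsCoh (Abelian.image g) := ShStab28.Sys.ok_image S g hG hOc
    have hsum : hilb k X H G = hilb k X H K + hilb k X H (Abelian.image g) := by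
      refine ShStab28.Sys.hp_of_ker S (kernel.ι g) (Abelian.factorThruImage g) ?_ (fun t ht => ?_) hG hJ
      · rw [← cancel_mono (Abelian.image.ι g), Category.assoc, Abelian.image.fac, kernel.condition, zero_comp]
      · exact ⟨kernel.lift g t (by rw [← Abelian.image.fac g, ← Category.assoc, ht, zero_comp]), kernel.lift_ι _ _ _⟩
    have hweak : a * alpha 1 (hilb k X H (Abelian.image g)) ≤ b * alpha 2 (hilb k X H (Abelian.image g)) := by
      by_cases hz : IsZero (Abelian.image g)
      · rw [show hilb k X H (Abelian.image g) = 0 from ShStab28.Sys.hp_zero S hz, ShStab28.alpha_zero, ShStab28.alpha_zero]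
        simp
      · obtain ⟨h2, h1⟩ := alpha_ideal (k := k) hdim hH hJ (Abelian.image.ι g) hz hX
        rw [h2, mul_comm b]
        exact mul_le_mul_of_nonneg_left h1 ha0
    obtain ⟨ih1, ih2⟩ := ih K hK (fun j => kernel.ι g ≫ f j.castSucc) fun T t ht => by
      refine (cancel_mono (kernel.ι g)).1 ((hf T (t ≫ kernel.ι g) fun j => ?_).trans zero_comp.symm)
      induction j using Fin.lastCases with
      | last => rw [Category.assoc, kernel.condition, comp_zero]
      | cast j => rw [Category.assoc]; exact ht j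
    rw [hsum, ShStab28.alpha_add, ShStab28.alpha_add]
    refine ⟨by linarith, fun hG0 ι hι => ?_⟩
    haveI := hι
    by_cases hK0 : IsZero K
    · haveI : Mono g := Preadditive.mono_of_kernel_zero (hK0.eq_of_src _ _)
      obtain ⟨L, hL, β, v, α, hβ, hβs, hv, hα⟩ := exists_hull hX hU hG hF g ι hG0
      obtain ⟨φ, hφ, hφs⟩ := exists_to_gen hX hU hI ιI hιI hgen hL hF hno v hv α hα
      haveI := hβ; haveI := hφ
      have h := alpha_le_of_generic (k := k) hdim hH hG (Snapper.isCoh_of_isInvertible hI) (β ≫ φ) fun y => by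
        obtain ⟨z, rfl⟩ := hφs y
        obtain ⟨w, rfl⟩ := hβs z
        exact ⟨w, stalkMap_comp β φ _ w⟩
      have h2 := (alpha_ideal (k := k) hdim hH hG g hG0 hX).1
      have e2 : alpha 2 (hilb k X H K) + alpha 2 (hilb k X H (Abelian.image g)) = alpha 2 (hilb k X H G) := by
        rw [← ShStab28.alpha_add, ← hsum]
      have e1 : alpha 1 (hilb k X H K) + alpha 1 (hilb k X H (Abelian.image g)) = alpha 1 (hilb k X H G) := by
        rw [← ShStab28.alpha_add, ← hsum]
      rw [e1, e2, h2]
      have h3 := mul_le_mul_of_nonneg_left (h.2.trans hIR) ha0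
      linarith
    · have := ih2 hK0 (kernel.ι g ≫ ι) inferInstance
      linarith

end Groth.Agent.LMSimple8
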