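import Groth.Agent.Lib.LMSimple8.TorsWeil

/-!
# Transporters out of a group with schematically dense torsion
-/

set_option autoImplicit false
set_option linter.style.haveILetI false
set_option linter.unusedSectionVars false
set_option backward.isDefEq.respectTransparency.types false
set_option maxHeartbeats 1600000

universe u

open CategoryTheory CategoryTheory.Limits AlgebraicGeometry MonObj MonoidalCategory CartesianMonoidalCategory

noncomputable section

namespace Groth.Agent.LMSimple8.TorsWeil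

variable {S : Scheme.{u}} {H G K : Over S} [GrpObj H] [GrpObj G]

/-- The conjugation `(h, g) ↦ g u(h) g⁻¹`. -/
def conj (u : H ⟶ G) : H ⊗ G ⟶ G := snd H G * (fst H G ≫ u) * (snd H G)⁻¹

theorem lift_conj (u : H ⟶ G) {X : Over S} (h : X ⟶ H) (g : X ⟶ G) :
    lift h g ≫ conj u = g * (h ≫ u) * g⁻¹ := by
  rw [conj, MonObj.comp_mul, MonObj.comp_mul, GrpObj.comp_inv, lift_snd, ← Category.assoc, lift_fst]

theorem transporter_closed [IsLocallyNoetherian S] [LocallyOfFiniteType H.hom] [LocallyOfFiniteType G.hom]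
    (E : Set ℕ) (hE : E.Nonempty) (hEmul : ∀ m ∈ E, ∀ n ∈ E, m * n ∈ E)
    (ha : ∀ n ∈ E, IsFinite (torsι H n ≫ H.hom) ∧ Flat (torsι H n ≫ H.hom))
    (hb : ∀ (s : S) (V : (H.hom.fiber s).Opens) (t : Γ(H.hom.fiber s, V)),
      (∀ n ∈ E, (MoreMor.fiberMap (torsι H n) H.hom s).app V t = 0) → t = 0)
    (u : H ⟶ G) (k : K ⟶ G) [IsClosedImmersion k.left] :
    (∃ (T : Over S) (j : T ⟶ G), IsClosedImmersion j.left ∧
      ∀ (X : Over S) (g : X ⟶ G), (∃ t : X ⟶ T, t ≫ j = g) ↔
        ∀ (X' : Over S) (x : X' ⟶ X) (h : X' ⟶ H), ∃ κ : X' ⟶ K, (x ≫ g) * (h ≫ u) * (x ≫ g)⁻¹ = κ ≫ k) ∧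
    (AlgebraicGeometry.IsNoetherian G.left → ∃ n ∈ E, ∀ (X : Over S) (g : X ⟶ G),
      (∀ (X' : Over S) (x : X' ⟶ X) (h : X' ⟶ H), ∃ κ : X' ⟶ K, (x ≫ g) * (h ≫ u) * (x ≫ g)⁻¹ = κ ≫ k) ↔
        ∀ (X' : Over S) (x : X' ⟶ X) (h : X' ⟶ H), h ^ n = 1 → ∃ κ : X' ⟶ K, (x ≫ g) * (h ≫ u) * (x ≫ g)⁻¹ = κ ≫ k) := by
  haveI : IsLocallyNoetherian G.left := LocallyOfFiniteType.isLocallyNoetherian G.hom
  let P := pullback H.hom G.hom
  let c : P ⟶ G.left := (conj u).left
  let Y := pullback k.left c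
  let y : Y ⟶ P := pullback.snd k.left c
  let f₀ : ∀ i : ULift.{u} ↥E, tors H i.down.1 ⟶ H.left := fun i => torsι H i.down.1
  let f : ∀ i : ULift.{u} ↥E, pullback (f₀ i ≫ H.hom) G.hom ⟶ P := fun i => bm H.hom f₀ i G.hom
  have hw : ∀ i, f i ≫ pullback.snd H.hom G.hom = pullback.snd (f₀ i ≫ H.hom) G.hom := fun i => by
    simp only [f, bm, pullback.map, pullback.lift_snd, Category.comp_id]
  have hfin : ∀ i, IsFinite (f i ≫ pullback.snd H.hom G.hom) := fun i => by
    rw [hw]; exact MorphismProperty.pullback_snd _ _ (ha _ i.down.2).1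
  have hflat : ∀ i, Flat (f i ≫ pullback.snd H.hom G.hom) := fun i => by
    rw [hw]; exact MorphismProperty.pullback_snd _ _ (ha _ i.down.2).2
  obtain ⟨⟨T, t, ht, hT⟩, hN⟩ := exists_closed_of_dense (pullback.snd H.hom G.hom) f y hfin hflat
    (dom_baseChange H.hom f₀ G.hom (tors_dom H E ha hb))
  -- the locus is the transporter
  have hfac : ∀ (X : Over S) (g : X ⟶ G), Fac (pullback.snd H.hom G.hom) y g.left ↔
      ∀ (X' : Over S) (x : X' ⟶ X) (h : X' ⟶ H), ∃ κ : X' ⟶ K, (x ≫ g) * (h ≫ u) * (x ≫ g)⁻¹ = κ ≫ k := by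
    intro X g
    constructor
    · rintro ⟨l, hl⟩ X' x h
      let w : X'.left ⟶ pullback (pullback.snd H.hom G.hom) g.left :=
        pullback.lift (lift h (x ≫ g)).left x.left (congrArg CommaMorphism.left (lift_snd h (x ≫ g)))
      have h1 : (w ≫ l ≫ pullback.fst k.left c) ≫ k.left = (lift h (x ≫ g) ≫ conj u).left := by
        rw [Over.comp_left, Category.assoc, Category.assoc, pullback.condition, reassoc_of% hl,
          pullback.lift_fst_assoc]
      refine ⟨Over.homMk (w ≫ l ≫ pullback.fst k.left c) ?_, ?_⟩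
      · rw [← Over.w k, ← Category.assoc, h1, Over.w]
      · rw [← lift_conj]
        exact Over.OverMorphism.ext h1.symm
    · intro hall
      let W : Over S := Over.mk (pullback.snd (pullback.snd H.hom G.hom) g.left ≫ X.hom)
      let x : W ⟶ X := Over.homMk (pullback.snd (pullback.snd H.hom G.hom) g.left) rfl
      let h : W ⟶ H := Over.homMk (pullback.fst (pullback.snd H.hom G.hom) g.left ≫ pullback.fst H.hom G.hom) (by
        show _ = pullback.snd _ g.left ≫ X.hom
        rw [Category.assoc, pullback.condition, ← Category.assoc, pullback.condition, Category.assoc, Over.w g])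
      obtain ⟨κ, hκ⟩ := hall W x h
      rw [← lift_conj] at hκ
      have h1 : (lift h (x ≫ g)).left = pullback.fst (pullback.snd H.hom G.hom) g.left := by
        apply pullback.hom_ext
        · exact congrArg CommaMorphism.left (lift_fst h (x ≫ g))
        · exact (congrArg CommaMorphism.left (lift_snd h (x ≫ g))).trans pullback.condition.symm
      refine ⟨pullback.lift κ.left (pullback.fst (pullback.snd H.hom G.hom) g.left) ?_, pullback.lift_snd _ _ _⟩
      rw [← Over.comp_left, ← hκ, Over.comp_left, h1]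
  -- one member
  have hfacI : ∀ (i : ULift.{u} ↥E) (X : Over S) (g : X ⟶ G), FacI (pullback.snd H.hom G.hom) f y i g.left ↔
      ∀ (X' : Over S) (x : X' ⟶ X) (h : X' ⟶ H), h ^ i.down.1 = 1 →
        ∃ κ : X' ⟶ K, (x ≫ g) * (h ≫ u) * (x ≫ g)⁻¹ = κ ≫ k := by
    intro i X g
    constructor
    · rintro ⟨l, hl⟩ X' x h hn
      obtain ⟨a, ha'⟩ := exists_tors_lift _ h hn
      let b : X'.left ⟶ pullback (f₀ i ≫ H.hom) G.hom :=
        pullback.lift a (x ≫ g).left (by rw [← Category.assoc, ha', Over.w h, Over.w (x ≫ g)])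
      have hb : b ≫ f i = (lift h (x ≫ g)).left := by
        apply pullback.hom_ext
        · rw [Category.assoc, bm_fst, ← Category.assoc, pullback.lift_fst, ha']
          exact (congrArg CommaMorphism.left (lift_fst h (x ≫ g))).symm
        · rw [Category.assoc, hw, pullback.lift_snd]
          exact (congrArg CommaMorphism.left (lift_snd h (x ≫ g))).symm
      let w : X'.left ⟶ pullback (f i ≫ pullback.snd H.hom G.hom) g.left :=
        pullback.lift b x.left (by rw [hw, pullback.lift_snd]; rfl)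
      have h1 : (w ≫ l ≫ pullback.fst k.left c) ≫ k.left = (lift h (x ≫ g) ≫ conj u).left := by
        rw [Over.comp_left, Category.assoc, Category.assoc, pullback.condition, reassoc_of% hl,
          pullback.lift_fst_assoc, reassoc_of% hb]
      refine ⟨Over.homMk (w ≫ l ≫ pullback.fst k.left c) ?_, ?_⟩
      · rw [← Over.w k, ← Category.assoc, h1, Over.w]
      · rw [← lift_conj]
        exact Over.OverMorphism.ext h1.symm
    · intro hall
      let s := pullback.snd (f i ≫ pullback.snd H.hom G.hom) g.left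
      let r := pullback.fst (f i ≫ pullback.snd H.hom G.hom) g.left
      let W : Over S := Over.mk (s ≫ X.hom)
      let a : W ⟶ Over.mk (f₀ i ≫ H.hom) := Over.homMk (r ≫ pullback.fst (f₀ i ≫ H.hom) G.hom) (by
        show _ = s ≫ X.hom
        rw [← Over.w g]
        show (r ≫ pullback.fst (f₀ i ≫ H.hom) G.hom) ≫ f₀ i ≫ H.hom = s ≫ g.left ≫ G.hom
        rw [Category.assoc, pullback.condition, ← hw, ← Category.assoc r, pullback.condition, Category.assoc])
      let x : W ⟶ X := Over.homMk s rfl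
      let h : W ⟶ H := a ≫ Over.homMk (f₀ i)
      have hn : h ^ i.down.1 = 1 := by
        rw [← MonObj.comp_pow, tors_pow, MonObj.comp_one]
      obtain ⟨κ, hκ⟩ := hall W x h hn
      rw [← lift_conj] at hκ
      have h1 : (lift h (x ≫ g)).left = r ≫ f i := by
        apply pullback.hom_ext
        · rw [Category.assoc, bm_fst, ← Category.assoc]
          exact congrArg CommaMorphism.left (lift_fst h (x ≫ g))
        · rw [Category.assoc]
          exact (congrArg CommaMorphism.left (lift_snd h (x ≫ g))).trans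
            (pullback.condition (f := f i ≫ pullback.snd H.hom G.hom) (g := g.left)).symm
      refine ⟨pullback.lift κ.left (r ≫ f i) ?_, pullback.lift_snd _ _ _⟩
      rw [← Over.comp_left, ← hκ, Over.comp_left, h1]
  refine ⟨⟨Over.mk (t ≫ G.hom), Over.homMk t, ht, fun X g => ?_⟩, fun hG => ?_⟩
  · rw [← hfac, ← hT]
    constructor
    · rintro ⟨z, rfl⟩; exact ⟨z.left, rfl⟩
    · rintro ⟨z, hz⟩
      exact ⟨Over.homMk z (by show z ≫ t ≫ G.hom = X.hom; rw [reassoc_of% hz, Over.w g]), Over.OverMorphism.ext hz⟩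
  · obtain ⟨i, hi⟩ := hN hG (hE.elim fun n hn => ⟨⟨⟨n, hn⟩⟩⟩) fun i j => by
      obtain ⟨a, ha'⟩ := exists_tors_map H (dvd_mul_right i.down.1 j.down.1)
      obtain ⟨b, hb'⟩ := exists_tors_map H (dvd_mul_left j.down.1 i.down.1)
      let m : ULift.{u} ↥E := ⟨⟨i.down.1 * j.down.1, hEmul _ i.down.2 _ j.down.2⟩⟩
      have key : ∀ (l : ULift.{u} ↥E) (a : tors H l.down.1 ⟶ tors H m.down.1), a ≫ f₀ m = f₀ l →
          ∃ a' : pullback (f₀ l ≫ H.hom) G.hom ⟶ pullback (f₀ m ≫ H.hom) G.hom, a' ≫ f m = f l := fun l a ha => by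
        refine ⟨pullback.map _ _ _ _ a (𝟙 _) (𝟙 _) (by rw [Category.comp_id, reassoc_of% ha]) (by simp), ?_⟩
        apply pullback.hom_ext
        · rw [Category.assoc, bm_fst, bm_fst, pullback.lift_fst_assoc, Category.assoc, ha]
        · rw [Category.assoc, hw, hw, pullback.lift_snd, Category.comp_id]
      obtain ⟨a', ha''⟩ := key i a ha'
      obtain ⟨b', hb''⟩ := key j b hb'
      exact ⟨m, a', b', ha'', hb''⟩
    exact ⟨i.down.1, i.down.2, fun X g => by rw [← hfac, ← hfacI, hi]⟩

end Groth.Agent.LMSimple8.TorsWeil
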