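import Groth.Agent.S4876
import Groth.Agent.Lib.PicSep22.Weil
import Groth.Agent.Lib.SecDiv18.Peel
import Mathlib.CategoryTheory.Monoidal.Cartesian.Grp
import Mathlib.CategoryTheory.Monoidal.Cartesian.Over

/-!
# Closed Weil restriction along a schematically dense family of finite flat subschemes
-/

set_option autoImplicit false
set_option linter.style.haveILetI false
set_option linter.unusedSectionVars false
set_option backward.isDefEq.respectTransparency.types false
set_option maxHeartbeats 800000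

universe u

open CategoryTheory CategoryTheory.Limits AlgebraicGeometry

noncomputable section

namespace Groth.Agent.LMSimple8.TorsWeil

/-- A schematically dominant family. -/
def Dom {P : Scheme.{u}} {ι : Type u} {W : ι → Scheme.{u}} (m : ∀ i, W i ⟶ P) : Prop :=
  ∀ (V : P.Opens) (t : Γ(P, V)), (∀ i, (m i).app V t = 0) → t = 0

theorem app_eq_zero_of_comp {A B C : Scheme.{u}} (k : A ⟶ B) (y : B ⟶ C) (m : A ⟶ C) (h : k ≫ y = m)
    (V : C.Opens) (t : Γ(C, V)) (ht : y.app V t = 0) : m.app V t = 0 := by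
  subst h
  show k.app (y ⁻¹ᵁ V) (y.app V t) = 0
  rw [ht, map_zero]

theorem app_injective_of_isIso {A B : Scheme.{u}} (e : A ⟶ B) [IsIso e] (V : B.Opens) :
    Function.Injective (e.app V) :=
  (ConcreteCategory.bijective_of_isIso (e.app V)).1

/-- Schematic dominance moves along isomorphisms. -/
theorem Dom.of_iso {P P' : Scheme.{u}} {ι : Type u} {W W' : ι → Scheme.{u}} {m : ∀ i, W i ⟶ P}
    (h : Dom m) (e : P ⟶ P') [IsIso e] (eW : ∀ i, W i ⟶ W' i) [∀ i, IsIso (eW i)] (m' : ∀ i, W' i ⟶ P')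
    (he : ∀ i, eW i ≫ m' i = m i ≫ e) : Dom m' := by
  intro V t ht
  refine app_injective_of_isIso e V ?_
  rw [map_zero]
  refine h _ _ fun i => ?_
  exact app_eq_zero_of_comp (eW i) (m' i) (m i ≫ e) (he i) V t (ht i)

/-- A closed subscheme through which a dominant family factors is everything. -/
theorem exists_section_of_dom {P Y : Scheme.{u}} {ι : Type u} {W : ι → Scheme.{u}} {m : ∀ i, W i ⟶ P}
    (h : Dom m) (y : Y ⟶ P) [IsClosedImmersion y] (hfac : ∀ i, ∃ l, l ≫ y = m i) : ∃ l, l ≫ y = 𝟙 P := by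
  refine ⟨IsClosedImmersion.lift y (𝟙 P) ?_, IsClosedImmersion.lift_fac _ _ _⟩
  refine Scheme.IdealSheafData.le_def.2 fun V t ht => ?_
  rw [Scheme.Hom.ker_apply] at ht
  have h0 : t = 0 := h V.1 t fun i => by
    obtain ⟨l, hl⟩ := hfac i
    exact app_eq_zero_of_comp l y _ hl _ _ ht
  rw [h0]
  exact zero_mem _

theorem factor_iff {T X S : Scheme.{u}} (t : T ⟶ S) [IsClosedImmersion t] (g : X ⟶ S) :
    (∃ l, l ≫ t = g) ↔ t.ker ≤ g.ker :=
  ⟨fun ⟨l, hl⟩ => hl ▸ Scheme.Hom.le_ker_comp l t, fun h => ⟨_, IsClosedImmersion.lift_fac t g h⟩⟩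

variable {S H : Scheme.{u}} (p : H ⟶ S) {ι : Type u} {Z : ι → Scheme.{u}} (f : ∀ i, Z i ⟶ H)

/-- The base change of the family. -/
abbrev bm (i : ι) {S' : Scheme.{u}} (g : S' ⟶ S) : pullback (f i ≫ p) g ⟶ pullback p g :=
  pullback.map (f i ≫ p) g p g (f i) (𝟙 S') (𝟙 S) (Category.comp_id _) ((Category.comp_id _).trans (Category.id_comp _).symm)

variable {Y : Scheme.{u}} (y : Y ⟶ H)

/-- The base change of the whole factors. -/
def Fac {S' : Scheme.{u}} (g : S' ⟶ S) : Prop := ∃ l : pullback p g ⟶ Y, l ≫ y = pullback.fst p g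

/-- The base change of one member factors. -/
def FacI (i : ι) {S' : Scheme.{u}} (g : S' ⟶ S) : Prop :=
  ∃ l : pullback (f i ≫ p) g ⟶ Y, l ≫ y = pullback.fst (f i ≫ p) g ≫ f i

theorem bm_fst (i : ι) {S' : Scheme.{u}} (g : S' ⟶ S) :
    bm p f i g ≫ pullback.fst p g = pullback.fst (f i ≫ p) g ≫ f i := pullback.lift_fst _ _ _

theorem fac_iff_forall [IsClosedImmersion y]
    (hdom : ∀ (S' : Scheme.{u}) (g : S' ⟶ S), Dom fun i => bm p f i g) {S' : Scheme.{u}} (g : S' ⟶ S) :
    Fac p y g ↔ ∀ i, FacI p f y i g := by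
  constructor
  · rintro ⟨l, hl⟩ i
    exact ⟨bm p f i g ≫ l, by rw [Category.assoc, hl, bm_fst]⟩
  · intro h
    let y' : pullback y (pullback.fst p g) ⟶ pullback p g := pullback.snd _ _
    obtain ⟨l, hl⟩ := exists_section_of_dom (hdom S' g) y' fun i => by
      obtain ⟨k, hk⟩ := h i
      exact ⟨pullback.lift k (bm p f i g) (by rw [hk, bm_fst]), pullback.lift_snd _ _ _⟩
    refine ⟨l ≫ pullback.fst _ _, ?_⟩
    rw [Category.assoc, pullback.condition, ← Category.assoc, hl, Category.id_comp]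

theorem exists_locus [IsLocallyNoetherian S] [IsClosedImmersion y] (i : ι) [IsFinite (f i ≫ p)] [Flat (f i ≫ p)] :
    ∃ (Q : Scheme.{u}) (q : Q ⟶ S), IsClosedImmersion q ∧
      ∀ (S' : Scheme.{u}) (g : S' ⟶ S), (∃ l, l ≫ q = g) ↔ FacI p f y i g := by
  haveI : LocallyOfFinitePresentation (f i ≫ p) := LocallyOfFinitePresentation.iff_locallyOfFiniteType.2 inferInstance
  obtain ⟨Q, q, hq, hQ⟩ := PicSep22.exists_weil (f i ≫ p) (pullback.snd y (f i))
  refine ⟨Q, q, hq, fun S' g => (hQ S' g).trans ⟨?_, ?_⟩⟩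
  · rintro ⟨z, hz⟩
    exact ⟨z ≫ pullback.fst _ _, by rw [Category.assoc, pullback.condition, ← Category.assoc, hz]⟩
  · rintro ⟨l, hl⟩
    exact ⟨pullback.lift l (pullback.fst (f i ≫ p) g) hl, pullback.lift_snd _ _ _⟩

theorem facI_mono {i j : ι} (a : Z i ⟶ Z j) (ha : a ≫ f j = f i) {S' : Scheme.{u}} (g : S' ⟶ S)
    (h : FacI p f y j g) : FacI p f y i g := by
  obtain ⟨l, hl⟩ := h
  refine ⟨pullback.map (f i ≫ p) g (f j ≫ p) g a (𝟙 _) (𝟙 _) (by rw [Category.comp_id, reassoc_of% ha]) (by simp) ≫ l, ?_⟩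
  rw [Category.assoc, hl, pullback.lift_fst_assoc, Category.assoc, ha]

/-- The locus where the whole factors through a closed subscheme is closed, cut out by one member over a
noetherian base. -/
theorem exists_closed_of_dense [IsLocallyNoetherian S] [IsClosedImmersion y]
    (hfin : ∀ i, IsFinite (f i ≫ p)) (hflat : ∀ i, Flat (f i ≫ p))
    (hdom : ∀ (S' : Scheme.{u}) (g : S' ⟶ S), Dom fun i => bm p f i g) :
    (∃ (T : Scheme.{u}) (t : T ⟶ S), IsClosedImmersion t ∧
      ∀ (S' : Scheme.{u}) (g : S' ⟶ S), (∃ g', g' ≫ t = g) ↔ Fac p y g) ∧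
    (IsNoetherian S → Nonempty ι → (∀ i j, ∃ (k : ι) (a : Z i ⟶ Z k) (b : Z j ⟶ Z k), a ≫ f k = f i ∧ b ≫ f k = f j) →
      ∃ i, ∀ (S' : Scheme.{u}) (g : S' ⟶ S), Fac p y g ↔ FacI p f y i g) := by
  haveI := hfin; haveI := hflat
  choose Q q hq hQ using fun i => exists_locus p f y i
  haveI := hq
  let K : ι → S.IdealSheafData := fun i => (q i).ker
  have hK : ∀ {S' : Scheme.{u}} (g : S' ⟶ S), Fac p y g ↔ (⨆ i, K i) ≤ g.ker := fun g => by
    rw [fac_iff_forall p f y hdom, iSup_le_iff]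
    exact forall_congr' fun i => by rw [← hQ, factor_iff]
  refine ⟨⟨_, (⨆ i, K i).subschemeι, inferInstance, fun S' g => ?_⟩, fun hS hne hdir => ?_⟩
  · rw [factor_iff, Scheme.IdealSheafData.ker_subschemeι, hK]
  haveI := hS
  haveI := SecDiv.wellFoundedGT (X := S)
  obtain ⟨-, ⟨i, rfl⟩, hmax⟩ := (wellFounded_gt (α := S.IdealSheafData)).has_min (Set.range K) ⟨_, hne.some, rfl⟩
  refine ⟨i, fun S' g => ?_⟩
  rw [hK, ← hQ, factor_iff]
  refine ⟨fun h => (le_iSup K i).trans h, fun h => le_trans (iSup_le fun j => ?_) h⟩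
  obtain ⟨k, a, b, ha, hb⟩ := hdir i j
  have hle : ∀ {l : ι} (c : Z l ⟶ Z k), c ≫ f k = f l → K l ≤ K k := fun {l} c hc =>
    (factor_iff (q l) (q k)).1 ((hQ l _ _).2 (facI_mono p f y c hc _ ((hQ k _ _).1 ⟨𝟙 _, Category.id_comp _⟩)))
  rcases (hle a ha).eq_or_lt with he | hlt
  · exact (hle b hb).trans he.ge
  · exact absurd hlt (hmax _ ⟨k, rfl⟩)

section BaseChange

variable {S₁ : Scheme.{u}} (q : S₁ ⟶ S)

/-- A universally dominant family stays so over another base. -/
theorem dom_baseChange (hdom : ∀ (S' : Scheme.{u}) (g : S' ⟶ S), Dom fun i => bm p f i g)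
    (S' : Scheme.{u}) (g : S' ⟶ S₁) : Dom fun i => bm (pullback.snd p q) (fun i => bm p f i q) i g := by
  have hw : ∀ i, bm p f i q ≫ pullback.snd p q = pullback.snd (f i ≫ p) q := fun i => by
    rw [pullback.lift_snd, Category.comp_id]
  let eW : ∀ i, pullback (f i ≫ p) (g ≫ q) ⟶ pullback (bm p f i q ≫ pullback.snd p q) g := fun i =>
    (pullbackLeftPullbackSndIso (f i ≫ p) q g).inv ≫ (pullback.congrHom (hw i) rfl).inv
  refine (hdom S' (g ≫ q)).of_iso (pullbackLeftPullbackSndIso p q g).inv eW _ fun i => ?_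
  apply pullback.hom_ext
  · apply pullback.hom_ext <;> simp only [eW, bm, pullback.congrHom_inv, pullback.map, Category.assoc, pullback.lift_fst, pullback.lift_snd, pullback.lift_fst_assoc, pullback.lift_snd_assoc, pullbackLeftPullbackSndIso_inv_fst, pullbackLeftPullbackSndIso_inv_fst_assoc, pullbackLeftPullbackSndIso_inv_fst_snd, pullbackLeftPullbackSndIso_inv_fst_snd_assoc, pullbackLeftPullbackSndIso_inv_snd_snd, pullbackLeftPullbackSndIso_inv_snd_snd_assoc, Category.comp_id, Category.id_comp]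
  · simp only [eW, bm, pullback.congrHom_inv, pullback.map, Category.assoc, pullback.lift_fst, pullback.lift_snd, pullback.lift_fst_assoc, pullback.lift_snd_assoc, pullbackLeftPullbackSndIso_inv_snd_snd, pullbackLeftPullbackSndIso_inv_snd_snd_assoc, Category.comp_id, Category.id_comp]

end BaseChange

open MonObj MonoidalCategory CartesianMonoidalCategory

/-- The `n`-torsion of a group scheme. -/
abbrev tors {S : Scheme.{u}} (H : Over S) [GrpObj H] (n : ℕ) : Scheme.{u} :=
  pullback η[H].left (𝟙 H ^ n : H ⟶ H).left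

/-- Its embedding. -/
abbrev torsι {S : Scheme.{u}} (H : Over S) [GrpObj H] (n : ℕ) : tors H n ⟶ H.left :=
  pullback.snd η[H].left (𝟙 H ^ n : H ⟶ H).left

theorem left_one {S : Scheme.{u}} {H X : Over S} [GrpObj H] : (1 : X ⟶ H).left = X.hom ≫ η[H].left := by
  rw [Hom.one_def]
  rfl

theorem tors_fst {S : Scheme.{u}} (H : Over S) [GrpObj H] (n : ℕ) :
    pullback.fst η[H].left (𝟙 H ^ n : H ⟶ H).left = torsι H n ≫ H.hom := by
  have h := congrArg (· ≫ H.hom) (pullback.condition (f := η[H].left) (g := (𝟙 H ^ n : H ⟶ H).left))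
  simp only [Category.assoc, Over.w] at h
  exact (Category.comp_id _).symm.trans h

/-- Points killed by `n` are points of the torsion. -/
theorem exists_tors_lift {S : Scheme.{u}} {H X : Over S} [GrpObj H] (n : ℕ) (h : X ⟶ H) (hn : h ^ n = 1) :
    ∃ l : X.left ⟶ tors H n, l ≫ torsι H n = h.left := by
  refine ⟨pullback.lift X.hom h.left ?_, pullback.lift_snd _ _ _⟩
  rw [← left_one, ← Over.comp_left, MonObj.comp_pow, Category.comp_id, hn]

/-- The torsion is killed. -/
theorem tors_pow {S : Scheme.{u}} (H : Over S) [GrpObj H] (n : ℕ) :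
    (Over.homMk (torsι H n) : Over.mk (torsι H n ≫ H.hom) ⟶ H) ^ n = 1 := by
  apply Over.OverMorphism.ext
  rw [← Category.comp_id (Over.homMk (torsι H n) : Over.mk (torsι H n ≫ H.hom) ⟶ H), ← MonObj.comp_pow,
    Over.comp_left, left_one]
  show torsι H n ≫ _ = (torsι H n ≫ H.hom) ≫ η[H].left
  rw [← tors_fst, ← pullback.condition]

/-- Torsion subschemes grow along divisibility. -/
theorem exists_tors_map {S : Scheme.{u}} (H : Over S) [GrpObj H] {m n : ℕ} (h : m ∣ n) :
    ∃ a : tors H m ⟶ tors H n, a ≫ torsι H n = torsι H m := by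
  obtain ⟨c, rfl⟩ := h
  exact exists_tors_lift (X := Over.mk (torsι H m ≫ H.hom)) (m * c) (Over.homMk (torsι H m)) (by
    rw [pow_mul, tors_pow, one_pow])

/-- The hypotheses of the torsion setting give a universally dominant finite flat family. -/
theorem tors_dom {S : Scheme.{u}} [IsLocallyNoetherian S] (H : Over S) [GrpObj H] [LocallyOfFiniteType H.hom]
    (E : Set ℕ) (ha : ∀ n ∈ E, IsFinite (torsι H n ≫ H.hom) ∧ Flat (torsι H n ≫ H.hom))
    (hb : ∀ (s : S) (V : (H.hom.fiber s).Opens) (t : Γ(H.hom.fiber s, V)),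
      (∀ n ∈ E, (MoreMor.fiberMap (torsι H n) H.hom s).app V t = 0) → t = 0)
    (S' : Scheme.{u}) (g : S' ⟶ S) :
    Dom fun i : ULift.{u} ↥E => bm H.hom (fun i : ULift.{u} ↥E => torsι H i.down.1) i g := by
  haveI : IsLocallyNoetherian H.left := LocallyOfFiniteType.isLocallyNoetherian H.hom
  haveI : ∀ i : ULift.{u} ↥E, Flat (torsι H i.down.1 ≫ H.hom) := fun i => (ha _ i.down.2).2
  exact (Groth.Agent.S4876.result H.hom (fun i : ULift.{u} ↥E => tors H i.down.1)
    (fun i => torsι H i.down.1)).2 (fun s V t ht => hb s V t fun n hn => ht ⟨⟨n, hn⟩⟩) S' g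

end Groth.Agent.LMSimple8.TorsWeil
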