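import Groth.Agent.Lib.LMSimple8.Ext2
import Groth.Agent.Lib.LMSimple8.Sat4
import Groth.Agent.Lib.CMReg18.Proj
import Groth.Agent.Lib.RankTwo11.Proj
import Groth.Agent.Lib.NumPoly18.Apps
import Groth.Agent.Lib.NumPoly18.InterLen
import Groth.Agent.Lib.TensorMod.IdealMod
import Groth.Agent.Lib.SurfRR10.Proj

/-!
# Line subsheaves of extensions by twisted ideals
-/

set_option autoImplicit false
set_option linter.style.haveILetI false
set_option linter.unusedSectionVars false
set_option backward.isDefEq.respectTransparency false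
set_option backward.isDefEq.respectTransparency.types false
set_option maxHeartbeats 1600000

universe u

open CategoryTheory CategoryTheory.Limits AlgebraicGeometry TopologicalSpace Opposite

noncomputable section

namespace Groth.Agent.LMSimple8

open Groth.Agent.RH26 (str gsp R1 InStalk Closed1)

variable {X : Scheme.{u}} [IsIntegral X]

/-- Maps extend along the hull of a rank one module. -/
theorem exists_ext_hull [IsLocallyNoetherian X] {G M V : X.Modules} (hV : Closed1 V) (β : G ⟶ M)
    (hη : Function.Bijective (RefHull.stalkMapₗ β (genericPoint X)))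
    (h1 : ∀ x : X, ringKrullDim (X.presheaf.stalk x) = 1 → Function.Surjective (RefHull.stalkMapₗ β x))
    (g : G ⟶ V) :
    ∃ α : M ⟶ V, ∀ a, RefHull.stalkMapₗ α (genericPoint X) (RefHull.stalkMapₗ β (genericPoint X) a) =
      RefHull.stalkMapₗ g (genericPoint X) a := by
  let eβ := LinearEquiv.ofBijective (RefHull.stalkMapₗ β (genericPoint X)) hη
  obtain ⟨α, hα⟩ := RH26.exists_hom_of_generic hV
    ((RefHull.stalkMapₗ g (genericPoint X)).comp eβ.symm.toLinearMap) fun x hx a ha => by
      obtain ⟨v, hv⟩ := ha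
      obtain ⟨w, rfl⟩ := h1 x hx v
      refine ⟨RefHull.stalkMapₗ g x w, ?_⟩
      rw [RH26.stalkMapₗ_stalkSpecializes]
      show _ = RefHull.stalkMapₗ g (genericPoint X) (eβ.symm a)
      congr 1
      refine eβ.eq_symm_apply.2 ?_
      rw [← hv]
      exact (RH26.stalkMapₗ_stalkSpecializes β (gsp x) w).symm
  refine ⟨α, fun a => (hα _).trans ?_⟩
  show RefHull.stalkMapₗ g _ (eβ.symm (eβ a)) = _
  rw [eβ.symm_apply_apply]

/-- Some section of the hyperplane bundle is nonzero. -/
theorem exists_sec_ne_zero [IsLocallyNoetherian X] (D : CMReg18.TwistData X) : ∃ s : Coh.structureModule X ⟶ D.O 1, s ≠ 0 := by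
  obtain ⟨i, hi⟩ := D.gen (genericPoint X)
  refine ⟨D.sec i, fun h0 => ?_⟩
  obtain ⟨U, hU, hiso⟩ := Twist.exists_of_mem_genLocus hi
  rw [h0] at hiso
  haveI := hiso
  have hz : IsZero ((Scheme.Modules.restrictFunctor U.ι).obj (Coh.structureModule X)) := by
    rw [IsZero.iff_id_eq_zero, ← cancel_mono ((Scheme.Modules.restrictFunctor U.ι).map
      (0 : Coh.structureModule X ⟶ D.O 1))]
    rw [Functor.map_zero, comp_zero, comp_zero]
  haveI : Subsingleton (((Scheme.Modules.restrictFunctor U.ι).obj (Coh.structureModule X)).presheaf.stalk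
      (⟨genericPoint X, hU⟩ : U)) :=
    AddCommGrpCat.subsingleton_of_isZero ((M1.stalkAb _).map_isZero hz)
  haveI : Subsingleton ((Coh.structureModule X).presheaf.stalk (genericPoint X)) := not_not.1 fun hns =>
    ((M1.subsingleton_stalk_restrict_iff U.ι (Coh.structureModule X) ⟨genericPoint X, hU⟩).2 hns) ‹_›
  exact RH26.str_one_ne_zero (X := X) (Subsingleton.elim _ _)

/-- Injective maps between the twists. -/
theorem exists_twist_mono [IsLocallyNoetherian X] (hX : Pi1.IsNormalScheme X) (D : CMReg18.TwistData X) :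
    ∀ m : ℕ, ∃ c : D.O 1 ⟶ D.O (1 + m), Mono c
  | 0 => ⟨eqToHom (by norm_num), inferInstance⟩
  | m + 1 => by
    obtain ⟨c, hc⟩ := exists_twist_mono hX D m
    obtain ⟨s, hs⟩ := exists_sec_ne_zero D
    have hO := PicLoc.isInvertible_structureModule X
    have hOR := Div21F12.r1_of_invertible hX hO (Snapper.isCoh_of_isInvertible hO)
    have hBR := Div21F12.r1_of_invertible hX (D.inv 1) (Snapper.isCoh_of_isInvertible (D.inv 1))
    haveI : Mono s := mono_of_injective_η hOR.closed.1 s (injective_of_ne_zero hBR.closed hOR.gen s hs)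
    haveI := VB17.isEquivalence_tensorR (D.inv (1 + (m : ℤ)))
    haveI : Mono ((M2.tensorR (D.O (1 + (m : ℤ)))).map s) := Functor.map_mono _ _
    haveI := hc
    exact ⟨c ≫ (M2.tensorLUnit _).inv ≫ (M2.tensorR (D.O (1 + (m : ℤ)))).map s ≫ (D.add 1 (1 + (m : ℤ))).hom ≫
      eqToHom (congrArg D.O (by push_cast; ring)), inferInstance⟩

/-- The classes of the twists form a homomorphism. -/
def twistHom {X : Scheme.{u}} [PicGrp.Law X] (D : CMReg18.TwistData X) : Multiplicative ℤ →* PicLoc.PicSet X :=
  MonoidHom.mk' (fun a => PicGrp.cls (D.O a.toAdd) (D.inv _)) fun a b => by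
    refine ((PicGrp.cls_eq_cls_iff (D.inv _) (M2.isInvertible_tensor (D.inv a.toAdd) (D.inv b.toAdd))).2
      ⟨(D.add a.toAdd b.toAdd).symm⟩).trans (Subtype.ext ?_)
    rw [PicGrp.cls_mul_cls_val]
    rfl

/-- The class of a twist is a power of the class of `O(1)`. -/
theorem cls_twist {X : Scheme.{u}} [PicGrp.Law X] (D : CMReg18.TwistData X) (n : ℤ) :
    PicGrp.cls (D.O n) (D.inv n) = PicGrp.cls (D.O 1) (D.inv 1) ^ n :=
  MonoidHom.apply_mint _ (twistHom D) (Multiplicative.ofAdd n)

/-- A twisted ideal of a finite subscheme inside the twist. -/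
theorem exists_idealTwist_incl {k : Type u} [Field k] {X : Scheme.{u}} [X.Over (Spec (CommRingCat.of k))]
    [IsProper (X ↘ Spec (CommRingCat.of k))] (Z : X.IdealSheafData) (hfin : (Z.support : Set X).Finite)
    {B : X.Modules} (hB : PicF.IsInvertible B) :
    ∃ j : CohB1.tensorMod (ClSub.idealMod Z) B ⟶ B, Mono j ∧
      topologicalKrullDim (CohB1.support (cokernel j)) ≤ 0 := by
  haveI := VB17.isEquivalence_tensorR hB
  let T := M2.tensorR B
  haveI : Mono (ClSub.idealModι Z) := inferInstanceAs (Mono (kernel.ι (ClSub.toSubscheme Z)))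
  haveI : Mono (T.map (ClSub.idealModι Z)) := Functor.map_mono _ _
  let j : CohB1.tensorMod (ClSub.idealMod Z) B ⟶ B := T.map (ClSub.idealModι Z) ≫ (M2.tensorLUnit B).hom
  refine ⟨j, mono_comp _ _, ?_⟩
  have hS := M2.shortExact_idealMod Z
  haveI := hS.epi_g
  let q : cokernel (ClSub.idealModι Z) ≅ ClSub.quotMod Z :=
    (colimit.isColimit _).coconePointUniqueUpToIso hS.exact.gIsCokernel
  let e : cokernel j ≅ CohB1.tensorMod (ClSub.quotMod Z) B :=
    cokernelCompIsIso (T.map (ClSub.idealModι Z)) (M2.tensorLUnit B).hom ≪≫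
      (PreservesCokernel.iso T (ClSub.idealModι Z)).symm ≪≫ T.mapIso q
  have hsub : CohB1.support (cokernel j) ⊆ (Z.support : Set X) := ?_
  · exact ((Topology.IsEmbedding.inclusion hsub).isInducing.topologicalKrullDim_le).trans
      (by exact_mod_cast InterLen.dim_le_zero_of_finite (k := k) Z.support.isClosed hfin)
  intro x hx
  by_contra hxZ
  refine hx ?_
  have h0 : ∀ a : (ClSub.quotMod Z).presheaf.stalk x, a = 0 :=
    CurveCoh17.stalk_eq_zero_of_notMem_support fun h => hxZ (NumPoly18.support_quotMod_subset Z h)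
  haveI : Subsingleton (TensorProduct (X.presheaf.stalk x) ((ClSub.quotMod Z).presheaf.stalk x) (B.presheaf.stalk x)) :=
    subsingleton_of_forall_eq 0 fun z => by
      induction z using TensorProduct.induction_on with
      | zero => rfl
      | tmul a b => rw [h0 a, TensorProduct.zero_tmul]
      | add a b ha hb => rw [ha, hb, add_zero]
  haveI : Subsingleton ((CohB1.tensorMod (ClSub.quotMod Z) B).presheaf.stalk x) :=
    (M2.stalkEquiv _ _ x).toEquiv.subsingleton
  haveI : Subsingleton ((M1.stalkAb x).obj (CohB1.tensorMod (ClSub.quotMod Z) B)) :=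
    (inferInstanceAs (Subsingleton ((CohB1.tensorMod (ClSub.quotMod Z) B).presheaf.stalk x)) : _)
  exact ((M1.stalkAb x).mapIso e).addCommGroupIsoToAddEquiv.toEquiv.subsingleton

end Groth.Agent.LMSimple8
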